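import Mathlib

/-!
The complex points where a nonzero element of an integral finitely generated `ℂ`-algebra does not vanish are dense for
the classical topology.
-/

set_option autoImplicit false
set_option linter.style.haveILetI false
set_option linter.unusedSectionVars false

open Filter Topology Polynomial

noncomputable section

namespace Groth.Agent.H05EGA4.AlgDensity

/-- A monic complex polynomial with small constant term has a small root. -/
theorem exists_root_norm_lt {q : ℂ[X]} (hq : q.Monic) (hdeg : 0 < q.natDegree) {ε : ℝ} (hε : 0 < ε)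
    (h : ‖q.coeff 0‖ < ε ^ q.natDegree) : ∃ r, q.IsRoot r ∧ ‖r‖ < ε := by
  by_contra hne
  simp only [not_exists, not_and, not_lt] at hne
  have hs : q.Splits := IsAlgClosed.splits q
  have hcard : Multiset.card q.roots = q.natDegree := IsAlgClosed.card_roots_eq_natDegree
  have hprod : ‖q.coeff 0‖ = (q.roots.map fun r => ‖r‖).prod := by
    rw [hs.coeff_zero_eq_prod_roots_of_monic hq, norm_mul, norm_pow, norm_neg, norm_one, one_pow, one_mul,
      show ‖q.roots.prod‖ = normHom q.roots.prod from rfl, map_multiset_prod]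
    rfl
  refine absurd h (not_lt.mpr ?_)
  rw [hprod, ← hcard]
  clear hprod hcard h
  have hall : ∀ r ∈ q.roots, ε ≤ ‖r‖ := fun r hr => hne r (isRoot_of_mem_roots hr)
  revert hall
  generalize q.roots = m
  intro hall
  induction m using Multiset.induction with
  | empty => simp
  | cons a m ih =>
    rw [Multiset.map_cons, Multiset.prod_cons, Multiset.card_cons, pow_succ']
    exact mul_le_mul (hall a (Multiset.mem_cons_self _ _)) (ih fun r hr => hall r (Multiset.mem_cons_of_mem hr))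
      (pow_nonneg hε.le _) (norm_nonneg _)

/-- The roots of a monic polynomial are bounded by its coefficients. -/
theorem norm_le_of_isRoot {q : ℂ[X]} (hq : q.Monic) {r : ℂ} (hr : q.IsRoot r) :
    ‖r‖ ≤ 1 + ∑ j ∈ Finset.range q.natDegree, ‖q.coeff j‖ := by
  have hS : 0 ≤ ∑ j ∈ Finset.range q.natDegree, ‖q.coeff j‖ := Finset.sum_nonneg fun _ _ => norm_nonneg _
  rcases le_or_gt ‖r‖ 1 with h1 | h1
  · exact h1.trans (le_add_of_nonneg_right hS)
  have hdeg : q.natDegree ≠ 0 := fun h0 => by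
    rw [Monic.natDegree_eq_zero hq] at h0
    simp [h0, IsRoot] at hr
  obtain ⟨k, hk⟩ := Nat.exists_eq_succ_of_ne_zero hdeg
  have h := hr
  rw [IsRoot, eval_eq_sum_range, Finset.sum_range_succ, hq.coeff_natDegree, one_mul, add_eq_zero_iff_eq_neg'] at h
  have h2 : ‖r‖ ^ (k + 1) ≤ (∑ j ∈ Finset.range q.natDegree, ‖q.coeff j‖) * ‖r‖ ^ k := by
    rw [← norm_pow, show k + 1 = q.natDegree from hk.symm, h, norm_neg, Finset.sum_mul]
    refine (norm_sum_le _ _).trans (Finset.sum_le_sum fun j hj => ?_)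
    rw [norm_mul, norm_pow]
    exact mul_le_mul_of_nonneg_left (pow_le_pow_right₀ h1.le (by rw [hk] at hj; exact Nat.lt_succ_iff.mp (Finset.mem_range.mp hj))) (norm_nonneg _)
  rw [pow_succ'] at h2
  exact (le_of_mul_le_mul_right h2 (pow_pos (zero_lt_one.trans h1) k)).trans (le_add_of_nonneg_left zero_le_one)

theorem exists_seq_ne_zero {d : ℕ} (h : MvPolynomial (Fin d) ℂ) (hh : h ≠ 0) (p : Fin d → ℂ) :
    ∃ t : ℕ → (Fin d → ℂ), Tendsto t atTop (𝓝 p) ∧ ∀ k, MvPolynomial.eval (t k) h ≠ 0 := by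
  obtain ⟨w, hw⟩ : ∃ w, MvPolynomial.eval w h ≠ 0 := by
    by_contra hne
    simp only [not_exists, not_not] at hne
    exact hh (MvPolynomial.funext fun z => by rw [hne, map_zero])
  let q : ℂ[X] := MvPolynomial.aeval (fun j => C (p j) + C (w j - p j) * X) h
  have hq : ∀ s : ℂ, q.eval s = MvPolynomial.eval (fun j => p j + (w j - p j) * s) h := fun s => by
    show Polynomial.aeval s (MvPolynomial.aeval _ h) = _
    rw [← AlgHom.comp_apply, MvPolynomial.comp_aeval, MvPolynomial.aeval_eq_eval]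
    simp
  have hq0 : q ≠ 0 := fun h0 => hw (by
    have := hq 1
    rw [h0, eval_zero] at this
    simpa using this.symm)
  have ht : Tendsto (fun k : ℕ => ((1 : ℝ) / (k + 1) : ℝ)) atTop (𝓝 0) := tendsto_one_div_add_atTop_nhds_zero_nat
  have hinj : Function.Injective fun k : ℕ => (((1 : ℝ) / (k + 1) : ℝ) : ℂ) := fun a b hab => by
    have hab' : (1 : ℝ) / (a + 1) = 1 / (b + 1) := Complex.ofReal_injective hab
    field_simp at hab'
    exact_mod_cast (by linarith : (a : ℝ) = b)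
  have hfin : {k : ℕ | q.IsRoot (((1 : ℝ) / (k + 1) : ℝ) : ℂ)}.Finite :=
    (finite_setOf_isRoot hq0).preimage hinj.injOn
  obtain ⟨N, hN⟩ := hfin.bddAbove
  refine ⟨fun k => fun j => p j + (w j - p j) * (((1 : ℝ) / ((k + (N + 1) : ℕ) + 1) : ℝ) : ℂ), ?_, fun k hk => ?_⟩
  · refine tendsto_pi_nhds.mpr fun j => ?_
    have h3 := ((Complex.continuous_ofReal.tendsto 0).comp (ht.comp (tendsto_add_atTop_nat (N + 1))))
    simpa [Function.comp_def] using ((h3.const_mul (w j - p j)).const_add (p j))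
  · have h4 : (k + (N + 1)) ≤ N := hN ((hq _).trans hk)
    omega

variable {A : Type} [CommRing A] [Algebra ℂ A]

theorem exists_algHom_of_hom [Algebra.FiniteType ℂ A] (S : Subalgebra ℂ A) (hS : Algebra.IsIntegral S A)
    (χ : S →ₐ[ℂ] ℂ) : ∃ ψ : A →ₐ[ℂ] ℂ, ∀ x : S, ψ x = χ x := by
  haveI := hS
  have hmax : (RingHom.ker χ.toRingHom).IsMaximal :=
    RingHom.ker_isMaximal_of_surjective χ.toRingHom fun c => ⟨algebraMap ℂ S c, χ.commutes c⟩
  obtain ⟨Q, hQ, hQc⟩ := Ideal.exists_ideal_over_maximal_of_isIntegral (S := A) (RingHom.ker χ.toRingHom) (by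
    rw [(RingHom.injective_iff_ker_eq_bot _).mp (Subtype.val_injective (p := fun a => a ∈ S) : Function.Injective (algebraMap S A))]
    exact bot_le)
  letI := Ideal.Quotient.field Q
  haveI : Algebra.FiniteType ℂ (A ⧸ Q) := Algebra.FiniteType.of_surjective (Ideal.Quotient.mkₐ ℂ Q) Ideal.Quotient.mk_surjective
  haveI : Module.Finite ℂ (A ⧸ Q) := finite_of_finite_type_of_isJacobsonRing ℂ (A ⧸ Q)
  haveI : Algebra.IsIntegral ℂ (A ⧸ Q) := inferInstance
  let e : ℂ ≃ₐ[ℂ] A ⧸ Q := AlgEquiv.ofBijective (Algebra.ofId ℂ (A ⧸ Q)) IsAlgClosed.algebraMap_bijective_of_isIntegral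
  refine ⟨e.symm.toAlgHom.comp (Ideal.Quotient.mkₐ ℂ Q), fun x => ?_⟩
  have hx : x - algebraMap ℂ S (χ x) ∈ Q.comap (algebraMap S A) := by
    rw [hQc]
    show χ (x - algebraMap ℂ S (χ x)) = 0
    rw [map_sub, AlgHom.commutes, Algebra.algebraMap_self, RingHom.id_apply, sub_self]
  show e.symm (Ideal.Quotient.mk Q (x : A)) = χ x
  rw [AlgEquiv.symm_apply_eq]
  show _ = algebraMap ℂ (A ⧸ Q) (χ x)
  rw [← Ideal.Quotient.mk_algebraMap, Ideal.Quotient.eq]
  exact hx

/-- The points with `b ≠ 0` are dense in the complex topology. -/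
theorem mem_closure [IsDomain A] [Algebra.FiniteType ℂ A] {n : ℕ} (s : Fin n → A)
    (hs : Function.Surjective (MvPolynomial.aeval (R := ℂ) s)) (b : A) (hb : b ≠ 0) (φ : A →ₐ[ℂ] ℂ) :
    (fun i => φ (s i)) ∈ closure ((fun (ψ : A →ₐ[ℂ] ℂ) i => ψ (s i)) '' {ψ | ψ b ≠ 0}) := by
  classical
  obtain ⟨d, g, hginj, hgfin⟩ := exists_finite_inj_algHom_of_fg ℂ A
  letI : Algebra (MvPolynomial (Fin d) ℂ) A := g.toRingHom.toAlgebra
  haveI : IsScalarTower ℂ (MvPolynomial (Fin d) ℂ) A := IsScalarTower.of_algebraMap_eq fun c => (g.commutes c).symm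
  haveI : Module.Finite (MvPolynomial (Fin d) ℂ) A := hgfin
  haveI : FaithfulSMul (MvPolynomial (Fin d) ℂ) A := (faithfulSMul_iff_algebraMap_injective _ _).mpr hginj
  haveI : Module.IsTorsionFree (MvPolynomial (Fin d) ℂ) A := inferInstance
  have hint : ∀ a : A, IsIntegral (MvPolynomial (Fin d) ℂ) a := fun a => Algebra.IsIntegral.isIntegral a
  let ev : (Fin d → ℂ) → MvPolynomial (Fin d) ℂ →+* ℂ := fun t => MvPolynomial.eval t
  let p : Fin d → ℂ := fun j => φ (g (MvPolynomial.X j))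
  have hev : ∀ (ψ : A →ₐ[ℂ] ℂ) (t : Fin d → ℂ), (∀ j, ψ (g (MvPolynomial.X j)) = t j) →
      ψ.toRingHom.comp (algebraMap (MvPolynomial (Fin d) ℂ) A) = ev t := fun ψ t h =>
    MvPolynomial.ringHom_ext (fun c => by
        show ψ (g (MvPolynomial.C c)) = MvPolynomial.eval t (MvPolynomial.C c)
        rw [← MvPolynomial.algebraMap_eq, g.commutes, ψ.commutes, MvPolynomial.algebraMap_eq, MvPolynomial.eval_C]
        rfl)
      (fun j => by
        show ψ (g (MvPolynomial.X j)) = MvPolynomial.eval t (MvPolynomial.X j)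
        rw [h, MvPolynomial.eval_X])
  have hroot : ∀ (ψ : A →ₐ[ℂ] ℂ) (t : Fin d → ℂ), (∀ j, ψ (g (MvPolynomial.X j)) = t j) →
      ∀ a : A, ((minpoly (MvPolynomial (Fin d) ℂ) a).map (ev t)).IsRoot (ψ a) := by
    intro ψ t h a
    rw [IsRoot, eval_map, ← hev ψ t h]
    show eval₂ (ψ.toRingHom.comp (algebraMap (MvPolynomial (Fin d) ℂ) A)) (ψ.toRingHom a) _ = 0
    rw [← hom_eval₂, ← aeval_def, minpoly.aeval, map_zero]
  -- separating element
  let roots : Fin n → Finset ℂ := fun i => ((minpoly (MvPolynomial (Fin d) ℂ) (s i)).map (ev p)).roots.toFinset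
  let F : Finset (Fin n → ℂ) := (Fintype.piFinset roots).erase fun i => φ (s i)
  let pol : (Fin n → ℂ) → ℂ[X] := fun z => ∑ i : Fin n, C (z i - φ (s i)) * X ^ (i : ℕ)
  have hpol : ∀ z ∈ F, pol z ≠ 0 := fun z hz h0 => (Finset.mem_erase.mp hz).1 (funext fun i => by
    have h1 := congrArg (fun q => Polynomial.coeff q (i : ℕ)) h0
    simp only [pol, finsetSum_coeff, coeff_C_mul, coeff_X_pow, coeff_zero, Fin.val_inj, mul_ite, mul_one, mul_zero,
      Finset.sum_ite_eq, Finset.mem_univ, if_true] at h1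
    exact sub_eq_zero.mp h1)
  obtain ⟨τ, hτ⟩ : ∃ τ : ℂ, τ ∉ F.biUnion fun z => (pol z).roots.toFinset := Infinite.exists_notMem_finset _
  let u : A := ∑ i : Fin n, algebraMap ℂ A (τ ^ (i : ℕ)) * (s i - algebraMap ℂ A (φ (s i)))
  have hu : ∀ ψ : A →ₐ[ℂ] ℂ, ψ u = (pol fun i => ψ (s i)).eval τ := fun ψ => by
    simp only [u, pol, map_sum, map_mul, map_sub, AlgHom.commutes, Algebra.algebraMap_self, RingHom.id_apply,
      eval_finsetSum, eval_mul, eval_sub, eval_C, eval_pow, eval_X, mul_comm]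
  have huφ : φ u = 0 := by rw [hu]; simp [pol]
  have hsep : ∀ ψ : A →ₐ[ℂ] ℂ, (∀ j, ψ (g (MvPolynomial.X j)) = p j) → ψ u = 0 → ∀ i, ψ (s i) = φ (s i) := by
    intro ψ hψ h0 i
    by_contra hne
    have hmem : (fun i => ψ (s i)) ∈ F := Finset.mem_erase.mpr ⟨fun he => hne (congrFun he i),
      Fintype.mem_piFinset.mpr fun i => Multiset.mem_toFinset.mpr
        ((mem_roots ((minpoly.monic (hint _)).map _).ne_zero).mpr (hroot ψ p hψ (s i)))⟩
    refine hτ (Finset.mem_biUnion.mpr ⟨_, hmem, Multiset.mem_toFinset.mpr ((mem_roots (hpol _ hmem)).mpr ?_)⟩)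
    rw [IsRoot, ← hu, h0]
  let P := minpoly (MvPolynomial (Fin d) ℂ) u
  have hPm : P.Monic := minpoly.monic (hint u)
  have hPdeg : 0 < P.natDegree := minpoly.natDegree_pos (hint u)
  have hP0 : MvPolynomial.eval p (P.coeff 0) = 0 := by
    have := hroot φ p (fun j => rfl) u
    rw [huφ, IsRoot, ← coeff_zero_eq_eval_zero, coeff_map] at this
    exact this
  -- avoid the zeros of `b`
  let h := (minpoly (MvPolynomial (Fin d) ℂ) b).coeff 0
  have hh : h ≠ 0 := fun h0 => by
    have hm := minpoly.monic (hint b)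
    have hpos := minpoly.natDegree_pos (hint b)
    have h1 := minpoly.aeval (MvPolynomial (Fin d) ℂ) b
    have h2 : X * (minpoly (MvPolynomial (Fin d) ℂ) b).divX = minpoly (MvPolynomial (Fin d) ℂ) b := by
      conv_rhs => rw [← X_mul_divX_add (minpoly (MvPolynomial (Fin d) ℂ) b)]
      rw [show (minpoly (MvPolynomial (Fin d) ℂ) b).coeff 0 = 0 from h0, C_0, add_zero]
    rw [← h2, map_mul, aeval_X, mul_eq_zero, or_iff_right hb] at h1
    have h3 := natDegree_le_of_dvd (minpoly.isIntegrallyClosed_dvd (hint b) h1) fun h4 => by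
      rw [h4, mul_zero] at h2
      exact hm.ne_zero h2.symm
    rw [natDegree_divX_eq_natDegree_tsub_one] at h3
    omega
  obtain ⟨c', hc'⟩ : b ∣ algebraMap (MvPolynomial (Fin d) ℂ) A h := by
    refine ⟨-Polynomial.aeval b (minpoly (MvPolynomial (Fin d) ℂ) b).divX, ?_⟩
    have := minpoly.aeval (MvPolynomial (Fin d) ℂ) b
    conv_lhs at this => rw [← X_mul_divX_add (minpoly (MvPolynomial (Fin d) ℂ) b)]
    rw [map_add, map_mul, aeval_X, aeval_C] at this
    show algebraMap _ A ((minpoly (MvPolynomial (Fin d) ℂ) b).coeff 0) = _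
    linear_combination this
  obtain ⟨t, ht, hth⟩ := exists_seq_ne_zero h hh p
  -- roots
  have hrex : ∀ k, ∃ r : ℂ, (P.map (ev (t k))).IsRoot r ∧
      ∀ r', (P.map (ev (t k))).IsRoot r' → ‖r‖ ≤ ‖r'‖ := by
    intro k
    have hne : (P.map (ev (t k))).roots.toFinset.Nonempty := by
      obtain ⟨r, hr⟩ := IsAlgClosed.exists_root (P.map (ev (t k))) (by
        rw [degree_eq_natDegree (hPm.map _).ne_zero, hPm.natDegree_map]
        exact_mod_cast hPdeg.ne')
      exact ⟨r, Multiset.mem_toFinset.mpr ((mem_roots (hPm.map _).ne_zero).mpr hr)⟩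
    obtain ⟨r, hr, hmin⟩ := Finset.exists_min_image _ (fun r => ‖r‖) hne
    exact ⟨r, isRoot_of_mem_roots (Multiset.mem_toFinset.mp hr),
      fun r' hr' => hmin r' (Multiset.mem_toFinset.mpr ((mem_roots (hPm.map _).ne_zero).mpr hr'))⟩
  choose r hr hrmin using hrex
  have hr0 : Tendsto r atTop (𝓝 0) := by
    rw [Metric.tendsto_atTop]
    intro ε hε
    have hc : Tendsto (fun k => MvPolynomial.eval (t k) (P.coeff 0)) atTop (𝓝 0) := by
      rw [← hP0]
      exact ((MvPolynomial.continuous_eval (P.coeff 0)).tendsto p).comp ht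
    obtain ⟨N, hN⟩ := Metric.tendsto_atTop.mp hc (ε ^ P.natDegree) (pow_pos hε _)
    refine ⟨N, fun k hk => ?_⟩
    obtain ⟨r', hr', hlt⟩ := exists_root_norm_lt (hPm.map (ev (t k))) (by rw [hPm.natDegree_map]; exact hPdeg) hε (by
      rw [hPm.natDegree_map, coeff_map]
      simpa [dist_eq_norm] using hN k hk)
    rw [dist_eq_norm, sub_zero]
    exact (hrmin k r' hr').trans_lt hlt
  -- points
  have hpts : ∀ k, ∃ ψ : A →ₐ[ℂ] ℂ, (∀ j, ψ (g (MvPolynomial.X j)) = t k j) ∧ ψ u = r k := by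
    intro k
    let S : Subalgebra ℂ A := (Algebra.adjoin (MvPolynomial (Fin d) ℂ) {u}).restrictScalars ℂ
    let π : (MvPolynomial (Fin d) ℂ)[X] →+* S :=
      { toFun := fun q => ⟨Polynomial.aeval u q, aeval_mem_adjoin_singleton _ u⟩
        map_one' := Subtype.ext (map_one _)
        map_mul' := fun a b => Subtype.ext (map_mul _ a b)
        map_zero' := Subtype.ext (map_zero _)
        map_add' := fun a b => Subtype.ext (map_add _ a b) }
    have hπ : Function.Surjective π := fun x => by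
      obtain ⟨x, hx⟩ := x
      have hx' : x ∈ Algebra.adjoin (MvPolynomial (Fin d) ℂ) {u} := hx
      rw [Algebra.adjoin_singleton_eq_range_aeval, AlgHom.mem_range] at hx'
      obtain ⟨q, rfl⟩ := hx'
      exact ⟨q, rfl⟩
    have hker : RingHom.ker π ≤ RingHom.ker (eval₂RingHom (ev (t k)) (r k)) := fun q hq => by
      obtain ⟨c, rfl⟩ := minpoly.isIntegrallyClosed_dvd (hint u) (congrArg Subtype.val hq : Polynomial.aeval u q = 0)
      rw [RingHom.mem_ker, map_mul]
      show eval₂ (ev (t k)) (r k) P * _ = 0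
      rw [← eval_map, hr k, zero_mul]
    let χ₀ : S →+* ℂ := RingHom.liftOfSurjective π hπ ⟨_, hker⟩
    have hχ₀ : ∀ q, χ₀ (π q) = eval₂ (ev (t k)) (r k) q := fun q => RingHom.liftOfRightInverse_comp_apply _ _ _ _ q
    let χ : S →ₐ[ℂ] ℂ :=
      { χ₀ with
        commutes' := fun c => by
          have hc : algebraMap ℂ S c = π (C (MvPolynomial.C c)) := Subtype.ext (by
            show algebraMap ℂ A c = Polynomial.aeval u (C (MvPolynomial.C c))
            rw [aeval_C, ← MvPolynomial.algebraMap_eq, ← IsScalarTower.algebraMap_apply])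
          show χ₀ (algebraMap ℂ S c) = c
          rw [hc, hχ₀, eval₂_C]
          exact MvPolynomial.eval_C c }
    have hS : Algebra.IsIntegral S A := ⟨fun a => by
      obtain ⟨q, hq, hqa⟩ := hint a
      let j : MvPolynomial (Fin d) ℂ →+* S := (algebraMap (MvPolynomial (Fin d) ℂ) A).codRestrict S
        fun x => (Algebra.adjoin (MvPolynomial (Fin d) ℂ) {u}).algebraMap_mem x
      refine ⟨q.map j, hq.map j, ?_⟩
      rw [eval₂_map]
      exact hqa⟩
    obtain ⟨ψ, hψ⟩ := exists_algHom_of_hom S hS χ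
    refine ⟨ψ, fun i => ?_, ?_⟩
    · rw [show g (MvPolynomial.X i) = ((π (C (MvPolynomial.X i)) : S) : A) from
        (Polynomial.aeval_C (R := MvPolynomial (Fin d) ℂ) (A := A) u (MvPolynomial.X i : MvPolynomial (Fin d) ℂ)).symm, hψ]
      show χ₀ _ = _
      rw [hχ₀, eval₂_C]
      exact MvPolynomial.eval_X i
    · rw [show u = ((π X : S) : A) from (Polynomial.aeval_X u).symm, hψ]
      show χ₀ _ = _
      rw [hχ₀, eval₂_X]
  choose ψ hψg hψu using hpts
  have hψb : ∀ k, ψ k b ≠ 0 := fun k h0 => hth k (by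
    have h1 := RingHom.congr_fun (hev (ψ k) (t k) (hψg k)) h
    rw [RingHom.comp_apply, hc', map_mul] at h1
    exact h1.symm.trans (by rw [show (ψ k).toRingHom b = 0 from h0, zero_mul]))
  -- boundedness
  let z : ℕ → Fin n → ℂ := fun k i => ψ k (s i)
  have hbdd : ∀ i, ∃ M, ∀ k, ‖z k i‖ ≤ M := by
    intro i
    let q := minpoly (MvPolynomial (Fin d) ℂ) (s i)
    have hc : Tendsto (fun k => 1 + ∑ j ∈ Finset.range q.natDegree, ‖MvPolynomial.eval (t k) (q.coeff j)‖) atTop
        (𝓝 (1 + ∑ j ∈ Finset.range q.natDegree, ‖MvPolynomial.eval p (q.coeff j)‖)) :=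
      tendsto_const_nhds.add (tendsto_finsetSum _ fun j _ =>
        (((MvPolynomial.continuous_eval (q.coeff j)).tendsto p).comp ht).norm)
    obtain ⟨M, hM⟩ := hc.bddAbove_range
    refine ⟨M, fun k => le_trans ?_ (hM ⟨k, rfl⟩)⟩
    refine (norm_le_of_isRoot ((minpoly.monic (hint _)).map _) (hroot (ψ k) (t k) (hψg k) (s i))).trans ?_
    rw [(minpoly.monic (hint _)).natDegree_map]
    simp only [coeff_map]
    exact le_rfl
  choose M hM using hbdd
  have hz : ∀ k, z k ∈ Set.univ.pi fun i => Metric.closedBall (0 : ℂ) (M i) := fun k i _ =>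
    mem_closedBall_zero_iff.mpr (hM i k)
  obtain ⟨w, -, σ, hσ, hw⟩ := (isCompact_univ_pi fun i => isCompact_closedBall (0 : ℂ) (M i)).tendsto_subseq hz
  have hval : ∀ (k : ℕ) (P : MvPolynomial (Fin n) ℂ), ψ k (MvPolynomial.aeval s P) = MvPolynomial.eval (z k) P := fun k P => by
    rw [← AlgHom.comp_apply, MvPolynomial.comp_aeval, MvPolynomial.aeval_eq_eval]
  have hlim : ∀ P : MvPolynomial (Fin n) ℂ,
      Tendsto (fun k => ψ (σ k) (MvPolynomial.aeval s P)) atTop (𝓝 (MvPolynomial.eval w P)) := fun P => by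
    simp only [hval]
    exact ((MvPolynomial.continuous_eval P).tendsto w).comp hw
  have hkerw : RingHom.ker (MvPolynomial.aeval (R := ℂ) s).toRingHom ≤ RingHom.ker (MvPolynomial.eval w) := fun P hP => by
    rw [RingHom.mem_ker]
    refine tendsto_nhds_unique (hlim P) ?_
    rw [show MvPolynomial.aeval s P = 0 from hP]
    simp
  let Ψ₀ : A →+* ℂ := RingHom.liftOfSurjective (MvPolynomial.aeval (R := ℂ) s).toRingHom hs ⟨_, hkerw⟩
  have hΨ₀ : ∀ P, Ψ₀ (MvPolynomial.aeval s P) = MvPolynomial.eval w P := fun P =>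
    RingHom.liftOfRightInverse_comp_apply _ _ _ _ P
  let Ψ : A →ₐ[ℂ] ℂ :=
    { Ψ₀ with
      commutes' := fun c => by
        show Ψ₀ (algebraMap ℂ A c) = c
        rw [← MvPolynomial.aeval_C s c, hΨ₀, MvPolynomial.eval_C] }
  have hΨ : ∀ a, Tendsto (fun k => ψ (σ k) a) atTop (𝓝 (Ψ a)) := fun a => by
    obtain ⟨P, rfl⟩ := hs a
    rw [show Ψ (MvPolynomial.aeval s P) = MvPolynomial.eval w P from hΨ₀ P]
    exact hlim P
  have hΨg : ∀ j, Ψ (g (MvPolynomial.X j)) = p j := fun j => by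
    refine tendsto_nhds_unique (hΨ _) ?_
    simp only [hψg]
    exact ((tendsto_pi_nhds.mp ht) j).comp hσ.tendsto_atTop
  have hΨu : Ψ u = 0 := by
    refine tendsto_nhds_unique (hΨ _) ?_
    simp only [hψu]
    exact hr0.comp hσ.tendsto_atTop
  have hweq : w = fun i => φ (s i) := funext fun i => by
    rw [← hsep Ψ hΨg hΨu i, ← MvPolynomial.eval_X (R := ℂ) (f := w) i]
    show _ = Ψ₀ (s i)
    rw [← hΨ₀, MvPolynomial.aeval_X]
  rw [← hweq]
  exact mem_closure_of_tendsto hw (Eventually.of_forall fun k => ⟨ψ (σ k), hψb _, rfl⟩)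

end Groth.Agent.H05EGA4.AlgDensity
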