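import Groth.Agent.H05EGA4.An.Connected
import Mathlib

/-!
A polynomial function on an affine variety vanishing to high order at a point lies in a high power of its maximal ideal.
-/

set_option autoImplicit false
set_option linter.style.haveILetI false
set_option linter.unusedSectionVars false

open Filter Topology Polynomial
open scoped nonZeroDivisors

noncomputable section

namespace Groth.Agent.H05EGA4.AnOrder

open Groth.Agent.H05EGA4.AnGrowth

/-- A polynomial of high order at a point lies in the corresponding power of the maximal ideal. -/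
theorem mem_pow_of_bound {d : ℕ} (P : MvPolynomial (Fin d) ℂ) (p : Fin d → ℂ) (n : ℕ) {δ C₂ : ℝ} (hδ : 0 < δ)
    (h : ∀ z, ‖z - p‖ < δ → ‖MvPolynomial.eval z P‖ ≤ C₂ * ‖z - p‖ ^ n) :
    P ∈ Ideal.span (Set.range fun i => MvPolynomial.X i - MvPolynomial.C (p i)) ^ n := by
  classical
  let τ : MvPolynomial (Fin d) ℂ →ₐ[ℂ] MvPolynomial (Fin d) ℂ :=
    MvPolynomial.aeval fun i => MvPolynomial.X i + MvPolynomial.C (p i)
  let τ' : MvPolynomial (Fin d) ℂ →ₐ[ℂ] MvPolynomial (Fin d) ℂ :=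
    MvPolynomial.aeval fun i => MvPolynomial.X i - MvPolynomial.C (p i)
  have hττ : τ' (τ P) = P := by
    have : τ'.comp τ = AlgHom.id ℂ _ := MvPolynomial.algHom_ext fun i => by simp [τ, τ']
    exact congrArg (fun f => f P) this
  have hev : ∀ v, MvPolynomial.eval v (τ P) = MvPolynomial.eval (p + v) P := fun v => by
    show MvPolynomial.aeval v (MvPolynomial.aeval _ P) = _
    rw [← AlgHom.comp_apply, MvPolynomial.comp_aeval, MvPolynomial.aeval_eq_eval]
    simp [Pi.add_def, add_comm]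
  have hmem : τ P ∈ MvPolynomial.idealOfVars (Fin d) ℂ ^ n := by
    rw [MvPolynomial.mem_pow_idealOfVars_iff']
    intro x hx
    by_contra hne
    have hk : MvPolynomial.homogeneousComponent (Finsupp.degree x) (τ P) ≠ 0 := fun h0 => by
      have h1 := MvPolynomial.coeff_homogeneousComponent (Finsupp.degree x) (τ P) x
      rw [h0, if_pos rfl, MvPolynomial.coeff_zero] at h1
      exact hne h1.symm
    obtain ⟨v, hv⟩ : ∃ v, MvPolynomial.eval v (MvPolynomial.homogeneousComponent (Finsupp.degree x) (τ P)) ≠ 0 := by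
      by_contra hall
      simp only [not_exists, not_not] at hall
      exact hk (MvPolynomial.funext fun v => by rw [hall, map_zero])
    let q : ℂ[X] := MvPolynomial.aeval (fun i => C (v i) * X) (τ P)
    have hq : ∀ s, q.eval s = MvPolynomial.eval (fun i => v i * s) (τ P) := fun s => by
      show Polynomial.aeval s (MvPolynomial.aeval _ (τ P)) = _
      rw [← AlgHom.comp_apply, MvPolynomial.comp_aeval, MvPolynomial.aeval_eq_eval]
      simp
    have hqe : q = ∑ k ∈ Finset.range ((τ P).totalDegree + 1),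
        C (MvPolynomial.eval v (MvPolynomial.homogeneousComponent k (τ P))) * X ^ k := by
      refine Polynomial.funext fun s => ?_
      rw [hq, eval_finsetSum]
      conv_lhs => rw [← MvPolynomial.sum_homogeneousComponent (τ P)]
      rw [map_sum]
      refine Finset.sum_congr rfl fun k _ => ?_
      rw [eval_mul, eval_C, eval_pow, eval_X]
      have hh := MvPolynomial.homogeneousComponent_isHomogeneous k (τ P)
      rw [MvPolynomial.eval_eq, MvPolynomial.eval_eq, Finset.sum_mul]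
      refine Finset.sum_congr rfl fun m hm => ?_
      rw [mul_assoc]
      congr 1
      simp only [mul_pow, Finset.prod_mul_distrib, Finset.prod_pow_eq_pow_sum]
      congr 2
      have h5 := hh (MvPolynomial.mem_support_iff.mp hm)
      rwa [Finsupp.weight_apply, Finsupp.sum, show (∑ a ∈ m.support, m a • (1 : Fin d → ℕ) a) = ∑ a ∈ m.support, m a from
        Finset.sum_congr rfl fun a _ => by simp] at h5
    have hcoeff : q.coeff (Finsupp.degree x) =
        MvPolynomial.eval v (MvPolynomial.homogeneousComponent (Finsupp.degree x) (τ P)) := by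
      rw [hqe, finsetSum_coeff]
      simp only [coeff_C_mul_X_pow]
      rw [Finset.sum_ite_eq, if_pos]
      rw [Finset.mem_range]
      by_contra hlt
      exact hk (MvPolynomial.homogeneousComponent_eq_zero _ _ (by omega))
    have hq0 : q ≠ 0 := fun h0 => hv (by rw [← hcoeff, h0, coeff_zero])
    obtain ⟨q₁, hq₁, hq₁'⟩ : ∃ q₁, q = (X - C 0) ^ q.rootMultiplicity 0 * q₁ ∧ ¬q₁.IsRoot 0 := by
      obtain ⟨q₁, h1, h2⟩ := q.exists_eq_pow_rootMultiplicity_mul_and_not_dvd hq0 0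
      exact ⟨q₁, h1, fun h => h2 (dvd_iff_isRoot.mpr h)⟩
    rw [C_0, sub_zero] at hq₁
    set j := q.rootMultiplicity 0
    have hj : j < n := by
      refine lt_of_le_of_lt (not_lt.mp fun hlt => hv ?_) hx
      rw [← hcoeff, hq₁, coeff_X_pow_mul', if_neg (by omega)]
    have hb : ∀ᶠ s in 𝓝[≠] (0 : ℂ), ‖q₁.eval s‖ ≤ |C₂| * ‖v‖ ^ n * ‖s‖ ^ (n - j) := by
      have hsm : ∀ᶠ s in 𝓝 (0 : ℂ), ‖v‖ * ‖s‖ < δ := by
        have hc : Continuous fun s : ℂ => ‖v‖ * ‖s‖ := continuous_const.mul continuous_norm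
        exact (hc.tendsto' 0 0 (by simp)).eventually (Iio_mem_nhds hδ)
      filter_upwards [self_mem_nhdsWithin, hsm.filter_mono nhdsWithin_le_nhds] with s hs hsδ
      have hs0 : 0 < ‖s‖ := norm_pos_iff.mpr hs
      have hvs : ‖(fun i => v i * s)‖ ≤ ‖v‖ * ‖s‖ :=
        (pi_norm_le_iff_of_nonneg (mul_nonneg (norm_nonneg _) (norm_nonneg _))).mpr
          fun i => (norm_mul _ _).le.trans (mul_le_mul_of_nonneg_right (norm_le_pi_norm v i) (norm_nonneg _))
      have h1 := h (p + fun i => v i * s) (by rw [add_sub_cancel_left]; exact lt_of_le_of_lt hvs hsδ)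
      rw [← hev, ← hq, hq₁, eval_mul, eval_pow, eval_X, norm_mul, norm_pow, add_sub_cancel_left] at h1
      refine le_of_mul_le_mul_left (h1.trans ?_) (pow_pos hs0 j)
      rw [mul_left_comm, ← pow_add, Nat.add_sub_cancel' hj.le]
      calc C₂ * ‖(fun i => v i * s)‖ ^ n ≤ |C₂| * (‖v‖ * ‖s‖) ^ n :=
            mul_le_mul (le_abs_self C₂) (pow_le_pow_left₀ (norm_nonneg _) hvs n) (pow_nonneg (norm_nonneg _) n) (abs_nonneg C₂)
        _ = |C₂| * ‖v‖ ^ n * ‖s‖ ^ n := by rw [mul_pow]; ring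
    have ht : Tendsto (fun s : ℂ => ‖q₁.eval s‖) (𝓝[≠] 0) (𝓝 ‖q₁.eval 0‖) :=
      ((q₁.continuous.norm).tendsto 0).mono_left nhdsWithin_le_nhds
    have ht' : Tendsto (fun s : ℂ => |C₂| * ‖v‖ ^ n * ‖s‖ ^ (n - j)) (𝓝[≠] 0) (𝓝 0) := by
      have hc : Continuous fun s : ℂ => |C₂| * ‖v‖ ^ n * ‖s‖ ^ (n - j) := by fun_prop
      exact (hc.tendsto' 0 0 (by simp [zero_pow (Nat.sub_pos_of_lt hj).ne'])).mono_left nhdsWithin_le_nhds
    exact hq₁' (norm_le_zero_iff.mp (le_of_tendsto_of_tendsto ht ht' hb))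
  have hmap := Ideal.mem_map_of_mem τ' hmem
  rw [hττ, Ideal.map_pow, MvPolynomial.idealOfVars, Ideal.map_span, ← Set.range_comp] at hmap
  simpa [τ', Function.comp_def] using hmap

variable {A : Type} [CommRing A] [IsDomain A] [Algebra ℂ A] [Algebra.FiniteType ℂ A]

/-- Functions of high order at a point lie in a high power of the maximal ideal. -/
theorem exists_order {m : ℕ} (s : Fin m → A) (hs : Function.Surjective (MvPolynomial.aeval (R := ℂ) s))
    (φ₀ : A →ₐ[ℂ] ℂ) (n : ℕ) :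
    ∃ N : ℕ, ∀ P : A, (∃ C : ℝ, ∃ δ > 0, ∀ ψ : A →ₐ[ℂ] ℂ, ‖(fun i => ψ (s i)) - fun i => φ₀ (s i)‖ < δ →
      ‖ψ P‖ ≤ C * ‖(fun i => ψ (s i)) - fun i => φ₀ (s i)‖ ^ N) →
      P ∈ RingHom.ker φ₀.toRingHom ^ n := by
  classical
  obtain ⟨d, g, hginj, hgfin⟩ := exists_finite_inj_algHom_of_fg ℂ A
  set R := MvPolynomial (Fin d) ℂ
  letI : Algebra R A := g.toRingHom.toAlgebra
  haveI : IsScalarTower ℂ R A := IsScalarTower.of_algebraMap_eq fun c => (g.commutes c).symm
  haveI : Module.Finite R A := hgfin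
  haveI : FaithfulSMul R A := (faithfulSMul_iff_algebraMap_injective _ _).mpr hginj
  haveI : IsNoetherianRing A := Algebra.FiniteType.isNoetherianRing ℂ A
  haveI : IsJacobsonRing A := isJacobsonRing_of_finiteType (A := ℂ) (B := A)
  obtain ⟨θ, h, hm, -, hθ, hdvd, hfrac, D₀, a, b, hD₀, hab⟩ := AnConnected.exists_element_adjoin A (R := R)
  obtain ⟨S, hS⟩ := (Module.finite_def.mp (inferInstance : Module.Finite R A))
  choose rS qS hrS hqS using hfrac
  let c : R := ∏ x ∈ S, rS x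
  have hc : c ≠ 0 := Finset.prod_ne_zero_iff.mpr fun x _ => hrS x
  have hcall : ∀ y : A, ∃ q : R[X], c • y = aeval θ q := by
    intro y
    have hy : y ∈ Submodule.span R (S : Set A) := hS ▸ Submodule.mem_top
    induction hy using Submodule.span_induction with
    | mem x hx =>
      obtain ⟨c', hc'⟩ : rS x ∣ c := Finset.dvd_prod_of_mem rS hx
      refine ⟨C c' * qS x, ?_⟩
      rw [hc', map_mul, aeval_C, ← hqS x, mul_comm (rS x), mul_smul, Algebra.smul_def]
    | zero => exact ⟨0, by simp⟩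
    | add x y _ _ hx hy =>
      obtain ⟨qx, hx⟩ := hx
      obtain ⟨qy, hy⟩ := hy
      exact ⟨qx + qy, by rw [smul_add, map_add, hx, hy]⟩
    | smul r x _ hx =>
      obtain ⟨qx, hx⟩ := hx
      exact ⟨C r * qx, by rw [smul_comm, map_mul, aeval_C, ← hx, Algebra.smul_def r]⟩
  let coord : (A →ₐ[ℂ] ℂ) → (Fin d → ℂ) := fun ψ j => ψ (algebraMap R A (MvPolynomial.X j))
  let σ : (A →ₐ[ℂ] ℂ) → (Fin m → ℂ) := fun ψ i => ψ (s i)
  have hev : ∀ (ψ : A →ₐ[ℂ] ℂ) (P : R), ψ (algebraMap R A P) = MvPolynomial.eval (coord ψ) P := fun ψ P => by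
    have h1 : ψ.comp g = MvPolynomial.aeval (coord ψ) := MvPolynomial.algHom_ext fun j => by
      rw [MvPolynomial.aeval_X]; rfl
    exact congrArg (fun f => f P) h1
  have hev' : ∀ (ψ : A →ₐ[ℂ] ℂ) (P : R[X]),
      ψ (aeval θ P) = (P.map (MvPolynomial.eval (coord ψ))).eval (ψ θ) := fun ψ P => by
    rw [Polynomial.eval_map, aeval_def]
    show ψ.toRingHom (eval₂ (algebraMap R A) θ P) = _
    rw [hom_eval₂]
    congr 1
    exact RingHom.ext fun P => hev ψ P
  set p := coord φ₀ with hp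
  -- bounds for integral elements near the fibre
  have hbd : ∀ y : A, ∃ B : ℝ, ∀ ψ : A →ₐ[ℂ] ℂ, ‖coord ψ - p‖ ≤ 1 → ‖ψ y‖ ≤ B := by
    intro y
    have hy : IsIntegral R y := Algebra.IsIntegral.isIntegral y
    have hc' : Continuous fun z : Fin d → ℂ =>
        1 + ∑ j ∈ Finset.range (minpoly R y).natDegree, ‖MvPolynomial.eval z ((minpoly R y).coeff j)‖ :=
      continuous_const.add (continuous_finsetSum _ fun j _ => (MvPolynomial.continuous_eval _).norm)
    obtain ⟨B, hB⟩ := (isCompact_closedBall p 1).exists_bound_of_continuousOn hc'.continuousOn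
    refine ⟨B, fun ψ hψ => ?_⟩
    have hroot : ((minpoly R y).map (MvPolynomial.eval (coord ψ))).IsRoot (ψ y) := by
      rw [IsRoot, Polynomial.eval_map, show MvPolynomial.eval (coord ψ) = ψ.toRingHom.comp (algebraMap R A) from
        RingHom.ext fun P => (hev ψ P).symm]
      show eval₂ _ (ψ.toRingHom y) _ = 0
      rw [← hom_eval₂, ← aeval_def, minpoly.aeval, map_zero]
    refine (AlgDensity.norm_le_of_isRoot ((minpoly.monic hy).map _) hroot).trans ?_
    refine le_trans (le_of_eq ?_) ((le_abs_self _).trans (hB (coord ψ) (by rwa [Metric.mem_closedBall, dist_eq_norm])))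
    rw [(minpoly.monic hy).natDegree_map]
    simp [coeff_map]
  -- a function separating the point from the other points of its fibre
  have hFfin : {ψ : A →ₐ[ℂ] ℂ | coord ψ = p}.Finite := by
    have hinj : Function.Injective σ := fun ψ ψ' he => AlgHom.ext fun y => by
      obtain ⟨P, rfl⟩ := hs y
      rw [← AlgHom.comp_apply, ← AlgHom.comp_apply, MvPolynomial.comp_aeval, MvPolynomial.comp_aeval]
      rw [show (fun i => ψ (s i)) = fun i => ψ' (s i) from he]
    refine ((Set.Finite.pi fun i => finite_setOfPred_isRoot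
      (p := (minpoly R (s i)).map (MvPolynomial.eval p)) ((minpoly.monic (Algebra.IsIntegral.isIntegral (R := R) (s i))).map _).ne_zero).preimage
        hinj.injOn).subset fun ψ hψ => ?_
    intro i _
    show ((minpoly R (s i)).map (MvPolynomial.eval p)).IsRoot (ψ (s i))
    rw [← show coord ψ = p from hψ, IsRoot, Polynomial.eval_map,
      show MvPolynomial.eval (coord ψ) = ψ.toRingHom.comp (algebraMap R A) from RingHom.ext fun P => (hev ψ P).symm]
    show eval₂ _ (ψ.toRingHom (s i)) _ = 0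
    rw [← hom_eval₂, ← aeval_def, minpoly.aeval, map_zero]
  obtain ⟨e, he₀, he⟩ : ∃ e : A, φ₀ e = 1 ∧ ∀ ψ, coord ψ = p → σ ψ ≠ σ φ₀ → ψ e = 0 := by
    have hsep : ∀ ψ ∈ hFfin.toFinset.filter (fun ψ => σ ψ ≠ σ φ₀), ∃ y : A, φ₀ y = 1 ∧ ψ y = 0 := fun ψ hψ => by
      obtain ⟨i, hi⟩ := Function.ne_iff.mp (Finset.mem_filter.mp hψ).2
      refine ⟨algebraMap ℂ A (φ₀ (s i) - ψ (s i))⁻¹ * (s i - algebraMap ℂ A (ψ (s i))), ?_, by simp⟩
      simp only [map_mul, map_sub, AlgHom.commutes, Algebra.algebraMap_self, RingHom.id_apply]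
      exact inv_mul_cancel₀ (sub_ne_zero.mpr (Ne.symm hi))
    choose! y hy₁ hy₀ using hsep
    refine ⟨∏ ψ ∈ hFfin.toFinset.filter (fun ψ => σ ψ ≠ σ φ₀), y ψ, ?_, fun ψ hψ hne => ?_⟩
    · rw [map_prod]
      exact Finset.prod_eq_one hy₁
    · rw [map_prod]
      have hmem : ψ ∈ hFfin.toFinset.filter (fun ψ => σ ψ ≠ σ φ₀) := Finset.mem_filter.mpr ⟨hFfin.mem_toFinset.mpr hψ, hne⟩
      exact Finset.prod_eq_zero hmem (hy₀ ψ hmem)
  let W : Ideal A := Ideal.span (Set.range fun j => algebraMap R A (MvPolynomial.X j - MvPolynomial.C (p j)))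
  let J : Fin m → A := fun i => e * (s i - algebraMap ℂ A (φ₀ (s i)))
  have hJ : Ideal.span (Set.range J) ≤ W.radical := by
    rw [Ideal.span_le, Ideal.radical_eq_jacobson]
    rintro _ ⟨i, rfl⟩
    rw [SetLike.mem_coe, Ideal.jacobson, Ideal.mem_sInf]
    intro M hMI
    obtain ⟨hWM, hM⟩ := hMI
    letI := Ideal.Quotient.field M
    haveI : Module.Finite ℂ (A ⧸ M) := finite_of_finite_type_of_isJacobsonRing ℂ (A ⧸ M)
    let q : A →ₐ[ℂ] ℂ := ((AlgEquiv.ofBijective (Algebra.ofId ℂ (A ⧸ M))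
      IsAlgClosed.algebraMap_bijective_of_isIntegral).symm.toAlgHom).comp (Ideal.Quotient.mkₐ ℂ M)
    have hqM : ∀ y, q y = 0 ↔ y ∈ M := fun y => by
      simp [q, Ideal.Quotient.eq_zero_iff_mem]
    have hq : coord q = p := funext fun j => by
      have h1 : q (algebraMap R A (MvPolynomial.X j - MvPolynomial.C (p j))) = 0 :=
        (hqM _).mpr (hWM (Ideal.subset_span ⟨j, rfl⟩))
      rw [map_sub, map_sub, ← MvPolynomial.algebraMap_eq, ← IsScalarTower.algebraMap_apply, AlgHom.commutes, sub_eq_zero] at h1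
      exact h1
    rw [← hqM]
    show q (e * _) = 0
    by_cases hne : σ q = σ φ₀
    · have h1 : q (s i) = φ₀ (s i) := congrFun hne i
      simp [h1]
    · rw [map_mul, he q hq hne, zero_mul]
  obtain ⟨M, hM⟩ := Ideal.exists_pow_le_of_le_radical_of_fg hJ (IsNoetherian.noetherian _)
  obtain ⟨K, hK0, hK⟩ : ∃ K : ℝ, 0 ≤ K ∧ ∀ (ψ : A →ₐ[ℂ] ℂ), ‖coord ψ - p‖ ≤ 1 →
      (‖ψ e‖ * ‖σ ψ - σ φ₀‖) ^ (M + 1) ≤ K * ‖coord ψ - p‖ := by
    have hKi : ∀ i, ∃ K : ℝ, ∀ ψ : A →ₐ[ℂ] ℂ, ‖coord ψ - p‖ ≤ 1 → ‖ψ (J i)‖ ^ (M + 1) ≤ K * ‖coord ψ - p‖ := by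
      intro i
      have hmem : J i ^ (M + 1) ∈ W :=
        hM (by rw [pow_succ]; exact Ideal.mul_mem_right _ _ (Ideal.pow_mem_pow (Ideal.subset_span (Set.mem_range_self i)) M))
      obtain ⟨co, hco⟩ := Ideal.mem_span_range_iff_exists_fun.mp hmem
      choose B hB using fun j => hbd (co j)
      refine ⟨∑ j, B j, fun ψ hψ => ?_⟩
      rw [← norm_pow, ← map_pow, ← hco, map_sum, Finset.sum_mul]
      refine (norm_sum_le _ _).trans (Finset.sum_le_sum fun j _ => ?_)
      rw [map_mul, norm_mul, hev, map_sub, MvPolynomial.eval_X, MvPolynomial.eval_C]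
      exact mul_le_mul (hB j ψ hψ) (norm_le_pi_norm (coord ψ - p) j) (norm_nonneg _) ((norm_nonneg _).trans (hB j ψ hψ))
    choose Ki hKi using hKi
    refine ⟨∑ i, |Ki i|, Finset.sum_nonneg fun i _ => abs_nonneg _, fun ψ hψ => ?_⟩
    rcases eq_or_ne (‖σ ψ - σ φ₀‖) 0 with h0 | h0
    · rw [h0, mul_zero, zero_pow (Nat.succ_ne_zero M)]
      exact mul_nonneg (Finset.sum_nonneg fun i _ => abs_nonneg _) (norm_nonneg _)
    · haveI : Nonempty (Fin m) := not_isEmpty_iff.mp fun hE => h0 (by simp [Subsingleton.elim (σ ψ) (σ φ₀)])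
      obtain ⟨i, -, hi⟩ := Finset.exists_max_image Finset.univ (fun i => ‖(σ ψ - σ φ₀) i‖) Finset.univ_nonempty
      have hnorm : ‖σ ψ - σ φ₀‖ = ‖(σ ψ - σ φ₀) i‖ := le_antisymm
        ((pi_norm_le_iff_of_nonneg (norm_nonneg _)).mpr fun j => hi j (Finset.mem_univ j)) (norm_le_pi_norm _ i)
      rw [hnorm, ← norm_mul]
      have hJi : ψ (J i) = ψ e * (σ ψ - σ φ₀) i := by simp [J, σ]
      rw [← hJi]
      exact (hKi i ψ hψ).trans (mul_le_mul_of_nonneg_right
        ((le_abs_self _).trans (Finset.single_le_sum (fun j _ => abs_nonneg (Ki j)) (Finset.mem_univ i))) (norm_nonneg _))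
  -- Artin-Rees
  let Dc : A := algebraMap R A (D₀ * c)
  have hDc : Dc ≠ 0 := fun h0 => mul_ne_zero hD₀ hc (hginj (h0.trans (map_zero _).symm))
  set 𝔪 := RingHom.ker φ₀.toRingHom
  obtain ⟨k, hk⟩ := Ideal.exists_pow_inf_eq_pow_smul 𝔪 (Ideal.span {Dc})
  set n' := n + k with hn'
  set N := (M + 1) * n' with hN
  refine ⟨N, ?_⟩
  rintro P ⟨C₁, δ, hδ, hP⟩
  let P' := P * e ^ N
  obtain ⟨B₀, hB₀⟩ := hbd P
  obtain ⟨E, hE⟩ : ∃ E : ℝ, ∀ ψ : A →ₐ[ℂ] ℂ, ‖coord ψ - p‖ ≤ 1 → ‖ψ P'‖ ≤ E * ‖coord ψ - p‖ ^ n' := by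
    refine ⟨|C₁| * K ^ n' + |B₀| * K ^ n' / δ ^ N, fun ψ hψ => ?_⟩
    have hKn : ‖ψ e‖ ^ N * ‖σ ψ - σ φ₀‖ ^ N ≤ K ^ n' * ‖coord ψ - p‖ ^ n' := by
      rw [hN, pow_mul, pow_mul, ← mul_pow, ← mul_pow, ← mul_pow]
      exact pow_le_pow_left₀ (pow_nonneg (mul_nonneg (norm_nonneg _) (norm_nonneg _)) _) (hK ψ hψ) n'
    rw [map_mul, map_pow, norm_mul, norm_pow, add_mul]
    rcases lt_or_ge ‖σ ψ - σ φ₀‖ δ with hlt | hge
    · refine le_trans ?_ (le_add_of_nonneg_right (mul_nonneg (div_nonneg (mul_nonneg (abs_nonneg _) (pow_nonneg hK0 _))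
        (pow_nonneg hδ.le _)) (pow_nonneg (norm_nonneg _) _)))
      refine (mul_le_mul_of_nonneg_right ((hP ψ hlt).trans (mul_le_mul_of_nonneg_right (le_abs_self C₁)
        (pow_nonneg (norm_nonneg _) _))) (pow_nonneg (norm_nonneg _) _)).trans ?_
      rw [mul_assoc, mul_assoc, mul_comm (‖σ ψ - σ φ₀‖ ^ N)]
      exact mul_le_mul_of_nonneg_left hKn (abs_nonneg _)
    · refine le_trans ?_ (le_add_of_nonneg_left (mul_nonneg (mul_nonneg (abs_nonneg _) (pow_nonneg hK0 _))
        (pow_nonneg (norm_nonneg _) _)))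
      rw [div_mul_eq_mul_div, le_div_iff₀ (pow_pos hδ N), mul_assoc, mul_assoc]
      exact mul_le_mul ((hB₀ ψ hψ).trans (le_abs_self _))
        ((mul_le_mul_of_nonneg_left (pow_le_pow_left₀ hδ.le hge N) (pow_nonneg (norm_nonneg _) _)).trans hKn)
        (mul_nonneg (pow_nonneg (norm_nonneg _) _) (pow_nonneg hδ.le _)) (abs_nonneg _)
  obtain ⟨q₀, hq₀⟩ := hcall P'
  set q := q₀ %ₘ h with hqdef
  have hq : c • P' = aeval θ q := by
    rw [hq₀]
    conv_lhs => rw [← modByMonic_add_div q₀ h]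
    rw [map_add, map_mul, hθ, zero_mul, add_zero]
  -- the coefficients of `D₀ q` have high order
  obtain ⟨Cq, hCq⟩ : ∃ Cq : ℝ, ∀ k' z, ‖z - p‖ < 1 → MvPolynomial.eval z (D₀ * c) ≠ 0 →
      ‖MvPolynomial.eval z (D₀ * q.coeff k')‖ ≤ Cq * ‖z - p‖ ^ n' := by
    obtain ⟨Bc, hBc⟩ := (isCompact_closedBall p 1).exists_bound_of_continuousOn (MvPolynomial.continuous_eval c).continuousOn
    obtain ⟨T, hT⟩ := hbd θ
    obtain ⟨Bb, hBb⟩ := hbd (aeval θ b)
    refine ⟨h.natDegree * (|Bc| * |E| * |Bb| * (1 + |T|) ^ h.natDegree), fun k' z hz hzD => ?_⟩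
    have hz' : z ∈ Metric.closedBall p 1 := by rw [Metric.mem_closedBall, dist_eq_norm]; exact hz.le
    set hzp := h.map (MvPolynomial.eval z) with hhzp
    set qz := q.map (MvPolynomial.eval z)
    have hzm : hzp.Monic := hm.map _
    have hder : ∀ t ∈ hzp.roots, hzp.derivative.eval t * (b.map (MvPolynomial.eval z)).eval t = MvPolynomial.eval z D₀ := by
      intro t ht
      have h1 := congrArg (fun p => (p.map (MvPolynomial.eval z)).eval t) hab
      simp only [Polynomial.map_add, Polynomial.map_mul, eval_add, eval_mul, map_C, eval_C, ← derivative_map,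
        show (h.map (MvPolynomial.eval z)).eval t = 0 from isRoot_of_mem_roots ht, mul_zero, zero_add] at h1
      rw [mul_comm]; exact h1
    have hD₀z : MvPolynomial.eval z D₀ ≠ 0 := left_ne_zero_of_mul (by rwa [← map_mul])
    have hnd : hzp.roots.Nodup := Multiset.nodup_iff_count_le_one.mpr fun t => by
      rw [count_roots]
      by_contra hlt
      obtain ⟨h1, h2⟩ := (one_lt_rootMultiplicity_iff_isRoot hzm.ne_zero).mp (not_le.mp hlt)
      have := hder t ((mem_roots hzm.ne_zero).mpr h1)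
      rw [show hzp.derivative.eval t = 0 from h2, zero_mul] at this
      exact hD₀z this.symm
    set Z := hzp.roots.toFinset with hZ
    have hZcard : Z.card = h.natDegree := by
      rw [hZ, Multiset.toFinset_card_of_nodup hnd, IsAlgClosed.card_roots_eq_natDegree, hm.natDegree_map]
    have hdegh : hzp.degree = (Z.card : WithBot ℕ) := by
      rw [hZcard, ← hm.natDegree_map (MvPolynomial.eval z), ← degree_eq_natDegree hzm.ne_zero]
    have hprod : hzp = ∏ t ∈ Z, (X - C t) := by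
      conv_lhs => rw [(IsAlgClosed.splits hzp).eq_prod_roots_of_monic hzm]
      rw [Finset.prod_eq_multiset_prod, hZ, Multiset.toFinset_val, hnd.dedup]
    have hderprod : ∀ t ∈ Z, hzp.derivative.eval t = ∏ u ∈ Z.erase t, (t - u) := fun t ht => by
      conv_lhs => rw [hprod, ← Finset.mul_prod_erase Z _ ht, derivative_mul]
      simp [eval_prod]
    have hid : C (MvPolynomial.eval z D₀) * qz =
        ∑ t ∈ Z, C (qz.eval t * (b.map (MvPolynomial.eval z)).eval t) * ∏ u ∈ Z.erase t, (X - C u) := by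
      refine Polynomial.eq_of_degrees_lt_of_eval_index_eq Z (v := id) Function.injective_id.injOn ?_ ?_ fun t ht => ?_
      · rw [degree_C_mul hD₀z, ← hdegh, hhzp, hm.degree_map]
        exact lt_of_le_of_lt degree_map_le (degree_modByMonic_lt q₀ hm)
      · refine lt_of_le_of_lt (degree_sum_le _ _) ((Finset.sup_lt_iff (WithBot.bot_lt_coe _)).mpr fun t ht => ?_)
        refine lt_of_le_of_lt ((degree_mul_le _ _).trans (add_le_add degree_C_le le_rfl)) ?_
        rw [zero_add, degree_prod]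
        simp only [degree_X_sub_C, Finset.sum_const, Finset.card_erase_of_mem ht, nsmul_one]
        exact_mod_cast Nat.sub_lt (Finset.card_pos.mpr ⟨t, ht⟩) one_pos
      · show _ = Polynomial.eval t _
        rw [eval_finsetSum, Finset.sum_eq_single_of_mem t ht fun u hu hne => by
          rw [eval_mul, eval_prod, Finset.prod_eq_zero (Finset.mem_erase.mpr ⟨hne.symm, ht⟩) (by simp), mul_zero]]
        simp only [id_eq, eval_mul, eval_C, eval_prod, eval_sub, eval_X]
        rw [← hderprod t ht, ← hder t (Multiset.mem_toFinset.mp ht)]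
        ring
    have hterm : ∀ t ∈ Z, ‖t‖ ≤ |T| ∧ ‖qz.eval t * (b.map (MvPolynomial.eval z)).eval t‖ ≤ |Bc| * |E| * |Bb| * ‖z - p‖ ^ n' := by
      intro t ht
      let Φ : R[X] →ₐ[ℂ] A := (aeval θ).restrictScalars ℂ
      have hroot : hzp.IsRoot t := isRoot_of_mem_roots (Multiset.mem_toFinset.mp ht)
      let E' : R[X] →+* ℂ := eval₂RingHom (MvPolynomial.eval z) t
      have hker : RingHom.ker Φ.rangeRestrict.toRingHom ≤ RingHom.ker E' := fun Q hQ => by
        obtain ⟨Q', rfl⟩ := hdvd Q (congrArg Subtype.val hQ)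
        show E' (h * Q') = 0
        rw [map_mul, show E' h = 0 from (Polynomial.eval_map (MvPolynomial.eval z) t).symm.trans hroot, zero_mul]
      let χ₀ : Φ.range →+* ℂ := RingHom.liftOfSurjective Φ.rangeRestrict.toRingHom Φ.rangeRestrict_surjective ⟨E', hker⟩
      have hχ₀ : ∀ Q, χ₀ (Φ.rangeRestrict Q) = E' Q := fun Q => RingHom.liftOfRightInverse_comp_apply _ _ _ _ Q
      let χ : Φ.range →ₐ[ℂ] ℂ := ⟨χ₀, fun x => by
        show χ₀ (algebraMap ℂ Φ.range x) = _
        rw [← Φ.rangeRestrict.commutes x, hχ₀]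
        simp [E', IsScalarTower.algebraMap_apply ℂ R R[X]]
        exact MvPolynomial.eval_C _⟩
      have hint : Algebra.IsIntegral Φ.range A := ⟨fun y => by
        obtain ⟨Q, hQ, hQy⟩ := Algebra.IsIntegral.isIntegral (R := R) y
        let ι : R →+* Φ.range := (Φ.rangeRestrict.toRingHom).comp (C : R →+* R[X])
        refine ⟨Q.map ι, hQ.map _, ?_⟩
        rw [eval₂_map, show (algebraMap Φ.range A).comp ι = algebraMap R A from RingHom.ext fun x => aeval_C θ x]
        exact hQy⟩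
      obtain ⟨ψ, hψ⟩ := AlgDensity.exists_algHom_of_hom Φ.range hint χ
      have hψΦ : ∀ Q : R[X], ψ (aeval θ Q) = E' Q := fun Q => (hψ (Φ.rangeRestrict Q)).trans (hχ₀ Q)
      have hcoord : coord ψ = z := funext fun j => by
        have h1 := hψΦ (C (MvPolynomial.X j))
        rw [aeval_C] at h1
        exact h1.trans ((eval₂_C _ _).trans (MvPolynomial.eval_X j))
      have hθt : ψ θ = t := by
        have h1 := hψΦ X
        rw [aeval_X] at h1
        exact h1.trans (eval₂_X _ _)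
      have hψ1 : ‖coord ψ - p‖ ≤ 1 := by rw [hcoord]; exact hz.le
      refine ⟨hθt ▸ (hT ψ hψ1).trans (le_abs_self _), ?_⟩
      have h1 := hev' ψ q
      rw [hcoord, hθt] at h1
      have h2 := hev' ψ b
      rw [hcoord, hθt] at h2
      rw [← h1, ← h2, ← hq, Algebra.smul_def, map_mul, hev, hcoord, norm_mul, norm_mul]
      have hEb := hE ψ hψ1
      rw [hcoord] at hEb
      calc ‖MvPolynomial.eval z c‖ * ‖ψ P'‖ * ‖ψ (aeval θ b)‖ ≤ |Bc| * (|E| * ‖z - p‖ ^ n') * |Bb| :=
            mul_le_mul (mul_le_mul ((hBc z hz').trans (le_abs_self _))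
              (hEb.trans (mul_le_mul_of_nonneg_right (le_abs_self _) (pow_nonneg (norm_nonneg _) _))) (norm_nonneg _) (abs_nonneg _))
              ((hBb ψ hψ1).trans (le_abs_self _)) (norm_nonneg _)
              (mul_nonneg (abs_nonneg _) (mul_nonneg (abs_nonneg _) (pow_nonneg (norm_nonneg _) _)))
        _ = |Bc| * |E| * |Bb| * ‖z - p‖ ^ n' := by ring
    have hcoeffid : MvPolynomial.eval z (D₀ * q.coeff k') =
        ∑ t ∈ Z, qz.eval t * (b.map (MvPolynomial.eval z)).eval t * (∏ u ∈ Z.erase t, (X - C u)).coeff k' := by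
      have h1 := congrArg (fun f => Polynomial.coeff f k') hid
      simp only [qz, coeff_C_mul, coeff_map, finsetSum_coeff] at h1
      rw [map_mul]
      exact h1
    rw [hcoeffid]
    refine (norm_sum_le _ _).trans ((Finset.sum_le_sum fun t ht => ?_).trans (le_of_eq
      (b := (h.natDegree : ℝ) * (|Bc| * |E| * |Bb| * (1 + |T|) ^ h.natDegree) * ‖z - p‖ ^ n') (by
        rw [Finset.sum_const, hZcard, nsmul_eq_mul, mul_assoc (h.natDegree : ℝ)])))
    rw [norm_mul]
    calc ‖qz.eval t * (b.map (MvPolynomial.eval z)).eval t‖ * ‖(∏ u ∈ Z.erase t, (X - C u)).coeff k'‖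
        ≤ |Bc| * |E| * |Bb| * ‖z - p‖ ^ n' * (1 + |T|) ^ h.natDegree := by
          refine mul_le_mul (hterm t ht).2 ((AnRootSet.norm_coeff_prod_le _ (abs_nonneg T)
            (fun u hu => (hterm u (Finset.mem_of_mem_erase hu)).1) k').trans
              (pow_le_pow_right₀ (le_add_of_nonneg_right (abs_nonneg T)) ?_)) (norm_nonneg _)
            (mul_nonneg (mul_nonneg (mul_nonneg (abs_nonneg _) (abs_nonneg _)) (abs_nonneg _)) (pow_nonneg (norm_nonneg _) _))
          rw [← hZcard]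
          exact Finset.card_le_card (Finset.erase_subset _ _)
      _ = |Bc| * |E| * |Bb| * (1 + |T|) ^ h.natDegree * ‖z - p‖ ^ n' := by ring
  have hcoeff : ∀ k', D₀ * q.coeff k' ∈ Ideal.span (Set.range fun i => MvPolynomial.X i - MvPolynomial.C (p i)) ^ n' := by
    intro k'
    refine mem_pow_of_bound _ p n' one_pos (C₂ := Cq) fun z hz => ?_
    obtain ⟨u, hu, hune⟩ := AlgDensity.exists_seq_ne_zero _ (mul_ne_zero hD₀ hc) z
    have hcont : Continuous fun z => ‖z - p‖ ^ n' := ((continuous_id.sub continuous_const).norm).pow n'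
    refine le_of_tendsto_of_tendsto (((MvPolynomial.continuous_eval _).norm.tendsto z).comp hu)
      ((tendsto_const_nhds (x := Cq)).mul ((hcont.tendsto z).comp hu)) ?_
    have hev2 : ∀ᶠ i in atTop, ‖u i - p‖ < 1 :=
      ((((continuous_id.sub continuous_const).norm).tendsto z).comp hu).eventually (Iio_mem_nhds hz)
    filter_upwards [hev2] with i hi
    exact hCq k' _ hi (hune i)
  have hle : W ≤ 𝔪 := Ideal.span_le.mpr (by
    rintro _ ⟨j, rfl⟩
    show φ₀ _ = 0
    rw [hev, map_sub, MvPolynomial.eval_X, MvPolynomial.eval_C]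
    exact sub_self _)
  have hmemW : Dc * P' ∈ 𝔪 ^ n' := by
    rw [show Dc * P' = algebraMap R A D₀ * (c • P') by simp only [Dc, Algebra.smul_def, map_mul, mul_assoc], hq,
      aeval_eq_sum_range, Finset.mul_sum]
    refine Ideal.sum_mem _ fun j _ => ?_
    rw [Algebra.smul_def, ← mul_assoc, ← map_mul]
    refine Ideal.mul_mem_right _ _ (Ideal.pow_right_mono hle n' ?_)
    have h1 := Ideal.mem_map_of_mem (algebraMap R A) (hcoeff j)
    rw [Ideal.map_pow, Ideal.map_span, ← Set.range_comp] at h1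
    exact h1
  have hmem2 : Dc * P' ∈ (𝔪 ^ n' • ⊤ : Submodule A A) ⊓ Ideal.span {Dc} :=
    ⟨by simpa using hmemW, Ideal.mem_span_singleton.mpr ⟨P', rfl⟩⟩
  rw [hk n' (Nat.le_add_left k n), show n' - k = n by omega] at hmem2
  have hmem3 : Dc * P' ∈ 𝔪 ^ n * Ideal.span {Dc} :=
    (Ideal.mul_mono_right (inf_le_right)) hmem2
  obtain ⟨y, hy, hy'⟩ := Ideal.mem_mul_span_singleton.mp hmem3
  have hP'n : P' ∈ 𝔪 ^ n := by
    rw [mul_comm] at hy'
    exact mul_left_cancel₀ hDc hy' ▸ hy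
  haveI h𝔪 : 𝔪.IsMaximal := RingHom.ker_isMaximal_of_surjective φ₀.toRingHom fun x => ⟨algebraMap ℂ A x, φ₀.commutes x⟩
  have htop : Ideal.span {e} ⊔ 𝔪 = ⊤ := (h𝔪.out.2 _ (lt_of_le_of_ne le_sup_right fun heq => one_ne_zero
    (he₀.symm.trans (show φ₀ e = 0 from heq.symm.le (Ideal.mem_sup_left (Ideal.mem_span_singleton_self e))))))
  obtain ⟨y₁, hy₁, y₂, hy₂, hy12⟩ := Submodule.mem_sup.mp
    ((Ideal.eq_top_iff_one _).mp (Ideal.pow_sup_pow_eq_top (m := N) (n := n) htop))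
  rw [Ideal.span_singleton_pow, Ideal.mem_span_singleton] at hy₁
  obtain ⟨w, rfl⟩ := hy₁
  rw [← mul_one P, ← hy12, mul_add, ← mul_assoc]
  exact add_mem (Ideal.mul_mem_right _ _ hP'n) (Ideal.mul_mem_left _ _ hy₂)

/-- Functions of high order at a point lie in a high power of the maximal ideal, in the reduced case. -/
theorem exists_order_reduced {A : Type} [CommRing A] [IsReduced A] [Algebra ℂ A] [Algebra.FiniteType ℂ A]
    {m : ℕ} (s : Fin m → A) (hs : Function.Surjective (MvPolynomial.aeval (R := ℂ) s))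
    (φ₀ : A →ₐ[ℂ] ℂ) (n : ℕ) :
    ∃ N : ℕ, ∀ P : A, (∃ C : ℝ, ∃ δ > 0, ∀ ψ : A →ₐ[ℂ] ℂ, ‖(fun i => ψ (s i)) - fun i => φ₀ (s i)‖ < δ →
      ‖ψ P‖ ≤ C * ‖(fun i => ψ (s i)) - fun i => φ₀ (s i)‖ ^ N) →
      P ∈ RingHom.ker φ₀.toRingHom ^ n := by
  classical
  haveI : IsNoetherianRing A := Algebra.FiniteType.isNoetherianRing ℂ A
  set 𝔪 := RingHom.ker φ₀.toRingHom
  haveI h𝔪 : 𝔪.IsMaximal := RingHom.ker_isMaximal_of_surjective φ₀.toRingHom fun x => ⟨algebraMap ℂ A x, φ₀.commutes x⟩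
  have hfin := (minimalPrimes.finite_of_isNoetherianRing A)
  haveI : Fintype (minimalPrimes A) := hfin.fintype
  let ι : A →ₗ[A] (∀ p : minimalPrimes A, A ⧸ p.1) := LinearMap.pi fun p => (Ideal.Quotient.mkₐ A p.1).toLinearMap
  have hιinj : Function.Injective ι := by
    rw [← LinearMap.ker_eq_bot, eq_bot_iff]
    intro a ha
    have h : a ∈ sInf (minimalPrimes A) := Submodule.mem_sInf.mpr fun p hp =>
      Ideal.Quotient.eq_zero_iff_mem.mp (congrFun ha ⟨p, hp⟩)
    rwa [show sInf (minimalPrimes A) = (⊥ : Ideal A) by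
      rw [minimalPrimes, Ideal.sInf_minimalPrimes, ← Ideal.zero_eq_bot, ← nilradical, nilradical_eq_zero]] at h
  haveI : Module.Finite A (∀ p : minimalPrimes A, A ⧸ p.1) := inferInstance
  obtain ⟨k, hk⟩ := Ideal.exists_pow_inf_eq_pow_smul 𝔪 (LinearMap.range ι)
  have hp : ∀ p : minimalPrimes A, ∃ N : ℕ, ∀ P : A, (∃ C : ℝ, ∃ δ > 0, ∀ ψ : A →ₐ[ℂ] ℂ,
      ‖(fun i => ψ (s i)) - fun i => φ₀ (s i)‖ < δ → ‖ψ P‖ ≤ C * ‖(fun i => ψ (s i)) - fun i => φ₀ (s i)‖ ^ N) →
      Ideal.Quotient.mk p.1 P ∈ (𝔪 ^ (n + k)).map (Ideal.Quotient.mk p.1) := by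
    intro p
    haveI : p.1.IsPrime := p.2.1.1
    by_cases hle : p.1 ≤ 𝔪
    · let φ₁ : A ⧸ p.1 →ₐ[ℂ] ℂ := Ideal.Quotient.liftₐ p.1 φ₀ fun a ha => hle ha
      have hs' : Function.Surjective (MvPolynomial.aeval (R := ℂ) fun i => Ideal.Quotient.mk p.1 (s i)) := by
        rw [show (MvPolynomial.aeval (R := ℂ) fun i => Ideal.Quotient.mk p.1 (s i)) =
          (Ideal.Quotient.mkₐ ℂ p.1).comp (MvPolynomial.aeval s) from
            MvPolynomial.algHom_ext fun i => by simp]
        exact Ideal.Quotient.mk_surjective.comp hs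
      obtain ⟨N, hN⟩ := exists_order (fun i => Ideal.Quotient.mk p.1 (s i)) hs' φ₁ (n + k)
      refine ⟨N, fun P hP => ?_⟩
      obtain ⟨C, δ, hδ, hb⟩ := hP
      have h1 := hN (Ideal.Quotient.mk p.1 P) ⟨C, δ, hδ, fun ψ hψ => hb (ψ.comp (Ideal.Quotient.mkₐ ℂ p.1)) hψ⟩
      rw [show RingHom.ker φ₁.toRingHom = 𝔪.map (Ideal.Quotient.mk p.1) from ?_, ← Ideal.map_pow] at h1
      · exact h1
      · ext y
        obtain ⟨y, rfl⟩ := Ideal.Quotient.mk_surjective y
        show φ₀ y = 0 ↔ _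
        rw [Ideal.mem_quotient_iff_mem hle]
        rfl
    · refine ⟨0, fun P _ => ?_⟩
      rw [Ideal.map_pow, show 𝔪.map (Ideal.Quotient.mk p.1) = ⊤ from ?_, Ideal.top_pow]
      · trivial
      · rw [Ideal.eq_top_iff_one, Ideal.mem_map_iff_of_surjective _ Ideal.Quotient.mk_surjective]
        obtain ⟨a, ha, b, hb, hab⟩ := Submodule.mem_sup.mp ((Ideal.eq_top_iff_one _).mp
          (h𝔪.out.2 (p.1 ⊔ 𝔪) (lt_of_le_of_ne le_sup_right fun h => hle (h.symm ▸ le_sup_left))))
        refine ⟨b, hb, ?_⟩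
        rw [← map_one (Ideal.Quotient.mk p.1), ← hab, map_add, Ideal.Quotient.eq_zero_iff_mem.mpr ha, zero_add]
  choose N hN using hp
  refine ⟨Finset.univ.sup N, fun P hP => ?_⟩
  obtain ⟨C, δ, hδ, hb⟩ := hP
  have hmem : ι P ∈ (𝔪 ^ (n + k) • ⊤ : Submodule A (∀ p : minimalPrimes A, A ⧸ p.1)) := by
    rw [← Finset.univ_sum_single (ι P)]
    refine Submodule.sum_mem _ fun p _ => ?_
    obtain ⟨a, ha, hae⟩ := (Ideal.mem_map_iff_of_surjective _ Ideal.Quotient.mk_surjective).mp (hN p P ⟨|C|, min δ 1,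
      lt_min hδ one_pos, fun ψ hψ => (hb ψ (hψ.trans_le (min_le_left _ _))).trans
        ((mul_le_mul_of_nonneg_right (le_abs_self C) (pow_nonneg (norm_nonneg _) _)).trans
          (mul_le_mul_of_nonneg_left (pow_le_pow_of_le_one (norm_nonneg _) (hψ.trans_le (min_le_right _ _)).le
            (Finset.le_sup (Finset.mem_univ p))) (abs_nonneg C)))⟩)
    rw [show Pi.single (M := fun p : minimalPrimes A => A ⧸ p.1) p (ι P p) = a • Pi.single p 1 from ?_]
    · exact Submodule.smul_mem_smul ha trivial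
    · funext q
      by_cases hq : q = p
      · subst hq
        rw [Pi.smul_apply, Pi.single_eq_same, Pi.single_eq_same]
        show Ideal.Quotient.mk q.1 P = a • (1 : A ⧸ q.1)
        rw [Algebra.smul_def, mul_one]
        exact hae.symm
      · rw [Pi.smul_apply, Pi.single_eq_of_ne hq, Pi.single_eq_of_ne hq, smul_zero]
  have hmem2 : ι P ∈ (𝔪 ^ (n + k) • ⊤ : Submodule A (∀ p : minimalPrimes A, A ⧸ p.1)) ⊓ LinearMap.range ι :=
    ⟨hmem, LinearMap.mem_range_self ι P⟩
  rw [hk (n + k) (Nat.le_add_left k n), Nat.add_sub_cancel] at hmem2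
  have hmem3 : ι P ∈ 𝔪 ^ n • LinearMap.range ι := (Submodule.smul_mono le_rfl inf_le_right) hmem2
  rw [LinearMap.range_eq_map, ← Submodule.map_smul'', smul_eq_mul, Ideal.mul_top] at hmem3
  obtain ⟨Q, hQ, hQP⟩ := hmem3
  exact hιinj hQP ▸ hQ

end Groth.Agent.H05EGA4.AnOrder
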