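import Groth.Agent.H05EGA4.An.Constructible
import Mathlib

/-!
Fibre products and separatedness on the space of `ℂ`-points.
-/

set_option autoImplicit false
set_option linter.style.haveILetI false
set_option linter.unusedSectionVars false

open AlgebraicGeometry CategoryTheory TopologicalSpace Topology An

noncomputable section

namespace Groth.Agent.H05EGA4.AnPts

variable {X Y S : Scheme.{0}} [X.Over SC] [Y.Over SC] [S.Over SC]
  [LocallyOfFiniteType (X ↘ SC)] [LocallyOfFiniteType (Y ↘ SC)] [LocallyOfFiniteType (S ↘ SC)]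

theorem locallyOfFiniteType_hom (f : X ⟶ S) [f.IsOver SC] : LocallyOfFiniteType f := by
  haveI : LocallyOfFiniteType (f ≫ S ↘ SC) := by rw [comp_over f]; infer_instance
  exact locallyOfFiniteType_of_comp f (S ↘ SC)

theorem locallyOfFiniteType_pullback (f : X ⟶ S) (g : Y ⟶ S) [f.IsOver SC] [g.IsOver SC] :
    LocallyOfFiniteType (Limits.pullback f g ↘ SC) := by
  haveI := locallyOfFiniteType_hom g
  haveI : LocallyOfFiniteType (Limits.pullback.fst f g) := MorphismProperty.pullback_fst f g inferInstance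
  show LocallyOfFiniteType (Limits.pullback.fst f g ≫ X ↘ SC)
  infer_instance

/-- The pair of projections. -/
def pair (f : X ⟶ S) (g : Y ⟶ S) [f.IsOver SC] [g.IsOver SC] :
    Pts (Limits.pullback f g) → {q : Pts X × Pts Y // Pts.map f q.1 = Pts.map g q.2} :=
  fun z => ⟨(Pts.map (Limits.pullback.fst f g) z, Pts.map (Limits.pullback.snd f g) z),
    Pts.map_pullback_condition f g z⟩

theorem pair_bijective (f : X ⟶ S) (g : Y ⟶ S) [f.IsOver SC] [g.IsOver SC] : Function.Bijective (pair f g) := by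
  refine ⟨fun z w h => ?_, fun q => ?_⟩
  · have h1 := congrArg (fun q => q.1.1.1) h
    have h2 := congrArg (fun q => q.1.2.1) h
    exact Subtype.ext (Limits.pullback.hom_ext h1 h2)
  · obtain ⟨⟨a, b⟩, hab⟩ := q
    refine ⟨⟨Limits.pullback.lift a.1 b.1 (congrArg Subtype.val hab), ?_⟩, Subtype.ext (Prod.ext (Subtype.ext ?_) (Subtype.ext ?_))⟩
    · show _ ≫ (Limits.pullback.fst f g ≫ X ↘ SC) = _
      rw [← Category.assoc, Limits.pullback.lift_fst]
      exact a.2
    · exact Limits.pullback.lift_fst _ _ _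
    · exact Limits.pullback.lift_snd _ _ _

theorem isInducing_pair_affine [IsAffine X] [IsAffine Y] [IsAffine S] (f : X ⟶ S) (g : Y ⟶ S) [f.IsOver SC] [g.IsOver SC] :
    IsInducing fun z => (Pts.map (Limits.pullback.fst f g) z, Pts.map (Limits.pullback.snd f g) z) := by
  obtain ⟨n, s, hs⟩ := exists_generators (X := X)
  obtain ⟨m, t, ht⟩ := exists_generators (X := Y)
  let r : Fin n ⊕ Fin m → Γ(Limits.pullback f g, ⊤) :=
    Sum.elim (fun i => (Limits.pullback.fst f g).appTop (s i)) (fun j => (Limits.pullback.snd f g).appTop (t j))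
  have hstr : ∀ {Z : Scheme.{0}} [Z.Over SC] (h : Limits.pullback f g ⟶ Z) [h.IsOver SC] (c : ℂ),
      h.appTop (strHom Z c) = strHom (Limits.pullback f g) c := by
    intro Z _ h _ c
    show (((Z ↘ SC).appTop ≫ h.appTop) _) = _
    rw [← Scheme.Hom.comp_appTop, comp_over h]
    rfl
  set Φ := MvPolynomial.eval₂Hom (strHom (Limits.pullback f g)) r
  have hr : Function.Surjective Φ := by
    have h1 : ∀ P, Φ (MvPolynomial.rename Sum.inl P) =
        (Limits.pullback.fst f g).appTop (MvPolynomial.eval₂Hom (strHom X) s P) := by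
      refine RingHom.congr_fun (f := Φ.comp (MvPolynomial.rename Sum.inl).toRingHom)
        (g := (Limits.pullback.fst f g).appTop.hom.comp (MvPolynomial.eval₂Hom (strHom X) s))
        (MvPolynomial.ringHom_ext (fun c => ?_) fun i => ?_)
      · simp [Φ, hstr]
      · simp [Φ, r]
    have h2 : ∀ P, Φ (MvPolynomial.rename Sum.inr P) =
        (Limits.pullback.snd f g).appTop (MvPolynomial.eval₂Hom (strHom Y) t P) := by
      refine RingHom.congr_fun (f := Φ.comp (MvPolynomial.rename Sum.inr).toRingHom)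
        (g := (Limits.pullback.snd f g).appTop.hom.comp (MvPolynomial.eval₂Hom (strHom Y) t))
        (MvPolynomial.ringHom_ext (fun c => ?_) fun i => ?_)
      · simp [Φ, hstr]
      · simp [Φ, r]
    rw [← RingHom.range_eq_top, eq_top_iff, ← CommRingCat.closure_range_union_range_eq_top_of_isPushout
      (isPushout_appTop_of_isPullback (IsPullback.of_hasPullback f g)), Subring.closure_le, Set.union_subset_iff]
    refine ⟨?_, ?_⟩
    · rintro _ ⟨a, rfl⟩
      obtain ⟨P, rfl⟩ := hs a
      exact ⟨_, h1 P⟩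
    · rintro _ ⟨a, rfl⟩
      obtain ⟨P, rfl⟩ := ht a
      exact ⟨_, h2 P⟩
  have hemb := (isClosedEmbedding_evTop r hr).isInducing
  refine IsInducing.of_comp (g := fun (q : Pts X × Pts Y) => Sum.elim (fun i => q.1.evTop (s i)) (fun j => q.2.evTop (t j)))
    ((Pts.continuous_map _).prodMk (Pts.continuous_map _)) ?_ ?_
  · refine continuous_pi fun i => ?_
    rcases i with i | j
    · exact (continuous_evTop (s i)).comp continuous_fst
    · exact (continuous_evTop (t j)).comp continuous_snd
  · convert hemb using 1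
    funext z i
    rcases i with i | j <;> exact Pts.ev_map _ z ⊤ (Opens.mem_top _) _

theorem isInducing_pair (f : X ⟶ S) (g : Y ⟶ S) [f.IsOver SC] [g.IsOver SC] : IsInducing (pair f g) := by
  refine IsInducing.of_comp (g := Subtype.val)
    (Continuous.subtype_mk ((Pts.continuous_map _).prodMk (Pts.continuous_map _)) _) continuous_subtype_val ?_
  refine isInducing_of_forall _ ((Pts.continuous_map _).prodMk (Pts.continuous_map _)) fun W h V hV z hz => ?_
  set a := Pts.map (Limits.pullback.fst f g) z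
  set b := Pts.map (Limits.pullback.snd f g) z
  obtain ⟨US, hUS, hsUS, -⟩ := exists_isAffineOpen_mem_and_subset (x := (Pts.map f a).pt) (U := (⊤ : S.Opens)) trivial
  have hbUS : (Pts.map g b).pt ∈ US := Pts.map_pullback_condition f g z ▸ hsUS
  obtain ⟨UX, hUX, haUX, hX'⟩ := exists_isAffineOpen_mem_and_subset (x := a.pt) (U := f ⁻¹ᵁ US) (by
    rw [Pts.pt_map] at hsUS; exact hsUS)
  obtain ⟨UY, hUY, hbUY, hY'⟩ := exists_isAffineOpen_mem_and_subset (x := b.pt) (U := g ⁻¹ᵁ US) (by
    rw [Pts.pt_map] at hbUS; exact hbUS)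
  haveI : IsAffine US.toScheme := hUS
  haveI : IsAffine UX.toScheme := hUX
  haveI : IsAffine UY.toScheme := hUY
  letI : US.toScheme.Over SC := ⟨US.ι ≫ S ↘ SC⟩
  letI : UX.toScheme.Over SC := ⟨UX.ι ≫ X ↘ SC⟩
  letI : UY.toScheme.Over SC := ⟨UY.ι ≫ Y ↘ SC⟩
  haveI : US.ι.IsOver SC := ⟨rfl⟩
  haveI : UX.ι.IsOver SC := ⟨rfl⟩
  haveI : UY.ι.IsOver SC := ⟨rfl⟩
  haveI : LocallyOfFiniteType (US.toScheme ↘ SC) := inferInstanceAs (LocallyOfFiniteType (US.ι ≫ S ↘ SC))
  haveI : LocallyOfFiniteType (UX.toScheme ↘ SC) := inferInstanceAs (LocallyOfFiniteType (UX.ι ≫ X ↘ SC))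
  haveI : LocallyOfFiniteType (UY.toScheme ↘ SC) := inferInstanceAs (LocallyOfFiniteType (UY.ι ≫ Y ↘ SC))
  let f' : UX.toScheme ⟶ US.toScheme := f.resLE US UX hX'
  let g' : UY.toScheme ⟶ US.toScheme := g.resLE US UY hY'
  haveI : f'.IsOver SC := ⟨by
    show f.resLE US UX hX' ≫ US.ι ≫ S ↘ SC = UX.ι ≫ X ↘ SC
    rw [Scheme.Hom.resLE_comp_ι_assoc, comp_over f]⟩
  haveI : g'.IsOver SC := ⟨by
    show g.resLE US UY hY' ≫ US.ι ≫ S ↘ SC = UY.ι ≫ Y ↘ SC
    rw [Scheme.Hom.resLE_comp_ι_assoc, comp_over g]⟩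
  let j : Limits.pullback f' g' ⟶ Limits.pullback f g :=
    Limits.pullback.map f' g' f g UX.ι UY.ι US.ι (Scheme.Hom.resLE_comp_ι _ _) (Scheme.Hom.resLE_comp_ι _ _)
  haveI : j.IsOver SC := ⟨by
    show j ≫ Limits.pullback.fst f g ≫ X ↘ SC = Limits.pullback.fst f' g' ≫ UX.ι ≫ X ↘ SC
    rw [← Category.assoc, Limits.pullback.lift_fst, Category.assoc]⟩
  have hfst : ∀ z', Pts.map (Limits.pullback.fst f g) (Pts.map j z') = Pts.map UX.ι (Pts.map (Limits.pullback.fst f' g') z') :=
    fun z' => Subtype.ext (by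
      show (z'.1 ≫ j) ≫ Limits.pullback.fst f g = (z'.1 ≫ Limits.pullback.fst f' g') ≫ UX.ι
      rw [Category.assoc, Category.assoc, Limits.pullback.lift_fst])
  have hsnd : ∀ z', Pts.map (Limits.pullback.snd f g) (Pts.map j z') = Pts.map UY.ι (Pts.map (Limits.pullback.snd f' g') z') :=
    fun z' => Subtype.ext (by
      show (z'.1 ≫ j) ≫ Limits.pullback.snd f g = (z'.1 ≫ Limits.pullback.snd f' g') ≫ UY.ι
      rw [Category.assoc, Category.assoc, Limits.pullback.lift_snd])
  have key : ∀ (a' : Pts UX.toScheme) (b' : Pts UY.toScheme) (y : Pts (Limits.pullback f g)),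
      Pts.map UX.ι a' = Pts.map (Limits.pullback.fst f g) y → Pts.map UY.ι b' = Pts.map (Limits.pullback.snd f g) y →
      ∃ y', Pts.map j y' = y ∧ (Pts.map (Limits.pullback.fst f' g') y', Pts.map (Limits.pullback.snd f' g') y') = (a', b') := by
    intro a' b' y ha hb
    have hcond : Pts.map f' a' = Pts.map g' b' := by
      apply map_injective_of_injective US.ι US.ι.isOpenEmbedding.injective
      apply Subtype.ext
      show (a'.1 ≫ f.resLE US UX hX') ≫ US.ι = (b'.1 ≫ g.resLE US UY hY') ≫ US.ι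
      rw [Category.assoc, Category.assoc, Scheme.Hom.resLE_comp_ι, Scheme.Hom.resLE_comp_ι, ← Category.assoc,
        ← Category.assoc, show a'.1 ≫ UX.ι = y.1 ≫ Limits.pullback.fst f g from congrArg Subtype.val ha,
        show b'.1 ≫ UY.ι = y.1 ≫ Limits.pullback.snd f g from congrArg Subtype.val hb, Category.assoc, Category.assoc,
        Limits.pullback.condition]
    obtain ⟨y', hy'⟩ := (pair_bijective f' g').2 ⟨(a', b'), hcond⟩
    have h1 : Pts.map (Limits.pullback.fst f' g') y' = a' := congrArg (fun q => q.1.1) hy'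
    have h2 : Pts.map (Limits.pullback.snd f' g') y' = b' := congrArg (fun q => q.1.2) hy'
    exact ⟨y', (pair_bijective f g).1 (Subtype.ext (Prod.ext ((hfst y').trans (h1.symm ▸ ha))
      ((hsnd y').trans (h2.symm ▸ hb)))), congrArg Subtype.val hy'⟩
  obtain ⟨a', ha'⟩ : a ∈ Set.range (Pts.map UX.ι) := by
    rw [range_map UX.ι UX.ι.isOpenEmbedding.injective]
    show a.pt ∈ Set.range UX.ι
    rw [Scheme.Opens.range_ι]
    exact haUX
  obtain ⟨b', hb'⟩ : b ∈ Set.range (Pts.map UY.ι) := by
    rw [range_map UY.ι UY.ι.isOpenEmbedding.injective]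
    show b.pt ∈ Set.range UY.ι
    rw [Scheme.Opens.range_ι]
    exact hbUY
  obtain ⟨z', hjz, hz'⟩ := key a' b' z ha' hb'
  obtain ⟨O, hO, hOeq⟩ := (isInducing_pair_affine f' g').isOpen_iff.mp
    ((Pts.isOpen_basicSet W h hV).preimage (Pts.continuous_map j))
  refine ⟨Prod.map (Pts.map UX.ι) (Pts.map UY.ι) '' O,
    ((isOpenEmbedding_map UX.ι).prodMap (isOpenEmbedding_map UY.ι)).isOpenMap O hO, ⟨(a', b'), ?_, Prod.ext ha' hb'⟩, ?_⟩
  · have : z' ∈ Pts.map j ⁻¹' Pts.basicSet W h V := by
      show Pts.map j z' ∈ Pts.basicSet W h V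
      rw [hjz]
      exact hz
    rw [← hOeq] at this
    rw [← hz']
    exact this
  · rintro y ⟨⟨a'', b''⟩, hab, heq⟩
    obtain ⟨y', hjy, hy'⟩ := key a'' b'' y (congrArg Prod.fst heq) (congrArg Prod.snd heq)
    have : y' ∈ Pts.map j ⁻¹' Pts.basicSet W h V := by
      rw [← hOeq]
      show (Pts.map (Limits.pullback.fst f' g') y', Pts.map (Limits.pullback.snd f' g') y') ∈ O
      rw [hy']
      exact hab
    exact hjy ▸ this

theorem isHomeomorph_pair (f : X ⟶ S) (g : Y ⟶ S) [f.IsOver SC] [g.IsOver SC] : IsHomeomorph (pair f g) :=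
  isHomeomorph_iff_isEmbedding_surjective.mpr ⟨⟨isInducing_pair f g, (pair_bijective f g).1⟩, (pair_bijective f g).2⟩

section Diagonal

variable (f : X ⟶ S) [f.IsOver SC]

instance isOver_diagonal : (Limits.pullback.diagonal f).IsOver SC := ⟨by
  show Limits.pullback.diagonal f ≫ Limits.pullback.fst f f ≫ X ↘ SC = X ↘ SC
  rw [Limits.pullback.diagonal_fst_assoc]⟩

theorem pair_preimage_diagonal :
    (pair f f) ⁻¹' {q | q.1.1 = q.1.2} = Pts.pt ⁻¹' Set.range (Limits.pullback.diagonal f) := by
  haveI := locallyOfFiniteType_pullback f f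
  rw [← range_map' (Limits.pullback.diagonal f)]
  ext z
  constructor
  · intro hz
    refine ⟨Pts.map (Limits.pullback.fst f f) z, (pair_bijective f f).1 (Subtype.ext (Prod.ext ?_ ?_))⟩
    · apply Subtype.ext
      show ((z.1 ≫ Limits.pullback.fst f f) ≫ Limits.pullback.diagonal f) ≫ Limits.pullback.fst f f = _
      rw [Category.assoc, Limits.pullback.diagonal_fst, Category.comp_id]
      rfl
    · apply Subtype.ext
      show ((z.1 ≫ Limits.pullback.fst f f) ≫ Limits.pullback.diagonal f) ≫ Limits.pullback.snd f f = _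
      rw [Category.assoc, Limits.pullback.diagonal_snd, Category.comp_id]
      exact congrArg Subtype.val hz
  · rintro ⟨x, rfl⟩
    apply Subtype.ext
    show (x.1 ≫ Limits.pullback.diagonal f) ≫ Limits.pullback.fst f f = (x.1 ≫ Limits.pullback.diagonal f) ≫ Limits.pullback.snd f f
    rw [Category.assoc, Category.assoc, Limits.pullback.diagonal_fst, Limits.pullback.diagonal_snd]

theorem isSeparated_iff : IsSeparated f ↔ IsSeparatedMap (Pts.map f) := by
  haveI := locallyOfFiniteType_pullback f f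
  rw [isSeparatedMap_iff_isClosed_diagonal]
  have hh := isHomeomorph_pair f f
  constructor
  · intro hsep
    have hc : IsClosed (pair f f ⁻¹' {q | q.1.1 = q.1.2}) := by
      rw [pair_preimage_diagonal]
      exact (Limits.pullback.diagonal f).isClosedEmbedding.isClosed_range.preimage Pts.continuous_pt
    exact (hh.homeomorph.isClosed_preimage).mp hc
  · intro hd
    have hc : IsClosed (Pts.pt ⁻¹' Set.range (Limits.pullback.diagonal f) : Set (Pts (Limits.pullback f f))) := by
      rw [← pair_preimage_diagonal]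
      exact (hh.homeomorph.isClosed_preimage).mpr hd
    exact ⟨IsClosedImmersion.of_isPreimmersion _
      (isClosed_of_pts (Limits.pullback.diagonal f).isLocallyClosed_range hc)⟩

theorem injective_iff : Function.Injective f ↔ Function.Injective (Pts.map f) := by
  refine ⟨map_injective_of_injective f, fun h => ?_⟩
  haveI := locallyOfFiniteType_pullback f f
  have hall : ∀ z : Pts (Limits.pullback f f), z.pt ∈ Set.range (Limits.pullback.diagonal f) := fun z => by
    show z ∈ Pts.pt ⁻¹' Set.range (Limits.pullback.diagonal f)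
    rw [← pair_preimage_diagonal]
    exact h (pair f f z).2
  haveI : Surjective (Limits.pullback.diagonal f) := ⟨fun p => by
    by_contra hp
    obtain ⟨O, C, hO, hC, heq⟩ := (Limits.pullback.diagonal f).isLocallyClosed_range
    rcases (not_and_or.mp (fun hh => hp (heq ▸ hh : p ∈ Set.range _)) : p ∉ O ∨ p ∉ C) with hpO | hpC
    · obtain ⟨z, hz⟩ := exists_pts_mem hO.isClosed_compl.isLocallyClosed ⟨p, hpO⟩
      exact hz ((heq ▸ hall z : z.pt ∈ O ∩ C).1)
    · obtain ⟨z, hz⟩ := exists_pts_mem hC.isOpen_compl.isLocallyClosed ⟨p, hpC⟩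
      exact hz ((heq ▸ hall z : z.pt ∈ O ∩ C).2)⟩
  haveI : UniversallyInjective f := (UniversallyInjective.iff_diagonal f).mpr inferInstance
  exact f.injective

end Diagonal

end Groth.Agent.H05EGA4.AnPts
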