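import Groth.Agent.H05EGA4.An.Germ
import Groth.Agent.H05EGA4.An.Pullback
import Groth.Agent.H06EGA9.UnramifiedLocus
import Mathlib

/-!
Stalks of the analytification of a morphism.
-/

set_option autoImplicit false
set_option linter.style.haveILetI false
set_option linter.unusedSectionVars false

open AlgebraicGeometry CategoryTheory TopologicalSpace Topology Opposite An

noncomputable section

namespace Groth.Agent.H05EGA4.AnStalk

open AnGerm AnPts

variable {X Y : Scheme.{0}} [X.Over SC] [LocallyOfFiniteType (X ↘ SC)]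

include X in
theorem reflect [IsReduced X] {x : Pts X} (κ : Chart x) (n : ℕ) (a : X.presheaf.stalk x.pt)
    (h : φ x a ∈ ((IsLocalRing.maximalIdeal (X.presheaf.stalk x.pt)).map (φ x)) ^ n) :
    a ∈ IsLocalRing.maximalIdeal (X.presheaf.stalk x.pt) ^ n := by
  obtain ⟨N, hN⟩ := κ.exists_pow_le n
  obtain ⟨b, hb, hba⟩ := κ.exists_approx n N _ h
  have h' := hN (a - b) (by rw [map_sub]; exact sub_mem_comm_iff.mp hba)
  simpa using add_mem h' hb

/-- An ideal generating the analytic maximal ideal is the maximal ideal. -/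
theorem eq_maximalIdeal_of_map [IsReduced X] (x : Pts X) (J : Ideal (X.presheaf.stalk x.pt))
    (hJ : J ≤ IsLocalRing.maximalIdeal (X.presheaf.stalk x.pt))
    (h : J.map (φ x) = (IsLocalRing.maximalIdeal (X.presheaf.stalk x.pt)).map (φ x)) :
    J = IsLocalRing.maximalIdeal (X.presheaf.stalk x.pt) := by
  obtain ⟨κ⟩ := exists_chart x
  haveI : IsLocallyNoetherian X := LocallyOfFiniteType.isLocallyNoetherian (X ↘ SC)
  set 𝔪 := IsLocalRing.maximalIdeal (X.presheaf.stalk x.pt)
  set M := 𝔪.map (φ x) with hM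
  refine le_antisymm hJ (Submodule.le_of_le_smul_of_le_jacobson_bot (I := 𝔪) (IsNoetherian.noetherian 𝔪)
    (IsLocalRing.maximalIdeal_le_jacobson ⊥) fun a ha => ?_)
  have key : ∀ d ∈ J.map (φ x), ∃ j ∈ J, φ x j - d ∈ M ^ 2 := by
    intro d hd
    induction hd using Submodule.span_induction with
    | mem y hy =>
      obtain ⟨j, hj, rfl⟩ := hy
      exact ⟨j, hj, by rw [sub_self]; exact zero_mem _⟩
    | zero => exact ⟨0, zero_mem _, by simp⟩
    | add y z _ _ hy hz =>
      obtain ⟨j, hj, hjy⟩ := hy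
      obtain ⟨k, hk, hkz⟩ := hz
      exact ⟨j + k, add_mem hj hk, by rw [map_add, add_sub_add_comm]; exact add_mem hjy hkz⟩
    | smul r y hy' hy =>
      obtain ⟨j, hj, hjy⟩ := hy
      obtain ⟨c, -, hc⟩ := κ.exists_approx 0 1 r (by simp)
      refine ⟨c * j, Ideal.mul_mem_left _ _ hj, ?_⟩
      have hyM : y ∈ M := Ideal.map_mono hJ hy'
      rw [pow_one] at hc
      rw [smul_eq_mul, map_mul, show φ x c * φ x j - r * y = φ x c * (φ x j - y) + (φ x c - r) * y by ring]
      refine add_mem (Ideal.mul_mem_left _ _ hjy) ?_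
      rw [pow_two]
      exact Ideal.mul_mem_mul hc hyM
  obtain ⟨j, hj, hja⟩ := key (φ x a) (h ▸ Ideal.mem_map_of_mem _ ha)
  have h2 := reflect κ 2 (j - a) (by rwa [map_sub])
  rw [show a = j - (j - a) by ring]
  refine Submodule.sub_mem _ (Submodule.mem_sup_left hj) (Submodule.mem_sup_right ?_)
  rw [smul_eq_mul, ← pow_two]
  exact h2

variable [Y.Over SC] [LocallyOfFiniteType (Y ↘ SC)] (f : X ⟶ Y) [f.IsOver SC]

/-- The analytification of a morphism on stalks. -/
abbrev anStalk (x : Pts X) : (anSpace Y).presheaf.stalk (Pts.map f x) →+* (anSpace X).presheaf.stalk x :=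
  (PresheafedSpace.Hom.stalkMap (anMap f) x).hom

theorem anStalk_φ (x : Pts X) (a : Y.presheaf.stalk (f x.pt)) :
    anStalk f x (φ (Pts.map f x) a) = φ x (f.stalkMap x.pt a) := by
  obtain ⟨W, hW, g, rfl⟩ := Y.presheaf.exists_germ_eq a
  have hW' : (Pts.map f x).pt ∈ W := by rw [Pts.pt_map]; exact hW
  rw [Scheme.Hom.germ_stalkMap_apply, φ_germ x (f ⁻¹ᵁ W) hW]
  refine ((congrArg (anStalk f x) (φ_germ (Pts.map f x) W hW' g)).trans
    (congrArg (fun k => k (toHolApp W g)) (PresheafedSpace.stalkMap_germ (anMap f) ((baseF Y).obj W) x hW'))).trans ?_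
  refine TopCat.Presheaf.germ_ext (holPresheaf X) ((baseF X).obj (f ⁻¹ᵁ W)) hW
    (homOfLE fun z hz => ?_) (𝟙 _) ?_
  · show (Pts.map f z).pt ∈ W
    rw [Pts.pt_map]
    exact hz
  · exact Subtype.ext (funext fun z => Pts.ev_map f z.1 W (by rw [Pts.pt_map]; exact z.2) g)

theorem map_ker_evalO (x : Pts X) :
    (RingHom.ker (evalO (Pts.map f x))).map (anStalk f x) =
      ((IsLocalRing.maximalIdeal (Y.presheaf.stalk (f x.pt))).map (f.stalkMap x.pt).hom).map (φ x) := by
  obtain ⟨κ⟩ := exists_chart (Pts.map f x)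
  rw [← κ.map_maximalIdeal_eq, Ideal.map_map, Ideal.map_map]
  exact congrArg (fun k => Ideal.map k (IsLocalRing.maximalIdeal (Y.presheaf.stalk (f x.pt))))
    (RingHom.ext fun a => anStalk_φ f x a)

theorem isSeparable_residue (x : Pts X) :
    letI := (IsLocalRing.ResidueField.map (f.stalkMap x.pt).hom).toAlgebra
    Algebra.IsSeparable (IsLocalRing.ResidueField (Y.presheaf.stalk (f x.pt)))
      (IsLocalRing.ResidueField (X.presheaf.stalk x.pt)) := by
  letI := (IsLocalRing.ResidueField.map (f.stalkMap x.pt).hom).toAlgebra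
  suffices hsurj : Function.Surjective (IsLocalRing.ResidueField.map (f.stalkMap x.pt).hom) from
    ⟨fun r => by obtain ⟨s, rfl⟩ := hsurj r; exact isSeparable_algebraMap s⟩
  intro r
  obtain ⟨a, rfl⟩ := IsLocalRing.residue_surjective r
  obtain ⟨W, hW, g, rfl⟩ := X.presheaf.exists_germ_eq a
  refine ⟨IsLocalRing.residue _ (Y.presheaf.germ ⊤ (f x.pt) (Opens.mem_top _) (strHom Y (x.ev W hW g))), ?_⟩
  rw [IsLocalRing.ResidueField.map_residue]
  refine Ideal.Quotient.eq.mpr ?_
  have hm : ∀ a : X.presheaf.stalk x.pt, evalO x (φ x a) = 0 → a ∈ IsLocalRing.maximalIdeal (X.presheaf.stalk x.pt) := by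
    intro a ha
    obtain ⟨W', hW', g', rfl⟩ := X.presheaf.exists_germ_eq a
    exact (mem_maximalIdeal_germ_iff x W' hW' g').mpr (by rwa [evalO_φ_germ] at ha)
  refine hm _ ?_
  erw [Scheme.Hom.germ_stalkMap_apply]
  rw [map_sub, map_sub, evalO_φ_germ, evalO_φ_germ, sub_eq_zero, ← Pts.ev_map f x ⊤ (Opens.mem_top _)]
  exact evTop_strHom (Pts.map f x) _

theorem stalk_unramified_iff [IsReduced X] (x : Pts X) :
    (f.stalkMap x.pt).hom.FormallyUnramified ↔
      (RingHom.ker (evalO (Pts.map f x))).map (anStalk f x) = RingHom.ker (evalO x) := by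
  haveI : LocallyOfFiniteType f := AnPts.locallyOfFiniteType_hom f
  obtain ⟨κ⟩ := exists_chart x
  rw [map_ker_evalO, ← κ.map_maximalIdeal_eq]
  algebraize [(f.stalkMap x.pt).hom]
  haveI : IsLocalHom (algebraMap (Y.presheaf.stalk (f x.pt)) (X.presheaf.stalk x.pt)) :=
    inferInstanceAs <| IsLocalHom (f.stalkMap x.pt).hom
  haveI : Algebra.EssFiniteType (Y.presheaf.stalk (f x.pt)) (X.presheaf.stalk x.pt) := by
    rw [← RingHom.essFiniteType_algebraMap, RingHom.algebraMap_toAlgebra]
    exact LocallyOfFiniteType.stalkMap f x.pt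
  haveI hsep : Algebra.IsSeparable (IsLocalRing.ResidueField (Y.presheaf.stalk (f x.pt)))
      (IsLocalRing.ResidueField (X.presheaf.stalk x.pt)) := by
    convert! isSeparable_residue f x
    refine Algebra.algebra_ext _ _ fun r ↦ ?_
    obtain ⟨r, rfl⟩ := IsLocalRing.residue_surjective r
    rfl
  rw [show (f.stalkMap x.pt).hom = algebraMap _ _ from rfl, RingHom.formallyUnramified_algebraMap,
    Algebra.FormallyUnramified.iff_map_maximalIdeal_eq]
  exact ⟨fun h => by rw [h.2], fun h => ⟨hsep, eq_maximalIdeal_of_map x _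
    ((IsLocalRing.local_hom_TFAE (algebraMap _ _)).out 0 2 |>.mp ‹_›) h⟩⟩

theorem formallyUnramified_iff [IsReduced X] :
    FormallyUnramified f ↔ ∀ x : Pts X, (f.stalkMap x.pt).hom.FormallyUnramified := by
  haveI : LocallyOfFiniteType f := AnPts.locallyOfFiniteType_hom f
  refine ⟨fun _ x => FormallyUnramified.stalkMap f x.pt, fun h => ?_⟩
  rw [H06EGA9.formallyUnramified_iff_unramSet]
  by_contra hne
  obtain ⟨x, hx⟩ := exists_pts_mem (H06EGA9.isOpen_unramSet f).isClosed_compl.isLocallyClosed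
    (Set.nonempty_compl.mpr hne)
  exact hx (h x)

end Groth.Agent.H05EGA4.AnStalk
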