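import Groth.Agent.H8Props.FieldDimRing
import Groth.Agent.H1CAlg.LocalDim
import Mathlib.FieldTheory.AlgebraicClosure
import Mathlib.RingTheory.Smooth.StandardSmoothCotangent
import Mathlib.RingTheory.Smooth.StandardSmoothOfFree
import Mathlib.RingTheory.RingHom.StandardSmooth
import Mathlib.AlgebraicGeometry.Morphisms.Smooth

set_option autoImplicit false
set_option linter.style.haveILetI false

open TensorProduct KaehlerDifferential
open scoped IntermediateField.algebraAdjoinAdjoin

universe u

namespace Groth.Agent.H05EGA4.An.Bertini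

variable {k : Type u} [Field k]

/-- The elements of `L` algebraic over the subfield generated by `S`. -/
noncomputable def algCl {L : Type u} [Field L] [Algebra k L] (S : Set L) : IntermediateField k L :=
  (algebraicClosure (IntermediateField.adjoin k S) L).restrictScalars k

theorem mem_algCl {L : Type u} [Field L] [Algebra k L] {S : Set L} {x : L} :
    x ∈ algCl (k := k) S ↔ IsAlgebraic (IntermediateField.adjoin k S) x := by
  rw [algCl, IntermediateField.mem_restrictScalars, mem_algebraicClosure_iff]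

theorem subset_algCl {L : Type u} [Field L] [Algebra k L] (S : Set L) :
    S ⊆ (algCl (k := k) S : Set L) := fun x hx => mem_algCl.2
  (isAlgebraic_algebraMap (⟨x, IntermediateField.subset_adjoin k S hx⟩ : IntermediateField.adjoin k S))

/-- At most `#S` algebraically independent elements are algebraic over `k(S)`. -/
theorem card_le_of_mem_algCl {L : Type u} [Field L] [Algebra k L] {m : ℕ} (v : Fin m → L)
    {N : ℕ} (t : Fin N → L) (ht : AlgebraicIndependent k t)
    (h : ∀ i, t i ∈ algCl (k := k) (Set.range v)) : N ≤ m := by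
  let E0 := IntermediateField.adjoin k (Set.range v)
  let W : IntermediateField E0 L := algebraicClosure E0 L
  let t' : Fin N → W := fun i => ⟨t i, (IntermediateField.mem_restrictScalars k).1 (h i)⟩
  have hind : AlgebraicIndependent k t' :=
    AlgebraicIndependent.of_comp ((W.restrictScalars k).val) ht
  have h1 := hind.lift_cardinalMk_le_trdeg
  have h2 : Algebra.trdeg k W = Algebra.trdeg k E0 := by
    rw [← trdeg_add_eq k E0 (A := W), trdeg_eq_zero (R := E0) (A := W), add_zero]
  let e : Set E0 := Subtype.val ⁻¹' (Set.range v)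
  haveI : Algebra.IsAlgebraic (Algebra.adjoin k (Set.range v)) E0 :=
    IsLocalization.isAlgebraic E0 (nonZeroDivisors _)
  have h3 : Algebra.trdeg k E0 ≤ (m : Cardinal) := by
    have ha : Algebra.trdeg k (Algebra.adjoin k (Set.range v)) ≤ (m : Cardinal) := by
      have := trdeg_le_of_surjective (MvPolynomial.aeval (R := k) fun i : ULift.{u} (Fin m) =>
        (⟨v i.down, Algebra.subset_adjoin ⟨i.down, rfl⟩⟩ : Algebra.adjoin k (Set.range v))) (by
          rw [← AlgHom.range_eq_top, eq_top_iff]
          rintro ⟨x, hx⟩ -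
          rw [Algebra.adjoin_range_eq_range_aeval] at hx
          obtain ⟨p, hp⟩ := hx
          refine ⟨MvPolynomial.rename ULift.up p, Subtype.ext ?_⟩
          rw [AlgHom.toRingHom_eq_coe, RingHom.coe_coe, MvPolynomial.aeval_rename]
          rw [show ((MvPolynomial.aeval (R := k) _) p : Algebra.adjoin k (Set.range v)).1 =
            (Algebra.adjoin k (Set.range v)).val ((MvPolynomial.aeval (R := k) _) p) from rfl,
            MvPolynomial.comp_aeval_apply]
          exact hp)
      rwa [MvPolynomial.trdeg_of_isDomain, Cardinal.mk_uLift, Cardinal.mk_fin, Cardinal.lift_natCast,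
        Cardinal.lift_natCast] at this
    rw [← trdeg_add_eq k (Algebra.adjoin k (Set.range v)) (A := E0),
      trdeg_eq_zero (R := Algebra.adjoin k (Set.range v)), add_zero]
    exact ha
  rw [Cardinal.mk_fin, Cardinal.lift_natCast, Cardinal.lift_id'] at h1
  exact_mod_cast (h1.trans h2.le).trans h3

/-- An algebra étale over a polynomial ring has algebraic image in a field. -/
theorem mem_algCl_of_etale {B L : Type u} [CommRing B] [Algebra k B] [Field L] [Algebra k L]
    {m : ℕ} (g : MvPolynomial (Fin m) k →ₐ[k] B) (hg : g.Etale) (ψ : B →ₐ[k] L) (S : Set L)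
    (hS : ∀ j, ψ (g (MvPolynomial.X j)) ∈ S) (b : B) : ψ b ∈ algCl (k := k) S := by
  rw [mem_algCl]
  let E0 := IntermediateField.adjoin k S
  letI : Algebra (MvPolynomial (Fin m) k) B := g.toRingHom.toAlgebra
  haveI : Algebra.Etale (MvPolynomial (Fin m) k) B := hg
  let φ : MvPolynomial (Fin m) k →ₐ[k] E0 := MvPolynomial.aeval
    fun j => (⟨ψ (g (MvPolynomial.X j)), IntermediateField.subset_adjoin k S (hS j)⟩ : E0)
  letI : Algebra (MvPolynomial (Fin m) k) E0 := φ.toRingHom.toAlgebra
  haveI : Module.Finite E0 (E0 ⊗[MvPolynomial (Fin m) k] B) :=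
    Algebra.FormallyUnramified.finite_of_free _ _
  letI : Algebra (MvPolynomial (Fin m) k) L := ((algebraMap E0 L).comp φ.toRingHom).toAlgebra
  haveI : IsScalarTower (MvPolynomial (Fin m) k) E0 L := IsScalarTower.of_algebraMap_eq fun _ => rfl
  have hcompat : (ψ.comp g) = (IntermediateField.val E0).comp φ := MvPolynomial.algHom_ext fun j => by
    simp [φ]
  let ψ' : B →ₐ[MvPolynomial (Fin m) k] L :=
    { ψ.toRingHom with commutes' := fun p => DFunLike.congr_fun hcompat p }
  let Ψ : E0 ⊗[MvPolynomial (Fin m) k] B →ₐ[E0] L :=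
    Algebra.TensorProduct.lift (Algebra.ofId E0 L) ψ' fun _ _ => Commute.all _ _
  have hb : IsAlgebraic E0 (Ψ (1 ⊗ₜ b)) :=
    ((Algebra.IsIntegral.isIntegral (R := E0) (1 ⊗ₜ[MvPolynomial (Fin m) k] b)).map Ψ).isAlgebraic
  simp only [Ψ, Algebra.TensorProduct.lift_tmul, map_one, one_mul] at hb
  exact hb

/-- The images of the coordinates under a map whose kernel is a minimal prime are independent. -/
theorem algebraicIndependent_of_etale {B L : Type u} [CommRing B] [Algebra k B] [Field L]
    [Algebra k L] {m : ℕ} (g : MvPolynomial (Fin m) k →ₐ[k] B) (hg : g.Etale) (ψ : B →ₐ[k] L)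
    (hmin : RingHom.ker ψ.toRingHom ∈ minimalPrimes B) :
    AlgebraicIndependent k (fun j => ψ (g (MvPolynomial.X j))) := by
  letI : Algebra (MvPolynomial (Fin m) k) B := g.toRingHom.toAlgebra
  haveI : Algebra.Etale (MvPolynomial (Fin m) k) B := hg
  rw [algebraicIndependent_iff]
  intro p hp
  by_contra hp0
  have h1 : g p ∈ nonZeroDivisors B := by
    rw [mem_nonZeroDivisors_iff_right]
    intro x hx
    have hreg : IsSMulRegular B p :=
      Module.Flat.isSMulRegular_of_nonZeroDivisors (mem_nonZeroDivisors_of_ne_zero hp0)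
    refine hreg ?_
    show p • x = p • (0 : B)
    rw [smul_zero, Algebra.smul_def, mul_comm]
    exact hx
  have h2 : g p ∈ RingHom.ker ψ.toRingHom := by
    rw [RingHom.mem_ker]
    have : ψ.comp g = MvPolynomial.aeval (fun j => ψ (g (MvPolynomial.X j))) :=
      MvPolynomial.aeval_unique _
    exact (DFunLike.congr_fun this p).trans hp
  exact Set.disjoint_left.1 (Ideal.disjoint_nonZeroDivisors_of_mem_minimalPrimes hmin) h2 h1

/-- The relative dimension of a smooth chart is the dimension of the components. -/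
theorem relDim_eq {A : Type u} [CommRing A] [Algebra k A] [Algebra.FiniteType k A] (r : ℕ)
    (hdim : ∀ P ∈ minimalPrimes A, ringKrullDim (A ⧸ P) = r) (f : A) (B : Type u) [CommRing B]
    [Algebra A B] [Algebra k B] [IsScalarTower k A B] [IsLocalization.Away f B] [Nontrivial B]
    (m : ℕ) (g : MvPolynomial (Fin m) k →ₐ[k] B) (hg : g.Etale) : m = r := by
  obtain ⟨Q, hQ⟩ := Ideal.nonempty_minimalPrimes (I := (⊥ : Ideal B)) bot_ne_top
  haveI hQp : Q.IsPrime := hQ.1.1
  obtain ⟨hdisj, hQeq⟩ : Disjoint (Submonoid.powers f : Set A) (Q.comap (algebraMap A B)) ∧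
      Ideal.map (algebraMap A B) (Q.comap (algebraMap A B)) = Q :=
    ⟨((IsLocalization.isPrime_iff_isPrime_disjoint (Submonoid.powers f) B Q).1 hQp).2,
      IsLocalization.map_under (Submonoid.powers f) B Q⟩
  set P := Q.comap (algebraMap A B) with hP
  haveI : P.IsPrime := inferInstance
  have hfP : f ∉ P := fun h => Set.disjoint_left.1 hdisj (Submonoid.mem_powers f) h
  have hPmin : P ∈ minimalPrimes A := by
    refine ⟨⟨inferInstance, bot_le⟩, fun P' hP' hle => ?_⟩
    have hd' : Disjoint (Submonoid.powers f : Set A) (P' : Set A) :=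
      hdisj.mono_right (SetLike.coe_subset_coe.2 hle)
    have hpr := IsLocalization.isPrime_of_isPrime_disjoint (Submonoid.powers f) B P' hP'.1 hd'
    have h' := hQ.2 ⟨hpr, bot_le⟩ (le_of_le_of_eq (Ideal.map_mono hle) hQeq)
    calc P ≤ (Ideal.map (algebraMap A B) P').comap (algebraMap A B) := Ideal.comap_mono h'
      _ = P' := IsLocalization.under_map_of_isPrime_disjoint (Submonoid.powers f) B hP'.1 hd'
  have hu : ∀ y : Submonoid.powers f,
      IsUnit ((IsScalarTower.toAlgHom k A P.ResidueField) (y : A)) := by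
    rintro ⟨_, j, rfl⟩
    rw [map_pow]
    refine IsUnit.pow j (isUnit_iff_ne_zero.2 ?_)
    rw [IsScalarTower.toAlgHom_apply, ne_eq, Ideal.algebraMap_residueField_eq_zero]
    exact hfP
  let ψ : B →ₐ[k] P.ResidueField := IsLocalization.liftAlgHom (M := Submonoid.powers f) hu
  have hψ : ∀ a, ψ (algebraMap A B a) = algebraMap A P.ResidueField a := fun a => by
    rw [IsLocalization.liftAlgHom_apply, IsLocalization.lift_eq]
    rfl
  have hker : RingHom.ker ψ.toRingHom = Q := by
    have hc : (RingHom.ker ψ.toRingHom).comap (algebraMap A B) = P := by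
      ext a
      rw [Ideal.mem_comap, RingHom.mem_ker, AlgHom.toRingHom_eq_coe, RingHom.coe_coe, hψ,
        Ideal.algebraMap_residueField_eq_zero]
    rw [← IsLocalization.map_under (Submonoid.powers f) B (RingHom.ker ψ.toRingHom)]
    exact (congrArg (Ideal.map (algebraMap A B)) hc).trans hQeq
  let v : Fin m → P.ResidueField := fun j => ψ (g (MvPolynomial.X j))
  have hind : AlgebraicIndependent k v := algebraicIndependent_of_etale g hg ψ (hker ▸ hQ)
  have hall : ∀ z : P.ResidueField, z ∈ algCl (k := k) (Set.range v) := by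
    intro z
    obtain ⟨⟨a, b⟩, rfl⟩ := IsLocalization.mk'_surjective (nonZeroDivisors (A ⧸ P)) z
    obtain ⟨a, rfl⟩ := Ideal.Quotient.mk_surjective a
    obtain ⟨b', hb'⟩ := Ideal.Quotient.mk_surjective (b : A ⧸ P)
    have hm : ∀ c, algebraMap A P.ResidueField c ∈ algCl (k := k) (Set.range v) := fun c =>
      hψ c ▸ mem_algCl_of_etale g hg ψ (Set.range v) (fun j => ⟨j, rfl⟩) (algebraMap A B c)
    show IsLocalization.mk' _ _ b ∈ _
    rw [IsFractionRing.mk'_eq_div, ← hb']
    exact div_mem (hm a) (hm b')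
  have htr : Algebra.trdeg k P.ResidueField = (m : Cardinal) := by
    refine le_antisymm ?_ ?_
    · obtain ⟨s, hs⟩ := exists_isTranscendenceBasis k P.ResidueField
      rw [← hs.cardinalMk_eq_trdeg]
      by_contra hlt
      push Not at hlt
      obtain ⟨emb⟩ : Nonempty (ULift.{u} (Fin (m + 1)) ↪ s) := by
        rw [← Cardinal.le_def, Cardinal.mk_uLift, Cardinal.mk_fin, Cardinal.lift_natCast,
          Nat.cast_add_one]
        exact Cardinal.add_one_le_of_lt hlt
      have := card_le_of_mem_algCl v (fun i => (emb ⟨i⟩ : P.ResidueField))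
        (hs.1.comp (fun i => emb ⟨i⟩) (emb.injective.comp ULift.up_injective)) (fun i => hall _)
      omega
    · have := hind.lift_cardinalMk_le_trdeg
      rwa [Cardinal.mk_fin, Cardinal.lift_natCast, Cardinal.lift_id'] at this
  have h := H1CAlg.dim_quotient_eq_trdeg (k := k) P m htr
  rw [hdim P hPmin] at h
  exact_mod_cast h.symm

/-- `m` independent relations between `n` elements leave at most `n - m` generators. -/
theorem exists_gens {K L : Type*} [Field K] [Field L] [Algebra K L] {n m : ℕ}
    (M N : Fin m → Fin n → K)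
    (hMN : ∀ l l', ∑ i, M l' i * N l i = if l = l' then 1 else 0) (t : Fin n → L)
    (ht : ∀ l, ∑ i, M l i • t i = 0) :
    ∃ d, d + m ≤ n ∧ ∃ s : Fin d → L, ∀ i, ∃ c : Fin d → K, t i = ∑ j, c j • s j := by
  classical
  let T := Fintype.linearCombination K t
  have hM : LinearIndependent K M := by
    rw [Fintype.linearIndependent_iff]
    intro g hg l
    have := congrArg (fun v : Fin n → K => ∑ i, v i * N l i) hg
    simp only [Finset.sum_apply, Pi.smul_apply, smul_eq_mul, Pi.zero_apply, zero_mul,
      Finset.sum_const_zero, Finset.sum_mul] at this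
    rw [Finset.sum_comm] at this
    simpa [mul_assoc, ← Finset.mul_sum, hMN] using this
  have hle : Submodule.span K (Set.range M) ≤ LinearMap.ker T := by
    rw [Submodule.span_le]
    rintro _ ⟨l, rfl⟩
    simpa [T, Fintype.linearCombination_apply] using ht l
  have h1 := Submodule.finrank_mono hle
  rw [finrank_span_eq_card hM, Fintype.card_fin] at h1
  have h2 := LinearMap.finrank_range_add_finrank_ker T
  rw [Module.finrank_fin_fun] at h2
  refine ⟨Module.finrank K (LinearMap.range T), by omega,
    fun j => (Module.finBasis K (LinearMap.range T) j : L), fun i => ?_⟩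
  let x : LinearMap.range T := ⟨t i, Pi.single i 1, by simp [T]⟩
  refine ⟨(Module.finBasis K (LinearMap.range T)).repr x, ?_⟩
  have := congrArg Subtype.val ((Module.finBasis K (LinearMap.range T)).sum_repr x)
  rw [Submodule.coe_sum] at this
  exact this.symm

/-- If the differentials of `y` span a free module of rank `m` with basis `e`, and `B` is étale over
`k[u_1, …, u_m]`, then some nonzero `g` vanishes at every `a` whose hyperplane has a singular point. -/
theorem exists_g {B : Type u} [CommRing B] [Algebra k B] {n m : ℕ} (y : Fin n → B)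
    (e : Module.Basis (Fin m) B Ω[B⁄k])
    (hspan : Submodule.span B (Set.range fun i => D k B (y i)) = ⊤)
    (g₀ : MvPolynomial (Fin m) k →ₐ[k] B) (hg₀ : g₀.Etale) :
    ∃ g : MvPolynomial (Fin (n + 1)) k, g ≠ 0 ∧
      ∀ a : Fin (n + 1) → k, MvPolynomial.eval a g ≠ 0 →
        ∀ q : Ideal B, q.IsPrime →
          algebraMap k B (a 0) + ∑ i : Fin n, algebraMap k B (a i.succ) * y i ∈ q →
          ∃ l, e.repr (D k B (algebraMap k B (a 0) +
            ∑ i : Fin n, algebraMap k B (a i.succ) * y i)) l ∉ q := by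
  classical
  let H : (MvPolynomial (Fin (n + 1)) B) := MvPolynomial.X 0 + ∑ i : Fin n, MvPolynomial.C (y i) * MvPolynomial.X i.succ
  let M : Fin m → Fin n → B := fun l i => e.repr (D k B (y i)) l
  let c : Fin m → (MvPolynomial (Fin (n + 1)) B) := fun l => ∑ i : Fin n, MvPolynomial.C (M l i) * MvPolynomial.X i.succ
  let J : Ideal (MvPolynomial (Fin (n + 1)) B) := Ideal.span (insert H (Set.range c))
  let ι : MvPolynomial (Fin (n + 1)) k →+* (MvPolynomial (Fin (n + 1)) B) := MvPolynomial.map (algebraMap k B)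
  by_cases hJ : ∃ g, g ≠ 0 ∧ ι g ∈ J
  · obtain ⟨g, hg0, hgJ⟩ := hJ
    refine ⟨g, hg0, fun a ha q hq hh => ?_⟩
    by_contra hc
    push Not at hc
    let ev : (MvPolynomial (Fin (n + 1)) B) →+* B := MvPolynomial.eval (fun i => algebraMap k B (a i))
    have h1 : J ≤ q.comap ev := by
      refine Ideal.span_le.2 (Set.insert_subset ?_ ?_)
      · show ev H ∈ q
        simpa [H, ev, map_sum, MvPolynomial.eval_C, MvPolynomial.eval_X, mul_comm] using hh
      · rintro _ ⟨l, rfl⟩
        show ev (c l) ∈ q
        refine (congrArg (fun b : B => b ∈ q) ?_).mp (hc l)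
        simp only [c, ev, M, map_sum, map_add, map_mul, MvPolynomial.eval_C, MvPolynomial.eval_X, Derivation.map_algebraMap, Finsupp.finsetSum_apply, zero_add]
        refine Finset.sum_congr rfl fun i _ => ?_
        rw [← Algebra.smul_def, Derivation.map_smul, ← algebraMap_smul B (a i.succ) (D k B (y i)), map_smul, Finsupp.smul_apply, smul_eq_mul, mul_comm]
    have h2 : algebraMap k B (MvPolynomial.eval a g) ∈ q := by
      refine (congrArg (fun b : B => b ∈ q) ?_).mp (h1 hgJ)
      show ev (ι g) = _
      simp only [ev, ι, MvPolynomial.eval_map]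
      rw [MvPolynomial.eval₂_comp]
      rfl
    exact hq.ne_top (q.eq_top_of_isUnit_mem h2 ((isUnit_iff_ne_zero.2 ha).map _))
  exfalso
  push Not at hJ
  obtain ⟨P, hP, hJP, hPdisj⟩ := Ideal.exists_le_prime_disjoint J
    (Submonoid.map (ι : _ →* (MvPolynomial (Fin (n + 1)) B)) (nonZeroDivisors (MvPolynomial (Fin (n + 1)) k))) (by
      rw [Set.disjoint_left]
      rintro _ hxJ ⟨g, hg, rfl⟩
      exact hJ g (nonZeroDivisors.ne_zero hg) hxJ)
  haveI := hP
  let φ : (MvPolynomial (Fin (n + 1)) B) →ₐ[k] P.ResidueField := IsScalarTower.toAlgHom k (MvPolynomial (Fin (n + 1)) B) P.ResidueField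
  let t : Fin (n + 1) → P.ResidueField := fun i => φ (MvPolynomial.X i)
  let ψ : B →ₐ[k] P.ResidueField := φ.comp (IsScalarTower.toAlgHom k B (MvPolynomial (Fin (n + 1)) B))
  have hφ0 : ∀ x ∈ J, φ x = 0 := fun x hx =>
    Ideal.algebraMap_residueField_eq_zero.2 (hJP hx)
  have hind : AlgebraicIndependent k t := by
    rw [algebraicIndependent_iff]
    intro p hp
    by_contra hp0
    have hmem : ι p ∈ P := by
      refine Ideal.algebraMap_residueField_eq_zero.1 ?_
      show φ (ι p) = 0
      refine Eq.trans ?_ hp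
      have : φ.comp (MvPolynomial.aeval (R := k) fun i => (MvPolynomial.X i : (MvPolynomial (Fin (n + 1)) B))) =
          MvPolynomial.aeval t := MvPolynomial.comp_aeval _ φ
      rw [← DFunLike.congr_fun this p, AlgHom.comp_apply]
      congr 1
      exact (DFunLike.congr_fun (show (MvPolynomial.aeval (R := k)
        (fun i => (MvPolynomial.X i : MvPolynomial (Fin (n + 1)) B))).toRingHom = ι from
        MvPolynomial.ringHom_ext (fun c => by simp [ι, IsScalarTower.algebraMap_apply k B (MvPolynomial (Fin (n + 1)) B)])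
          (fun i => by simp [ι])) p).symm
    exact Set.disjoint_left.1 hPdisj hmem ⟨p, mem_nonZeroDivisors_of_ne_zero hp0, rfl⟩
  have ht0 : t 0 + ∑ i, ψ (y i) * t i.succ = 0 := by
    rw [← hφ0 H (Ideal.subset_span (Set.mem_insert _ _))]
    simp [H, t, ψ, map_sum, MvPolynomial.algebraMap_eq]
  have htc : ∀ l, ∑ i, ψ (M l i) * t i.succ = 0 := fun l => by
    rw [← hφ0 (c l) (Ideal.subset_span (Set.mem_insert_of_mem _ ⟨l, rfl⟩))]
    simp [c, t, ψ, map_sum, MvPolynomial.algebraMap_eq]
  -- a right inverse of `M`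
  have hN : ∀ l, ∃ N : Fin n → B, ∀ l', ∑ i, M l' i * N i = if l = l' then 1 else 0 := by
    intro l
    have h : e l ∈ Submodule.span B (Set.range fun i => D k B (y i)) := hspan ▸ trivial
    obtain ⟨N, hN⟩ := (Submodule.mem_span_range_iff_exists_fun B).1 h
    refine ⟨N, fun l' => ?_⟩
    have := congrArg (fun v => e.repr v l') hN
    simp only [map_sum, map_smul, Finsupp.finsetSum_apply, Finsupp.smul_apply,
      smul_eq_mul, e.repr_self, Finsupp.single_apply] at this
    rw [← this]
    exact Finset.sum_congr rfl fun i _ => mul_comm _ _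
  choose N hN using hN
  let W₀ : IntermediateField k P.ResidueField := IntermediateField.adjoin k (Set.range ψ)
  let inc : B →+* W₀ := ψ.toRingHom.codRestrict W₀.toSubfield.toSubring
    (fun b => IntermediateField.subset_adjoin k _ ⟨b, rfl⟩)
  have hinc : ∀ b, ((inc b : W₀) : P.ResidueField) = ψ b := fun _ => rfl
  obtain ⟨d, hd, s, hs⟩ := exists_gens (K := W₀) (fun l i => inc (M l i)) (fun l i => inc (N l i))
    (fun l l' => by
      have h1 := congrArg inc (hN l l')
      simp only [map_sum, map_mul, apply_ite inc, map_one, map_zero] at h1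
      exact h1) (fun i => t i.succ) (fun l => by
      refine Eq.trans (Finset.sum_congr rfl fun i _ => ?_) (htc l)
      rw [IntermediateField.smul_def, smul_eq_mul, hinc])
  let v := Fin.append (fun j => ψ (g₀ (MvPolynomial.X j))) s
  let W := algCl (k := k) (Set.range v)
  have hW₀ : W₀ ≤ W := IntermediateField.adjoin_le_iff.2 (by
    rintro _ ⟨b, rfl⟩
    exact mem_algCl_of_etale g₀ hg₀ ψ (Set.range v)
      (fun j => ⟨Fin.castAdd _ j, Fin.append_left _ _ j⟩) b)
  have hsW : ∀ j, s j ∈ W := fun j =>
    subset_algCl _ ⟨Fin.natAdd m j, Fin.append_right _ _ j⟩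
  have hsucc : ∀ i : Fin n, t i.succ ∈ W := by
    intro i₀
    obtain ⟨coef, hcoef⟩ := hs i₀
    show t i₀.succ ∈ W
    rw [show t i₀.succ = ∑ j, (coef j : P.ResidueField) * s j from hcoef]
    exact W.sum_mem fun j _ => mul_mem (hW₀ (coef j).2) (hsW j)
  have h0 : t 0 ∈ W := by
    rw [eq_neg_of_add_eq_zero_left ht0]
    exact neg_mem (W.sum_mem fun i _ => mul_mem
      (hW₀ (IntermediateField.subset_adjoin k _ ⟨y i, rfl⟩)) (hsucc i))
  have := card_le_of_mem_algCl v t hind (fun i => Fin.cases h0 hsucc i)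
  omega

/-- Cutting a standard smooth algebra by an element with unimodular differential. -/
theorem locally_cut {B C : Type u} [CommRing B] [Algebra k B] [CommRing C] [Algebra k C]
    [Algebra B C] [IsScalarTower k B C] (m : ℕ) [Algebra.IsStandardSmoothOfRelativeDimension m k B]
    (hsurj : Function.Surjective (algebraMap B C)) (h : B)
    (hker : RingHom.ker (algebraMap B C) = Ideal.span {h}) (φ : Ω[B⁄k] →ₗ[B] C)
    (hφ : φ (D k B h) = 1) :
    RingHom.Locally (RingHom.IsStandardSmoothOfRelativeDimension (m - 1)) (algebraMap k C) := by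
  haveI : Algebra.IsStandardSmooth k B :=
    Algebra.IsStandardSmoothOfRelativeDimension.isStandardSmooth m
  let φ' : C ⊗[B] Ω[B⁄k] →ₗ[C] C := φ.liftBaseChange C
  let δ : C ⊗[B] Ω[B⁄k] := 1 ⊗ₜ D k B h
  have hφ' : φ' δ = 1 := by simp [φ', δ, hφ]
  have hh : h ∈ RingHom.ker (algebraMap B C) := hker ▸ Ideal.mem_span_singleton_self h
  let I := RingHom.ker (algebraMap B C)
  have hT : ∀ x : I.Cotangent, ∃ b : B, x = b • I.toCotangent ⟨h, hh⟩ := by
    intro x
    obtain ⟨⟨x, hx⟩, rfl⟩ := I.toCotangent_surjective x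
    obtain ⟨b, rfl⟩ := Ideal.mem_span_singleton'.1 (hker ▸ hx : x ∈ Ideal.span {h})
    exact ⟨b, (LinearMap.map_smul I.toCotangent b ⟨h, hh⟩)⟩
  -- the retraction
  let η : B →ₗ[B] I.Cotangent := LinearMap.toSpanSingleton B _ (I.toCotangent ⟨h, hh⟩)
  have hη : LinearMap.ker (Algebra.linearMap B C) ≤ LinearMap.ker η := by
    intro b hb
    obtain ⟨b', rfl⟩ := Ideal.mem_span_singleton'.1 (hker ▸ hb : b ∈ Ideal.span {h})
    rw [LinearMap.mem_ker, LinearMap.toSpanSingleton_apply, ← map_smul, I.toCotangent_eq_zero, sq]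
    exact Ideal.mul_mem_mul (Ideal.mul_mem_left _ b' hh) hh
  let σ : C →ₗ[B] I.Cotangent := (LinearMap.ker (Algebra.linearMap B C)).liftQ η hη ∘ₗ
    ((Algebra.linearMap B C).quotKerEquivOfSurjective hsurj).symm.toLinearMap
  have hσ : ∀ b, σ (algebraMap B C b) = b • I.toCotangent ⟨h, hh⟩ := by
    intro b
    have : ((Algebra.linearMap B C).quotKerEquivOfSurjective hsurj).symm (algebraMap B C b) =
        Submodule.Quotient.mk b := by
      rw [LinearEquiv.symm_apply_eq]
      rfl
    simp only [σ, LinearMap.comp_apply, LinearEquiv.coe_coe, this]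
    rfl
  haveI : Algebra.FormallySmooth k C := by
    rw [Algebra.FormallySmooth.iff_split_injection (P := B) hsurj]
    refine ⟨σ ∘ₗ φ'.restrictScalars B, LinearMap.ext fun x => ?_⟩
    obtain ⟨b, rfl⟩ := hT x
    rw [LinearMap.comp_apply, map_smul, kerCotangentToTensor_toCotangent]
    show σ (φ' (b • δ)) = _
    rw [show b • δ = algebraMap B C b • δ from (algebraMap_smul C b δ).symm, map_smul, hφ',
      smul_eq_mul, mul_one, hσ]
    rfl
  haveI : Algebra.FinitePresentation k B := inferInstance
  haveI : Algebra.FinitePresentation k C := Algebra.FinitePresentation.of_surjective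
    (f := IsScalarTower.toAlgHom k B C) hsurj (by
      show (RingHom.ker (algebraMap B C)).FG
      rw [hker]
      exact ⟨{h}, by simp⟩)
  haveI : Algebra.Smooth k C := { }
  -- the splitting of the conormal sequence
  let Φ : C ⊗[B] Ω[B⁄k] →ₗ[C] C × Ω[C⁄k] := φ'.prod (mapBaseChange k B C)
  have hδ : mapBaseChange k B C δ = 0 := by
    simp [δ, RingHom.mem_ker.1 hh]
  have hΦ : Function.Bijective Φ := by
    constructor
    · rw [injective_iff_map_eq_zero]
      intro x hx
      obtain ⟨hx1, hx2⟩ := Prod.mk_inj.1 (hx : (φ' x, mapBaseChange k B C x) = (0, 0))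
      obtain ⟨z, rfl⟩ := (exact_kerCotangentToTensor_mapBaseChange k B C hsurj x).1 hx2
      obtain ⟨b, rfl⟩ := hT z
      rw [map_smul, kerCotangentToTensor_toCotangent] at hx1 ⊢
      rw [show b • δ = algebraMap B C b • δ from (algebraMap_smul C b δ).symm, map_smul, hφ',
        smul_eq_mul, mul_one] at hx1
      rw [show b • ((1 : C) ⊗ₜ[B] D k B h) = algebraMap B C b • δ from
        (algebraMap_smul C b δ).symm, hx1, zero_smul]
    · rintro ⟨s, ω⟩
      obtain ⟨x, rfl⟩ := mapBaseChange_surjective k B C hsurj ω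
      refine ⟨x + (s - φ' x) • δ, Prod.ext ?_ ?_⟩
      · simp [Φ, hφ']
      · simp [Φ, hδ]
  have key : ∀ (p : Ideal C) [p.IsPrime], ∃ f : C, f ∉ p ∧
      Algebra.IsStandardSmoothOfRelativeDimension (m - 1) k (Localization.Away f) := by
    intro p _
    haveI : Algebra.IsSmoothAt k p := by
      have := Algebra.smoothLocus_eq_univ (R := k) (A := C)
      exact (this.symm ▸ Set.mem_univ (⟨p, inferInstance⟩ : PrimeSpectrum C) :
        (⟨p, inferInstance⟩ : PrimeSpectrum C) ∈ Algebra.smoothLocus k C)
    obtain ⟨f, hf, hstd⟩ := Algebra.IsSmoothAt.exists_notMem_isStandardSmooth k p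
    refine ⟨f, hf, ?_⟩
    haveI := hstd
    let Cf := Localization.Away f
    haveI : Nontrivial Cf := by
      by_contra hnt
      obtain ⟨j, hj⟩ := (IsLocalization.subsingleton_iff (S := Cf) (M := Submonoid.powers f)).1
        (not_nontrivial_iff_subsingleton.1 hnt)
      exact hf (‹p.IsPrime›.mem_of_pow_mem j ((show f ^ j = 0 from hj) ▸ p.zero_mem))
    haveI : Nontrivial B := (algebraMap B Cf).domain_nontrivial
    rw [Algebra.IsStandardSmoothOfRelativeDimension.iff_of_isStandardSmooth]
    have hB : Module.rank B Ω[B⁄k] = m :=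
      Algebra.IsStandardSmoothOfRelativeDimension.rank_kaehlerDifferential m
    have e1 : Module.rank Cf (Cf ⊗[C] (C ⊗[B] Ω[B⁄k])) = m := by
      rw [(AlgebraTensorModule.cancelBaseChange B C Cf Cf Ω[B⁄k]).rank_eq, Module.rank_baseChange,
        hB, Cardinal.lift_natCast]
    haveI := KaehlerDifferential.isLocalizedModule_map (R := k) (S := C) (T := Cf) (Submonoid.powers f)
    let eΩ : Cf ⊗[C] Ω[C⁄k] ≃ₗ[Cf] Ω[Cf⁄k] :=
      ((isLocalizedModule_iff_isBaseChange (Submonoid.powers f) Cf _).1 this).equiv
    have e2 : Module.rank Cf (Cf ⊗[C] (C ⊗[B] Ω[B⁄k])) = 1 + Module.rank Cf Ω[Cf⁄k] := by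
      rw [(((LinearEquiv.ofBijective Φ hΦ).baseChange C Cf) ≪≫ₗ
        TensorProduct.prodRight C Cf Cf C Ω[C⁄k] ≪≫ₗ
        (AlgebraTensorModule.rid C Cf Cf).prodCongr eΩ).rank_eq, rank_prod', Module.rank_self]
    haveI : Module.Free Cf Ω[Cf⁄k] := inferInstance
    obtain ⟨d, hd⟩ : ∃ d : ℕ, Module.rank Cf Ω[Cf⁄k] = d :=
      ⟨Module.finrank Cf Ω[Cf⁄k], (Module.finrank_eq_rank Cf _).symm⟩
    rw [hd] at e2 ⊢
    rw [e1] at e2
    have : m = 1 + d := by exact_mod_cast e2
    exact_mod_cast (show d = m - 1 by omega)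
  rw [RingHom.locally_iff_span_eq_top]
  by_contra hne
  obtain ⟨p, hp, hle⟩ := Ideal.exists_le_maximal _ hne
  haveI := hp.isPrime
  obtain ⟨f, hf, hstd⟩ := key p
  refine hf (hle (Ideal.subset_span ?_))
  show RingHom.IsStandardSmoothOfRelativeDimension _ _
  rw [← IsScalarTower.algebraMap_eq, RingHom.isStandardSmoothOfRelativeDimension_algebraMap]
  exact hstd

/-- The hyperplane sections in a standard smooth chart. -/
theorem chart {A : Type u} [CommRing A] [Algebra k A] {n : ℕ} (r : ℕ)
    (hdim : ∀ P ∈ minimalPrimes A, ringKrullDim (A ⧸ P) = r) (x : Fin n → A)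
    (hx : Function.Surjective (MvPolynomial.aeval x : MvPolynomial (Fin n) k →ₐ[k] A)) (f : A)
    (hf : Algebra.IsStandardSmooth k (Localization.Away f)) :
    ∃ g : MvPolynomial (Fin (n + 1)) k, g ≠ 0 ∧
      ∀ a : Fin (n + 1) → k, MvPolynomial.eval a g ≠ 0 →
        ∀ q : Ideal A, q.IsPrime → f ∉ q →
          algebraMap k A (a 0) + ∑ i : Fin n, algebraMap k A (a i.succ) * x i ∈ q →
          ∃ w, w ∉ q ∧ ∃ (C : Type u) (_ : CommRing C) (_ : Algebra k C)
            (_ : Algebra (A ⧸ Ideal.span {algebraMap k A (a 0) +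
              ∑ i : Fin n, algebraMap k A (a i.succ) * x i}) C)
            (_ : IsScalarTower k (A ⧸ Ideal.span {algebraMap k A (a 0) +
              ∑ i : Fin n, algebraMap k A (a i.succ) * x i}) C)
            (_ : IsLocalization.Away (Ideal.Quotient.mk (Ideal.span {algebraMap k A (a 0) +
              ∑ i : Fin n, algebraMap k A (a i.succ) * x i}) w) C),
            RingHom.Locally (RingHom.IsStandardSmoothOfRelativeDimension (r - 1))
              (algebraMap k C) := by
  classical
  haveI : Algebra.FiniteType k A := Algebra.FiniteType.of_surjective (MvPolynomial.aeval x) hx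
  let B := Localization.Away f
  cases subsingleton_or_nontrivial B with
  | inl _ =>
    refine ⟨1, one_ne_zero, fun a _ q hq hfq _ => absurd ?_ hfq⟩
    obtain ⟨j, hj⟩ := (IsLocalization.subsingleton_iff (S := B) (M := Submonoid.powers f)).1 ‹_›
    exact hq.mem_of_pow_mem j ((show f ^ j = 0 from hj) ▸ q.zero_mem)
  | inr _ =>
  haveI : Algebra.IsStandardSmooth k B := hf
  obtain ⟨ι, σ, _, _, ⟨P⟩⟩ := Algebra.IsStandardSmooth.out (R := k) (S := B)
  haveI : Algebra.IsStandardSmoothOfRelativeDimension P.dimension k B :=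
    P.isStandardSmoothOfRelativeDimension rfl
  obtain ⟨g₀, hg₀⟩ :=
    Algebra.IsStandardSmoothOfRelativeDimension.exists_etale_mvPolynomial P.dimension k B
  have hmr : P.dimension = r := relDim_eq r hdim f B _ g₀ hg₀
  let e : Module.Basis (Fin P.dimension) B Ω[B⁄k] :=
    (Module.finBasis B Ω[B⁄k]).reindex (finCongr (Module.finrank_eq_of_rank_eq
      (Algebra.IsStandardSmoothOfRelativeDimension.rank_kaehlerDifferential (R := k) (S := B) _)))
  have hspan : Submodule.span B (Set.range fun i => D k B (algebraMap A B (x i))) = ⊤ := by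
    rw [eq_top_iff, ← span_range_map_derivation_of_isLocalization k A B (Submonoid.powers f),
      Submodule.span_le]
    rintro _ ⟨a, rfl⟩
    obtain ⟨p, rfl⟩ := hx a
    simp only [Function.comp_apply, map_D]
    induction p using MvPolynomial.induction_on with
    | C c => simp [← IsScalarTower.algebraMap_apply]
    | add p₁ p₂ h₁ h₂ => simpa using Submodule.add_mem _ h₁ h₂
    | mul_X p i h =>
      rw [map_mul, map_mul, Derivation.leibniz, MvPolynomial.aeval_X]
      exact Submodule.add_mem _ (Submodule.smul_mem _ _ (Submodule.subset_span ⟨i, rfl⟩))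
        (Submodule.smul_mem _ _ h)
  obtain ⟨g, hg0, hg⟩ := exists_g (fun i => algebraMap A B (x i)) e hspan g₀ hg₀
  refine ⟨g, hg0, fun a ha q hq hfq hhq => ?_⟩
  set h := algebraMap k A (a 0) + ∑ i : Fin n, algebraMap k A (a i.succ) * x i with hh
  have hd : Disjoint (Submonoid.powers f : Set A) q := by
    rw [Ideal.disjoint_powers_iff_notMem_of_isPrime]
    exact hfq
  obtain ⟨l, hl⟩ := hg a ha (q.map (algebraMap A B))
    (IsLocalization.isPrime_of_isPrime_disjoint (Submonoid.powers f) B q hq hd) (by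
      have := Ideal.mem_map_of_mem (algebraMap A B) hhq
      simpa [hh, map_sum, ← IsScalarTower.algebraMap_apply] using this)
  set c := e.repr (D k B (algebraMap A B h)) l with hc
  have hl' : c ∉ q.map (algebraMap A B) := by
    simpa [hc, hh, map_sum, ← IsScalarTower.algebraMap_apply] using hl
  let c' := (IsLocalization.Away.sec f c).1
  have hassoc := IsLocalization.Away.associated_sec_fst f c
  have hc' : c' ∉ q := fun hmem => hl' ((Ideal.mem_iff_of_associated hassoc).1
    (Ideal.mem_map_of_mem _ hmem))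
  refine ⟨f * c', Ideal.IsPrime.mul_notMem hq hfq hc', ?_⟩
  let B₂ := Localization.Away c
  haveI : IsLocalization.Away (f * c') B₂ := .mul_of_associated _ _ c hassoc
  let I := Ideal.span {h}
  let C := Localization.Away (Ideal.Quotient.mk I (f * c'))
  refine ⟨C, inferInstance, inferInstance, inferInstance, inferInstance, inferInstance, ?_⟩
  have hpow : Submonoid.map (Ideal.Quotient.mk I) (Submonoid.powers (f * c')) =
      Submonoid.powers (Ideal.Quotient.mk I (f * c')) := Submonoid.map_powers _ _
  haveI : IsLocalization ((Submonoid.powers (f * c')).map (Ideal.Quotient.mk I)) C := by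
    rw [hpow]
    infer_instance
  let π : B₂ →+* C := IsLocalization.map C (Ideal.Quotient.mk I)
    (Submonoid.powers (f * c')).le_comap_map
  letI : Algebra B₂ C := π.toAlgebra
  have hπ : ∀ y : A, algebraMap B₂ C (algebraMap A B₂ y) = algebraMap A C y := fun y => by
    show π _ = _
    rw [IsLocalization.map_eq]
    exact (IsScalarTower.algebraMap_apply A (A ⧸ I) C y).symm
  haveI : IsScalarTower k B₂ C := IsScalarTower.of_algebraMap_eq (R := k) (S := B₂) (A := C) fun y => by
    rw [IsScalarTower.algebraMap_apply k A B₂ y, hπ]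
    exact IsScalarTower.algebraMap_apply k A C y
  haveI : Algebra.IsStandardSmoothOfRelativeDimension 0 B B₂ :=
    Algebra.IsStandardSmoothOfRelativeDimension.localization_away c
  haveI : Algebra.IsStandardSmoothOfRelativeDimension P.dimension k B₂ := by
    have := Algebra.IsStandardSmoothOfRelativeDimension.trans P.dimension 0 k B B₂
    rwa [zero_add] at this
  have hsurj : Function.Surjective (algebraMap B₂ C) :=
    IsLocalization.map_surjective_of_surjective (Submonoid.powers (f * c')) B₂ C
      Ideal.Quotient.mk_surjective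
  have hker : RingHom.ker (algebraMap B₂ C) = Ideal.span {algebraMap A B₂ h} := by
    show RingHom.ker π = _
    refine (IsLocalization.ker_map (M := Submonoid.powers (f * c')) (S := B₂) C
      (Ideal.Quotient.mk I) rfl).trans ?_
    rw [Ideal.mk_ker, Ideal.map_span, Set.image_singleton]
  haveI := Algebra.FormallyEtale.of_isLocalization (Rₘ := B₂) (Submonoid.powers c)
  obtain ⟨φ₀, hφ₀⟩ : ∃ φ₀ : Ω[B₂⁄k] →ₗ[B₂] B₂,
      ∀ ω, φ₀ (map k k B B₂ ω) = algebraMap B B₂ (e.coord l ω) :=
    ⟨(((Algebra.linearMap B B₂) ∘ₗ e.coord l).liftBaseChange B₂) ∘ₗ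
      (tensorKaehlerEquivOfFormallyEtale k B B₂).symm.toLinearMap, fun ω => by
      have : (tensorKaehlerEquivOfFormallyEtale k B B₂).symm (map k k B B₂ ω) = 1 ⊗ₜ ω := by
        rw [LinearEquiv.symm_apply_eq, tensorKaehlerEquivOfFormallyEtale_apply, mapBaseChange_tmul]
        exact (one_smul B₂ (map k k B B₂ ω)).symm
      simp [this]⟩
  have hu : IsUnit (algebraMap B B₂ c) := IsLocalization.Away.algebraMap_isUnit c
  rw [← hmr]
  refine locally_cut P.dimension hsurj (algebraMap A B₂ h) hker
    ((Algebra.linearMap B₂ C) ∘ₗ (((hu.unit⁻¹ : B₂ˣ) : B₂) • φ₀)) ?_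
  rw [IsScalarTower.algebraMap_apply A B B₂ h, ← map_D k k B B₂ (algebraMap A B h),
    LinearMap.comp_apply, LinearMap.smul_apply, hφ₀, Module.Basis.coord_apply, ← hc, smul_eq_mul,
    hu.val_inv_mul, Algebra.linearMap_apply, map_one]

end Groth.Agent.H05EGA4.An.Bertini
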