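import Groth.Prelude.Def_AnCl
import Mathlib

/-!
Points of the classical site and germs of sections.
-/

set_option autoImplicit false
set_option linter.style.haveILetI false
set_option linter.unusedSectionVars false

open CategoryTheory CategoryTheory.Limits TopologicalSpace Topology Opposite An

noncomputable section

namespace Groth.Agent.H05EGA4.AnClPoint

variable {T : Type} [TopologicalSpace T]

theorem isLocalHomeomorph_hom {A B : Cl T} (f : A ⟶ B) : IsLocalHomeomorph f.toFun :=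
  IsLocalHomeomorph.of_comp (g := B.p) (f := f.toFun) (by rw [show B.p ∘ f.toFun = A.p from funext f.over]; exact A.lh) B.lh f.continuous

/-- The fibre functor at a point. -/
def fiber (z : T) : Cl T ⥤ Type 1 where
  obj A := ULift.{1} {a : A.E // A.p a = z}
  map f := TypeCat.ofHom fun a => ⟨⟨f.toFun a.down.1, (f.over _).trans a.down.2⟩⟩

theorem isCofiltered_elements (z : T) : IsCofiltered (fiber z).Elements := by
  haveI : Nonempty (fiber z).Elements := ⟨⟨Cl.self T, ⟨⟨z, rfl⟩⟩⟩⟩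
  refine { cone_objs := ?_, cone_maps := ?_ }
  · rintro ⟨A, ⟨⟨a, ha⟩⟩⟩ ⟨B, ⟨⟨b, hb⟩⟩⟩
    obtain ⟨φ, haφ, hφ⟩ := A.lh a
    obtain ⟨ψ, hbψ, hψ⟩ := B.lh b
    let O : Set T := φ.target ∩ ψ.target
    have hO : IsOpen O := φ.open_target.inter ψ.open_target
    have hzO : z ∈ O := ⟨by rw [← ha, hφ]; exact φ.map_source haφ, by rw [← hb, hψ]; exact ψ.map_source hbψ⟩
    let W : Cl T := Cl.restrictOpen (Cl.self T) O hO
    let p : W ⟶ A := ⟨fun w => φ.symm w.1, φ.continuousOn_symm.comp_continuous continuous_subtype_val fun w => w.2.1,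
      fun w => by show A.p (φ.symm w.1) = w.1; rw [hφ]; exact φ.right_inv w.2.1⟩
    let q : W ⟶ B := ⟨fun w => ψ.symm w.1, ψ.continuousOn_symm.comp_continuous continuous_subtype_val fun w => w.2.2,
      fun w => by show B.p (ψ.symm w.1) = w.1; rw [hψ]; exact ψ.right_inv w.2.2⟩
    refine ⟨⟨W, ⟨⟨⟨z, hzO⟩, rfl⟩⟩⟩, ⟨p, ULift.ext _ _ (Subtype.ext ?_)⟩, ⟨q, ULift.ext _ _ (Subtype.ext ?_)⟩, trivial⟩
    · show φ.symm z = a
      rw [← ha, hφ]; exact φ.left_inv haφ
    · show ψ.symm z = b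
      rw [← hb, hψ]; exact ψ.left_inv hbψ
  · rintro ⟨A, ⟨⟨a, ha⟩⟩⟩ ⟨B, ⟨⟨b, hb⟩⟩⟩ ⟨f, hf⟩ ⟨g, hg⟩
    have hfg : f.toFun a = g.toFun a :=
      (congrArg (fun u => u.down.1) hf).trans (congrArg (fun u => u.down.1) hg).symm
    have hO : IsOpen {x : A.E | f.toFun x = g.toFun x} := B.lh.isLocallyInjective.isOpen_eqLocus f.continuous g.continuous
      (funext fun x => (f.over x).trans (g.over x).symm)
    refine ⟨⟨Cl.restrictOpen A _ hO, ⟨⟨⟨a, hfg⟩, ha⟩⟩⟩, ⟨Cl.restrictOpenι A _ hO, rfl⟩, ?_⟩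
    apply Subtype.ext
    exact Cl.hom_ext (funext fun x => x.2)

/-- The point of the classical site given by a point of the space. -/
def point (z : T) : (Cl.topology T).Point where
  fiber := fiber z
  isCofiltered := isCofiltered_elements z
  initiallySmall := haveI : EssentiallySmall.{1} (fiber z).Elements := essentiallySmall_of_small_of_locallySmall _; initiallySmall_of_essentiallySmall _
  jointly_surjective {A} R hR a := by
    obtain ⟨B, g, hg, -, b, hb⟩ := hR a.down.1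
    exact ⟨B, g, hg, ⟨⟨b, (g.over b).symm.trans ((congrArg A.p hb).trans a.down.2)⟩⟩, ULift.ext _ _ (Subtype.ext hb)⟩

variable (G : (Cl T)ᵒᵖ ⥤ AddCommGrpCat.{1})

/-- The stalk at a point. -/
abbrev stalk (z : T) : AddCommGrpCat.{1} := (point z).presheafFiber.obj G

/-- The germ of a section. -/
def germ {A : Cl T} (a : A.E) (s : G.obj (op A)) : stalk G (A.p a) :=
  (point (A.p a)).toPresheafFiber A ⟨⟨a, rfl⟩⟩ G s

theorem germ_eq_iff {A : Cl T} (a : A.E) (s t : G.obj (op A)) :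
    germ G a s = germ G a t ↔ ∃ (B : Cl T) (f : B ⟶ A) (b : B.E), f.toFun b = a ∧ G.map f.op s = G.map f.op t := by
  refine ((point (A.p a)).toPresheafFiber_eq_iff' A _ s t).trans ⟨?_, ?_⟩
  · rintro ⟨B, f, y, hy, h⟩
    exact ⟨B, f, y.down.1, congrArg (fun u => u.down.1) hy, h⟩
  · rintro ⟨B, f, b, rfl, h⟩
    exact ⟨B, f, ⟨⟨b, (f.over b).symm⟩⟩, rfl, h⟩

theorem isOpen_germ_eq {A : Cl T} (s t : G.obj (op A)) : IsOpen {a : A.E | germ G a s = germ G a t} := by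
  refine isOpen_iff_forall_mem_open.mpr fun a ha => ?_
  obtain ⟨B, f, b, rfl, h⟩ := (germ_eq_iff G a s t).mp ha
  exact ⟨Set.range f.toFun, fun _ ⟨b', hb'⟩ => (germ_eq_iff G _ s t).mpr ⟨B, f, b', hb', h⟩,
    (isLocalHomeomorph_hom f).isOpenMap.isOpen_range, b, rfl⟩

theorem equalizerSieve_mem {A : Cl T} (s t : G.obj (op A)) (h : ∀ a, germ G a s = germ G a t) :
    Presheaf.equalizerSieve (X := op A) s t ∈ Cl.topology T A := by
  intro a
  obtain ⟨B, f, b, rfl, hf⟩ := (germ_eq_iff G a s t).mp (h a)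
  obtain ⟨N, hN, hemb⟩ := isLocalHomeomorph_iff_isOpenEmbedding_restrict.mp (isLocalHomeomorph_hom f) b
  obtain ⟨O, hON, hO, hbO⟩ := mem_nhds_iff.mp hN
  refine ⟨_, Cl.restrictOpenι B O hO ≫ f, ?_, hemb.comp (IsOpenEmbedding.inclusion hON (hO.preimage continuous_subtype_val)),
    ⟨b, hbO⟩, rfl⟩
  show G.map (Cl.restrictOpenι B O hO ≫ f).op s = G.map (Cl.restrictOpenι B O hO ≫ f).op t
  rw [op_comp, Functor.map_comp]
  exact congrArg (G.map (Cl.restrictOpenι B O hO).op) hf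

theorem eq_of_germ (F : Cl.Ab T) {A : Cl T} (s t : F.obj.obj (op A)) (h : ∀ a, germ F.obj a s = germ F.obj a t) :
    s = t :=
  ((isSheaf_iff_isSheaf_of_type _ _).mp
    ((Presheaf.isSheaf_iff_isSheaf_forget _ F.obj (forget _)).mp F.property) _ (equalizerSieve_mem F.obj s t h)).isSeparatedFor.ext
      fun _ _ hf => hf

/-- Two morphisms with the same value can be completed to a commutative square. -/
theorem exists_lift {A A' B : Cl T} (g : A' ⟶ A) (f : B ⟶ A) (x : A'.E) (b : B.E) (h : g.toFun x = f.toFun b) :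
    ∃ (B' : Cl T) (f₁ : B' ⟶ A') (f₂ : B' ⟶ B) (b' : B'.E), f₁.toFun b' = x ∧ f₁ ≫ g = f₂ ≫ f := by
  obtain ⟨⟨P, p⟩, ⟨q₁, hq₁⟩, ⟨q₂, hq₂⟩, -⟩ := IsCofilteredOrEmpty.cone_objs (C := (fiber (A.p (g.toFun x))).Elements)
    (self := (isCofiltered_elements (A.p (g.toFun x))).toIsCofilteredOrEmpty)
    ⟨A', ⟨⟨x, (g.over x).symm⟩⟩⟩ ⟨B, ⟨⟨b, by rw [h]; exact (f.over b).symm⟩⟩⟩
  have e1 : q₁.toFun p.down.1 = x := congrArg (fun u => u.down.1) hq₁
  have e2 : q₂.toFun p.down.1 = b := congrArg (fun u => u.down.1) hq₂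
  have hO : IsOpen {y : P.E | (q₁ ≫ g).toFun y = (q₂ ≫ f).toFun y} :=
    A.lh.isLocallyInjective.isOpen_eqLocus (q₁ ≫ g).continuous (q₂ ≫ f).continuous
      (funext fun y => ((q₁ ≫ g).over y).trans ((q₂ ≫ f).over y).symm)
  refine ⟨Cl.restrictOpen P _ hO, Cl.restrictOpenι P _ hO ≫ q₁, Cl.restrictOpenι P _ hO ≫ q₂,
    ⟨p.down.1, ?_⟩, e1, ?_⟩
  · show g.toFun (q₁.toFun p.down.1) = f.toFun (q₂.toFun p.down.1)
    rw [e1, e2, h]
  · exact Cl.hom_ext (funext fun y => y.2)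

/-- A sieve whose members pass through every point is covering. -/
theorem mem_topology_of_forall {A : Cl T} (S : Sieve A)
    (h : ∀ a, ∃ (B : Cl T) (f : B ⟶ A) (b : B.E), S f ∧ f.toFun b = a) : S ∈ Cl.topology T A := by
  intro a
  obtain ⟨B, f, b, hf, rfl⟩ := h a
  obtain ⟨N, hN, hemb⟩ := isLocalHomeomorph_iff_isOpenEmbedding_restrict.mp (isLocalHomeomorph_hom f) b
  obtain ⟨O, hON, hO, hbO⟩ := mem_nhds_iff.mp hN
  exact ⟨_, Cl.restrictOpenι B O hO ≫ f, S.downward_closed hf _,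
    hemb.comp (IsOpenEmbedding.inclusion hON (hO.preimage continuous_subtype_val)), ⟨b, hbO⟩, rfl⟩

end Groth.Agent.H05EGA4.AnClPoint
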