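import Groth.Agent.H05EGA4.An.Pts
import Groth.Agent.H05EGA4.An.AlgDensity
import Mathlib

/-!
Constructible sets and the classical topology on the space of `ℂ`-points.
-/

set_option autoImplicit false
set_option linter.style.haveILetI false
set_option linter.unusedSectionVars false

open AlgebraicGeometry CategoryTheory TopologicalSpace Topology An

noncomputable section

namespace Groth.Agent.H05EGA4.AnPts

theorem exists_pieces {Z : Type*} [TopologicalSpace Z] {s : Set Z} (hs : IsConstructible s) :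
    ∃ 𝒟 : Set (Set Z), 𝒟.Finite ∧ (∀ D ∈ 𝒟, IsLocallyClosed D) ∧ s = ⋃₀ 𝒟 := by
  induction s, hs using BooleanSubalgebra.closure_sdiff_sup_induction with
  | isSublattice =>
    exact ⟨fun s hs t ht ↦ ⟨hs.1.union ht.1, hs.2.union ht.2⟩,
      fun s hs t ht ↦ ⟨hs.1.inter ht.1, hs.2.inter_isOpen ht.2 ht.1⟩⟩
  | bot_mem => exact ⟨isOpen_empty, .empty⟩
  | top_mem => exact ⟨isOpen_univ, .univ⟩
  | sdiff U hU V hV =>
    refine ⟨{U \ V}, Set.finite_singleton _, ?_, (Set.sUnion_singleton (U \ V)).symm⟩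
    rintro D rfl
    exact hU.1.isLocallyClosed.inter hV.1.isClosed_compl.isLocallyClosed
  | sup s _ t _ hs ht =>
    obtain ⟨𝒟, h1, h2, rfl⟩ := hs
    obtain ⟨ℰ, k1, k2, rfl⟩ := ht
    exact ⟨𝒟 ∪ ℰ, h1.union k1, fun D hD => hD.elim (h2 D) (k2 D), Set.sUnion_union _ _ |>.symm⟩

theorem exists_piece {Z : Type*} [TopologicalSpace Z] {T : Set Z} (hT : IsLocallyConstructible T) (x : Z) :
    (x ∈ closure T → ∃ D ⊆ T, IsLocallyClosed D ∧ x ∈ closure D) ∧
      (x ∈ T → ∃ D ⊆ T, IsLocallyClosed D ∧ x ∈ D) := by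
  obtain ⟨U, hxU, hU, hc⟩ := hT x
  obtain ⟨𝒟, hfin, hLC, heq⟩ := exists_pieces hc
  have hsub : ∀ D ∈ 𝒟, Subtype.val '' D ⊆ T := fun D hD => by
    rintro _ ⟨y, hy, rfl⟩
    exact (show y ∈ Subtype.val ⁻¹' T from heq ▸ Set.mem_sUnion_of_mem hy hD)
  have hLC' : ∀ D ∈ 𝒟, IsLocallyClosed (Subtype.val '' D) := fun D hD =>
    (hLC D hD).image hU.isOpenEmbedding_subtypeVal.isInducing (by
      rw [Subtype.range_coe]; exact hU.isLocallyClosed)
  refine ⟨fun hx => ?_, fun hx => ?_⟩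
  · have h2 : x ∈ closure (⋃ D ∈ 𝒟, Subtype.val '' D) := by
      have h3 : x ∈ closure (U ∩ T) := hU.inter_closure ⟨mem_of_mem_nhds hxU, hx⟩
      refine closure_mono ?_ h3
      rintro y ⟨hyU, hyT⟩
      obtain ⟨D, hD, hyD⟩ := (heq ▸ (show (⟨y, hyU⟩ : U) ∈ Subtype.val ⁻¹' T from hyT) : (⟨y, hyU⟩ : U) ∈ ⋃₀ 𝒟)
      exact Set.mem_biUnion hD ⟨_, hyD, rfl⟩
    rw [hfin.closure_biUnion, Set.mem_iUnion₂] at h2
    obtain ⟨D, hD, hxD⟩ := h2
    exact ⟨_, hsub D hD, hLC' D hD, hxD⟩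
  · obtain ⟨D, hD, hxD⟩ := (heq ▸ (show (⟨x, mem_of_mem_nhds hxU⟩ : U) ∈ Subtype.val ⁻¹' T from hx) :
      (⟨x, mem_of_mem_nhds hxU⟩ : U) ∈ ⋃₀ 𝒟)
    exact ⟨_, hsub D hD, hLC' D hD, _, hxD, rfl⟩

variable {X Y : Scheme.{0}} [X.Over SC] [LocallyOfFiniteType (X ↘ SC)]

theorem mem_closure_specializes [IsAffine X] (η : X) (x : Pts X) (hx : η ⤳ x.pt) (b : Γ(X, ⊤))
    (hb : η ∈ X.basicOpen b) : x ∈ closure {y : Pts X | η ⤳ y.pt ∧ y.evTop b ≠ 0} := by
  obtain ⟨n, s, hs⟩ := exists_generators (X := X)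
  rw [(isClosedEmbedding_evTop s hs).isInducing.closure_eq_preimage_closure_image, Set.mem_preimage]
  letI : Algebra ℂ Γ(X, ⊤) := (strHom X).toAlgebra
  let P : Ideal Γ(X, ⊤) := (IsLocalRing.maximalIdeal (X.presheaf.stalk η)).comap (X.presheaf.germ ⊤ η trivial).hom
  have hP : ∀ f : Γ(X, ⊤), f ∈ P ↔ η ∉ X.basicOpen f := fun f => by
    rw [Ideal.mem_comap, IsLocalRing.mem_maximalIdeal, mem_nonunits_iff, Scheme.mem_basicOpen X f η trivial]
  haveI : P.IsPrime := inferInstance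
  haveI : Algebra.FiniteType ℂ Γ(X, ⊤) := by
    refine Algebra.FiniteType.of_surjective (MvPolynomial.aeval (R := ℂ) s) ?_
    exact hs
  haveI : Algebra.FiniteType ℂ (Γ(X, ⊤) ⧸ P) :=
    Algebra.FiniteType.of_surjective (Ideal.Quotient.mkₐ ℂ P) Ideal.Quotient.mk_surjective
  let s' : Fin n → Γ(X, ⊤) ⧸ P := fun i => Ideal.Quotient.mk P (s i)
  have hs' : Function.Surjective (MvPolynomial.aeval (R := ℂ) s') := fun a => by
    obtain ⟨a, rfl⟩ := Ideal.Quotient.mk_surjective a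
    obtain ⟨Q, rfl⟩ := hs a
    refine ⟨Q, ?_⟩
    show _ = (Ideal.Quotient.mkₐ ℂ P) (MvPolynomial.aeval s Q)
    rw [← AlgHom.comp_apply, MvPolynomial.comp_aeval]
    rfl
  let φ : Γ(X, ⊤) ⧸ P →ₐ[ℂ] ℂ := Ideal.Quotient.liftₐ P
    { evHom x ⊤ (Opens.mem_top _) with commutes' := evTop_strHom x } fun f hf => by
      by_contra h
      exact (hP f).mp hf (hx.mem_open (X.basicOpen f).2 ((mem_basicOpen_iff x (Opens.mem_top _) f).mpr h))
  have hb' : Ideal.Quotient.mk P b ≠ 0 := fun h => (hP b).mp (Ideal.Quotient.eq_zero_iff_mem.mp h) hb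
  refine closure_mono ?_ (AlgDensity.mem_closure s' hs' _ hb' φ)
  rintro _ ⟨ψ, hψ, rfl⟩
  obtain ⟨y, hy⟩ := exists_pts_of_hom (ψ.toRingHom.comp (Ideal.Quotient.mk P)) fun c => ψ.commutes c
  refine ⟨y, ⟨?_, by rw [hy]; exact hψ⟩, funext fun i => hy (s i)⟩
  refine specializes_iff_forall_open.mpr fun W hW hyW => ?_
  obtain ⟨g, hgW, hyg⟩ := (isAffineOpen_top X).exists_basicOpen_le (V := ⟨W, hW⟩) ⟨y.pt, hyW⟩ (Opens.mem_top _)
  by_contra hη
  have h0 : Ideal.Quotient.mk P g = 0 := Ideal.Quotient.eq_zero_iff_mem.mpr ((hP g).mpr fun h => hη (hgW h))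
  refine (mem_basicOpen_iff y (Opens.mem_top _) g).mp hyg ?_
  show y.evTop g = 0
  rw [hy, RingHom.comp_apply, h0]
  exact map_zero ψ

theorem mem_closure_pts {D : Set X} (hD : IsLocallyClosed D) {x : Pts X} (hx : x.pt ∈ closure D) :
    x ∈ closure (Pts.pt ⁻¹' D) := by
  obtain ⟨U, hU, hxU, -⟩ := exists_isAffineOpen_mem_and_subset (x := x.pt) (U := (⊤ : X.Opens)) trivial
  letI : U.toScheme.Over SC := ⟨U.ι ≫ X ↘ SC⟩
  haveI : U.ι.IsOver SC := ⟨rfl⟩
  haveI : IsAffine U.toScheme := hU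
  haveI : LocallyOfFiniteType (U.toScheme ↘ SC) := inferInstanceAs (LocallyOfFiniteType (U.ι ≫ X ↘ SC))
  haveI : IsLocallyNoetherian U.toScheme := LocallyOfFiniteType.isLocallyNoetherian (U.toScheme ↘ SC)
  haveI : IsNoetherian U.toScheme := { }
  obtain ⟨x', rfl⟩ : x ∈ Set.range (Pts.map U.ι) := by
    rw [range_map U.ι U.ι.isOpenEmbedding.injective]
    show x.pt ∈ Set.range U.ι
    rw [Scheme.Opens.range_ι]
    exact hxU
  set E : Set U.toScheme := U.ι ⁻¹' D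
  have hxE : x'.pt ∈ closure E := by
    rw [← U.ι.isOpenEmbedding.isOpenMap.preimage_closure_eq_closure_preimage U.ι.continuous, Set.mem_preimage]
    rwa [Pts.pt_map] at hx
  have hE : IsLocallyClosed E := hD.preimage U.ι.continuous
  obtain ⟨𝒵, hfin, hcl, hirr, hcov⟩ :=
    NoetherianSpace.exists_finite_set_isClosed_irreducible (isClosed_closure (s := E))
  obtain ⟨Z, hZ, hxZ, d, hdZ, hdE⟩ : ∃ Z ∈ 𝒵, x'.pt ∈ Z ∧ (Z ∩ E).Nonempty := by
    by_contra hne
    simp only [not_exists, not_and] at hne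
    have h1 : E ⊆ ⋃₀ {Z ∈ 𝒵 | (Z ∩ E).Nonempty} := fun e he => by
      obtain ⟨Z, hZ, heZ⟩ := (hcov ▸ subset_closure he : e ∈ ⋃₀ 𝒵)
      exact ⟨Z, ⟨hZ, e, heZ, he⟩, heZ⟩
    have h2 : IsClosed (⋃₀ {Z ∈ 𝒵 | (Z ∩ E).Nonempty}) := by
      rw [Set.sUnion_eq_biUnion]
      exact (hfin.subset fun Z (hZ : Z ∈ {Z ∈ 𝒵 | (Z ∩ E).Nonempty}) => hZ.1).isClosed_biUnion fun Z hZ => hcl Z hZ.1
    obtain ⟨Z, hZ, hxZ⟩ := closure_minimal h1 h2 hxE
    exact hne Z hZ.1 hxZ hZ.2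
  obtain ⟨η, hη⟩ := QuasiSober.sober (hirr Z hZ) (hcl Z hZ)
  obtain ⟨O, C, hO, hC, hOC⟩ := hE
  have hηO : η ∈ O := (hη.mem_open_set_iff hO).mpr ⟨d, hdZ, (hOC ▸ hdE : d ∈ O ∩ C).1⟩
  have hclE : closure E ⊆ C := closure_minimal (hOC ▸ Set.inter_subset_right) hC
  have hZE : ∀ y ∈ O, η ⤳ y → y ∈ E := fun y hy hsp => hOC ▸ ⟨hy, hclE (by
    rw [hcov]
    exact Set.mem_sUnion_of_mem (hsp.mem_closed (hcl Z hZ) hη.mem) hZ)⟩
  obtain ⟨b, hbO, hηb⟩ := (isAffineOpen_top U.toScheme).exists_basicOpen_le (V := ⟨O, hO⟩) ⟨η, hηO⟩ (Opens.mem_top _)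
  have h3 := mem_closure_specializes η x' (hη.specializes hxZ) b hηb
  have h4 : Pts.map U.ι x' ∈ closure (Pts.map U.ι '' {y : Pts U.toScheme | η ⤳ y.pt ∧ y.evTop b ≠ 0}) :=
    image_closure_subset_closure_image (Pts.continuous_map U.ι) ⟨x', h3, rfl⟩
  refine closure_mono ?_ h4
  rintro _ ⟨y, ⟨hy1, hy2⟩, rfl⟩
  show (Pts.map U.ι y).pt ∈ D
  rw [Pts.pt_map]
  exact hZE _ (hbO ((mem_basicOpen_iff y (Opens.mem_top _) b).mpr hy2)) hy1

theorem preimage_closure {T : Set X} (hT : IsLocallyConstructible T) :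
    (Pts.pt ⁻¹' closure T : Set (Pts X)) = closure (Pts.pt ⁻¹' T) := by
  refine Set.Subset.antisymm (fun x hx => ?_) (Pts.continuous_pt.closure_preimage_subset _)
  obtain ⟨D, hDT, hD, hxD⟩ := (exists_piece hT x.pt).1 hx
  exact closure_mono (Set.preimage_mono hDT) (mem_closure_pts hD hxD)

theorem exists_pts_of_isLocallyConstructible {T : Set X} (hT : IsLocallyConstructible T) (hne : T.Nonempty) :
    ∃ x : Pts X, x.pt ∈ T := by
  obtain ⟨p, hp⟩ := hne
  obtain ⟨D, hDT, hD, hpD⟩ := (exists_piece hT p).2 hp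
  obtain ⟨x, hx⟩ := exists_pts_mem hD ⟨p, hpD⟩
  exact ⟨x, hDT hx⟩

theorem isClosed_of_pts {D : Set X} (hD : IsLocallyClosed D) (h : IsClosed (Pts.pt ⁻¹' D : Set (Pts X))) :
    IsClosed D := by
  by_contra hne
  have hne' : (closure D \ D).Nonempty := by
    rw [Set.sdiff_nonempty]
    exact fun hs => hne (closure_eq_iff_isClosed.mp (hs.antisymm subset_closure))
  have hLC : IsLocallyClosed (closure D \ D) := by
    obtain ⟨O, C, hO, hC, rfl⟩ := hD
    have : closure (O ∩ C) \ (O ∩ C) = closure (O ∩ C) ∩ Oᶜ := by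
      ext y
      exact ⟨fun ⟨h1, h2⟩ => ⟨h1, fun hyO => h2 ⟨hyO, closure_minimal Set.inter_subset_right hC h1⟩⟩,
        fun ⟨h1, h2⟩ => ⟨h1, fun h3 => h2 h3.1⟩⟩
    rw [this]
    exact (isClosed_closure.inter hO.isClosed_compl).isLocallyClosed
  obtain ⟨x, hx1, hx2⟩ := exists_pts_mem hLC hne'
  exact hx2 (h.closure_eq ▸ mem_closure_pts hD hx1 : x ∈ Pts.pt ⁻¹' D)

theorem dense_iff_pts {T : Set X} (hT : IsLocallyConstructible T) :
    Dense T ↔ Dense (Pts.pt ⁻¹' T : Set (Pts X)) := by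
  rw [dense_iff_closure_eq, dense_iff_closure_eq, ← preimage_closure hT]
  refine ⟨fun h => by rw [h, Set.preimage_univ], fun h => ?_⟩
  by_contra hne
  obtain ⟨x, hx⟩ := exists_pts_mem (isClosed_closure (s := T)).isOpen_compl.isLocallyClosed (Set.nonempty_compl.mpr hne)
  exact hx (h ▸ Set.mem_univ x : x ∈ Pts.pt ⁻¹' closure T)

theorem isClosed_iff_pts {T : Set X} (hT : IsLocallyConstructible T) :
    IsClosed T ↔ IsClosed (Pts.pt ⁻¹' T : Set (Pts X)) := by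
  refine ⟨fun h => h.preimage Pts.continuous_pt, fun h => ?_⟩
  by_contra hne
  obtain ⟨p, hp1, hp2⟩ : (closure T \ T).Nonempty := by
    rw [Set.sdiff_nonempty]
    exact fun hs => hne (closure_eq_iff_isClosed.mp (hs.antisymm subset_closure))
  have hc : IsLocallyConstructible Tᶜ := fun q => (hT q).imp fun U ⟨a, b, c⟩ => ⟨a, b, c.compl⟩
  obtain ⟨D, hDT, hD, hpD⟩ := (exists_piece hc p).2 hp2
  obtain ⟨x, hxD, hxcl⟩ := exists_pts_mem (hD.inter isClosed_closure.isLocallyClosed) ⟨p, hpD, hp1⟩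
  have h2 : x ∈ closure (Pts.pt ⁻¹' T) := preimage_closure hT ▸ hxcl
  rw [h.closure_eq] at h2
  exact hDT hxD h2

variable [Y.Over SC] [LocallyOfFiniteType (Y ↘ SC)]

theorem range_map' (f : X ⟶ Y) [f.IsOver SC] : Set.range (Pts.map f) = Pts.pt ⁻¹' Set.range f := by
  refine Set.Subset.antisymm ?_ fun y hy => ?_
  · rintro _ ⟨x, rfl⟩
    exact ⟨x.pt, (Pts.pt_map f x).symm⟩
  · obtain ⟨p, hp⟩ := hy
    obtain ⟨x, hx⟩ := exists_pts_mem ((isClosed_pt y).preimage f.continuous).isLocallyClosed ⟨p, hp⟩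
    exact ⟨x, pt_injective (by rw [Pts.pt_map]; exact hx)⟩

theorem isLocallyConstructible_range (f : X ⟶ Y) [f.IsOver SC] [QuasiCompact f] :
    IsLocallyConstructible (Set.range f) := by
  haveI : IsLocallyNoetherian Y := LocallyOfFiniteType.isLocallyNoetherian (Y ↘ SC)
  haveI : LocallyOfFiniteType (f ≫ Y ↘ SC) := by rw [comp_over f]; infer_instance
  haveI : LocallyOfFiniteType f := locallyOfFiniteType_of_comp f (Y ↘ SC)
  haveI : LocallyOfFinitePresentation f := inferInstance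
  rw [← Set.image_univ]
  exact f.isLocallyConstructible_image IsConstructible.univ.isLocallyConstructible

theorem surjective_iff (f : X ⟶ Y) [f.IsOver SC] [QuasiCompact f] :
    Function.Surjective f ↔ Function.Surjective (Pts.map f) := by
  simp only [← Set.range_eq_univ, range_map' f]
  refine ⟨fun h => by rw [h, Set.preimage_univ], fun h => ?_⟩
  by_contra hne
  have hc : IsLocallyConstructible (Set.range f)ᶜ :=
    fun q => (isLocallyConstructible_range f q).imp fun U ⟨a, b, c⟩ => ⟨a, b, c.compl⟩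
  obtain ⟨x, hx⟩ := exists_pts_of_isLocallyConstructible hc (Set.nonempty_compl.mpr hne)
  exact hx (h ▸ Set.mem_univ x : x ∈ Pts.pt ⁻¹' Set.range f)

theorem denseRange_iff (f : X ⟶ Y) [f.IsOver SC] [QuasiCompact f] :
    DenseRange f ↔ DenseRange (Pts.map f) := by
  show Dense (Set.range f) ↔ Dense (Set.range (Pts.map f))
  rw [range_map' f]
  exact dense_iff_pts (isLocallyConstructible_range f)

theorem discreteTopology_iff : DiscreteTopology X ↔ DiscreteTopology (Pts X) := by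
  refine ⟨fun _ => .of_continuous_injective Pts.continuous_pt pt_injective, fun _ => ?_⟩
  have hopen : ∀ x : Pts X, IsOpen ({x.pt} : Set X) := fun x => by
    rw [← isClosed_compl_iff]
    refine isClosed_of_pts (isClosed_pt x).isOpen_compl.isLocallyClosed ?_
    exact isClosed_discrete _
  haveI : JacobsonSpace X := LocallyOfFiniteType.jacobsonSpace (X ↘ SC)
  refine discreteTopology_iff_isOpen_singleton.mpr fun q => ?_
  obtain ⟨x, hx⟩ := exists_pts_mem (isClosed_closure (s := ({q} : Set X))).isLocallyClosed ⟨q, subset_closure rfl⟩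
  obtain ⟨r, hr1, hr2⟩ := mem_closure_iff.mp hx _ (hopen x) rfl
  rw [Set.mem_singleton_iff] at hr1 hr2
  rw [← hr2, hr1]
  exact hopen x

end Groth.Agent.H05EGA4.AnPts
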