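import Groth.Agent.H05EGA4.An.RootSet
import Groth.Agent.H05EGA4.An.Constructible
import Mathlib

/-!
The complex points of an integral scheme, and of a connected scheme, are connected.
-/

set_option autoImplicit false
set_option linter.style.haveILetI false
set_option linter.unusedSectionVars false

open AlgebraicGeometry CategoryTheory TopologicalSpace Topology Polynomial An
open scoped nonZeroDivisors

noncomputable section

namespace Groth.Agent.H05EGA4.AnConnected

open Groth.Agent.H05EGA4.AnPts Groth.Agent.H05EGA4.AnRootSet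

theorem exists_element_adjoin (A : Type) [CommRing A] [IsDomain A] {R : Type} [CommRing R] [IsDomain R]
    [IsIntegrallyClosed R] [CharZero R] [Algebra R A] [FaithfulSMul R A] [Module.Finite R A] :
    ∃ (θ : A) (h : R[X]), h.Monic ∧ Irreducible h ∧ aeval θ h = 0 ∧ (∀ p : R[X], aeval θ p = 0 → h ∣ p) ∧
      (∀ a : A, ∃ (r : R) (q : R[X]), r ≠ 0 ∧ r • a = aeval θ q) ∧
      ∃ (D : R) (a b : R[X]), D ≠ 0 ∧ a * h + b * derivative h = C D := by
  letI := FractionRing.liftAlgebra R (FractionRing A)
  set K := FractionRing R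
  set L := FractionRing A
  haveI : Algebra.IsIntegral R A := inferInstance
  haveI : Algebra.IsAlgebraic R A := inferInstance
  haveI : IsLocalization (Algebra.algebraMapSubmonoid A R⁰) L := inferInstance
  haveI : FiniteDimensional K L := .of_isLocalization R A R⁰
  haveI : CharZero K := charZero_of_injective_algebraMap (IsFractionRing.injective R K)
  haveI : Algebra.IsSeparable K L := inferInstance
  obtain ⟨α, hα⟩ := Field.exists_primitive_element K L
  obtain ⟨θ, ⟨_, r, hr, rfl⟩, hθ⟩ := IsLocalization.exists_mk'_eq (Algebra.algebraMapSubmonoid A R⁰) α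
  have hint : IsIntegral R θ := Algebra.IsIntegral.isIntegral θ
  have hintK : IsIntegral K (algebraMap A L θ) := IsIntegral.of_finite K _
  have htop : IntermediateField.adjoin K {algebraMap A L θ} = ⊤ := by
    rw [eq_top_iff, ← hα, IntermediateField.adjoin_simple_le_iff]
    have h1 : α * algebraMap A L (algebraMap R A r) = algebraMap A L θ := hθ ▸ IsLocalization.mk'_spec L θ _
    have hr' : algebraMap R K r ≠ 0 := fun h0 =>
      (mem_nonZeroDivisors_iff_ne_zero.mp hr) (IsFractionRing.injective R K (h0.trans (map_zero _).symm))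
    rw [← IsScalarTower.algebraMap_apply, IsScalarTower.algebraMap_apply R K L] at h1
    have h2 : α = algebraMap A L θ * algebraMap K L (algebraMap R K r)⁻¹ := by
      rw [← h1, mul_assoc, ← map_mul, mul_inv_cancel₀ hr', map_one, mul_one]
    rw [h2]
    exact mul_mem (IntermediateField.mem_adjoin_simple_self K _) (IntermediateField.algebraMap_mem _ _)
  set h := minpoly R θ
  have hK : minpoly K (algebraMap A L θ) = h.map (algebraMap R K) := minpoly.isIntegrallyClosed_eq_field_fractions K L hint
  refine ⟨θ, h, minpoly.monic hint, minpoly.irreducible hint, minpoly.aeval R θ,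
    fun p hp => minpoly.isIntegrallyClosed_dvd hint hp, fun a => ?_, ?_⟩
  · have hmem : algebraMap A L a ∈ Algebra.adjoin K {algebraMap A L θ} := by
      rw [← IntermediateField.adjoin_simple_toSubalgebra_of_isAlgebraic hintK.isAlgebraic, htop,
        IntermediateField.top_toSubalgebra]
      exact Algebra.mem_top
    obtain ⟨p, hp⟩ := Algebra.adjoin_singleton_eq_range_aeval K (algebraMap A L θ) ▸ hmem
    obtain ⟨⟨b, hb⟩, hbp⟩ := IsLocalization.integerNormalization_map_to_map R⁰ p
    refine ⟨b, IsLocalization.integerNormalization R⁰ p, mem_nonZeroDivisors_iff_ne_zero.mp hb,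
      IsFractionRing.injective A L ?_⟩
    have hbp' : (IsLocalization.integerNormalization R⁰ p).map (algebraMap R K) = C (algebraMap R K b) * p := by
      rw [hbp, Algebra.smul_def]; rfl
    rw [← aeval_algebraMap_apply, ← aeval_map_algebraMap K, hbp', map_mul, aeval_C, Algebra.smul_def, map_mul,
      ← IsScalarTower.algebraMap_apply, show aeval (algebraMap A L θ) p = algebraMap A L a from hp,
      ← IsScalarTower.algebraMap_apply]
  · have hsep : (h.map (algebraMap R K)).Separable := hK ▸ Algebra.IsSeparable.isSeparable K _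
    obtain ⟨a, b, hab⟩ := hsep
    obtain ⟨⟨c₁, hc₁⟩, ha⟩ := IsLocalization.integerNormalization_map_to_map R⁰ a
    obtain ⟨⟨c₂, hc₂⟩, hb⟩ := IsLocalization.integerNormalization_map_to_map R⁰ b
    refine ⟨c₁ * c₂, C c₂ * IsLocalization.integerNormalization R⁰ a, C c₁ * IsLocalization.integerNormalization R⁰ b,
      mul_ne_zero (mem_nonZeroDivisors_iff_ne_zero.mp hc₁) (mem_nonZeroDivisors_iff_ne_zero.mp hc₂),
      map_injective _ (IsFractionRing.injective R K) ?_⟩
    have ha' : (IsLocalization.integerNormalization R⁰ a).map (algebraMap R K) = C (algebraMap R K c₁) * a := by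
      rw [ha, Algebra.smul_def]; rfl
    have hb' : (IsLocalization.integerNormalization R⁰ b).map (algebraMap R K) = C (algebraMap R K c₂) * b := by
      rw [hb, Algebra.smul_def]; rfl
    simp only [Polynomial.map_add, Polynomial.map_mul, map_C, ha', hb', ← derivative_map, map_mul, C_mul]
    linear_combination (C (algebraMap R K c₁) * C (algebraMap R K c₂)) * hab

variable (X : Scheme.{0}) [X.Over SC] [LocallyOfFiniteType (X ↘ SC)]

/-- The complex points of an integral affine scheme of finite type over `ℂ` are connected. -/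
theorem preconnectedSpace_of_isAffine [IsAffine X] [IsIntegral X] : PreconnectedSpace (Pts X) := by
  classical
  letI : Algebra ℂ Γ(X, ⊤) := (strHom X).toAlgebra
  haveI : Nonempty (Scheme.Opens.toScheme (⊤ : X.Opens)) := (inferInstance : Nonempty X).map fun x => ⟨x, trivial⟩
  haveI : IsDomain Γ(X, ⊤) := inferInstance
  obtain ⟨m, s, hs⟩ := exists_generators (X := X)
  haveI : Algebra.FiniteType ℂ Γ(X, ⊤) :=
    Algebra.FiniteType.of_surjective (MvPolynomial.aeval s)
      (fun a => by obtain ⟨P, hP⟩ := hs a; exact ⟨P, (MvPolynomial.aeval_def s P).trans hP⟩)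
  obtain ⟨n, g, hginj, hgfin⟩ := exists_finite_inj_algHom_of_fg ℂ Γ(X, ⊤)
  set R := MvPolynomial (Fin n) ℂ
  letI : Algebra R Γ(X, ⊤) := g.toRingHom.toAlgebra
  haveI : IsScalarTower ℂ R Γ(X, ⊤) := IsScalarTower.of_algebraMap_eq fun c => (g.commutes c).symm
  haveI : Module.Finite R Γ(X, ⊤) := hgfin
  haveI : FaithfulSMul R Γ(X, ⊤) := (faithfulSMul_iff_algebraMap_injective _ _).mpr hginj
  obtain ⟨θ, h, hm, hirr, hθ, hdvd, hfrac, D₀, a, b, hD₀, hab⟩ := exists_element_adjoin Γ(X, ⊤) (R := R)
  choose r q hr hq using fun i => hfrac (s i)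
  let D : R := D₀ * ∏ i, r i
  have hD : D ≠ 0 := mul_ne_zero hD₀ (Finset.prod_ne_zero_iff.mpr fun i _ => hr i)
  have hsep : ∀ z t, MvPolynomial.eval z D ≠ 0 → (h.map (MvPolynomial.eval z)).IsRoot t →
      (h.map (MvPolynomial.eval z)).derivative.eval t ≠ 0 := fun z t hz ht hd => hz (by
    have h1 := congrArg (fun p => (p.map (MvPolynomial.eval z)).eval t) hab
    simp only [Polynomial.map_add, Polynomial.map_mul, eval_add, eval_mul, map_C, eval_C, ← derivative_map,
      show (h.map (MvPolynomial.eval z)).eval t = 0 from ht, hd, mul_zero, add_zero] at h1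
    show MvPolynomial.eval z (D₀ * _) = 0
    rw [map_mul, ← h1, zero_mul])
  have hpc := isPreconnected_rootSet h D hm hirr hD hsep
  let coord : Pts X → (Fin n → ℂ) := fun x j => x.evTop (algebraMap R Γ(X, ⊤) (MvPolynomial.X j))
  have hev : ∀ (x : Pts X) (P : R), x.evTop (algebraMap R Γ(X, ⊤) P) = MvPolynomial.eval (coord x) P := fun x P =>
    RingHom.congr_fun (MvPolynomial.ringHom_ext (f := (evHom x ⊤ (Opens.mem_top _)).comp (algebraMap R Γ(X, ⊤)))
      (g := MvPolynomial.eval (coord x)) (fun c => by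
        rw [RingHom.comp_apply, MvPolynomial.eval_C]
        exact (congrArg (evHom x ⊤ _) (g.commutes c)).trans (evTop_strHom x c))
      (fun j => by rw [RingHom.comp_apply, MvPolynomial.eval_X]; rfl)) P
  have hev' : ∀ (x : Pts X) (P : R[X]),
      x.evTop (aeval θ P) = (P.map (MvPolynomial.eval (coord x))).eval (x.evTop θ) := fun x P => by
    rw [Polynomial.eval_map]
    show evHom x ⊤ (Opens.mem_top _) (eval₂ (algebraMap R Γ(X, ⊤)) θ P) = _
    rw [hom_eval₂]
    congr 1
    exact RingHom.ext fun P => hev x P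
  have hval : ∀ (x : Pts X) (i : Fin m), MvPolynomial.eval (coord x) D ≠ 0 →
      x.evTop (s i) = ((q i).map (MvPolynomial.eval (coord x))).eval (x.evTop θ) / MvPolynomial.eval (coord x) (r i) := by
    intro x i hx
    have hri : MvPolynomial.eval (coord x) (r i) ≠ 0 := fun h0 => hx (by
      show MvPolynomial.eval _ (D₀ * _) = 0
      rw [map_mul, map_prod, Finset.prod_eq_zero (Finset.mem_univ i) h0, mul_zero])
    rw [eq_div_iff hri, ← hev', ← hq i, ← hev, Algebra.smul_def, mul_comm]
    exact (map_mul (evHom x ⊤ (Opens.mem_top _)) _ _).symm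
  -- a point over each point of the root set
  have hex : ∀ p : rootSet h D, ∃ x : Pts X, coord x = p.1.1 ∧ x.evTop θ = p.1.2 := by
    rintro ⟨⟨z, t⟩, hz, ht⟩
    let Φ : R[X] →ₐ[ℂ] Γ(X, ⊤) := (aeval θ).restrictScalars ℂ
    let E : R[X] →+* ℂ := eval₂RingHom (MvPolynomial.eval z) t
    have hker : RingHom.ker Φ.rangeRestrict.toRingHom ≤ RingHom.ker E := fun P hP => by
      obtain ⟨P', rfl⟩ := hdvd P (congrArg Subtype.val hP)
      show E (h * P') = 0
      rw [map_mul, show E h = 0 from (Polynomial.eval_map (MvPolynomial.eval z) t).symm.trans ht, zero_mul]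
    let χ₀ : Φ.range →+* ℂ := RingHom.liftOfSurjective Φ.rangeRestrict.toRingHom Φ.rangeRestrict_surjective ⟨E, hker⟩
    have hχ₀ : ∀ P, χ₀ (Φ.rangeRestrict P) = E P := fun P => RingHom.liftOfRightInverse_comp_apply _ _ _ _ P
    let χ : Φ.range →ₐ[ℂ] ℂ := ⟨χ₀, fun c => by
      show χ₀ (algebraMap ℂ Φ.range c) = _
      rw [← Φ.rangeRestrict.commutes c, hχ₀]
      simp [E, IsScalarTower.algebraMap_apply ℂ R R[X]]
      exact MvPolynomial.eval_C _⟩
    have hS : Algebra.IsIntegral Φ.range Γ(X, ⊤) := ⟨fun y => by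
      obtain ⟨P, hP, hPy⟩ := Algebra.IsIntegral.isIntegral (R := R) y
      let ι : R →+* Φ.range := (Φ.rangeRestrict.toRingHom).comp (C : R →+* R[X])
      refine ⟨P.map ι, hP.map _, ?_⟩
      rw [eval₂_map, show (algebraMap Φ.range Γ(X, ⊤)).comp ι = algebraMap R Γ(X, ⊤) from
        RingHom.ext fun c => aeval_C θ c]
      exact hPy⟩
    obtain ⟨ψ, hψ⟩ := AlgDensity.exists_algHom_of_hom Φ.range hS χ
    obtain ⟨x, hx⟩ := exists_pts_of_hom ψ.toRingHom ψ.commutes
    refine ⟨x, funext fun j => ?_, ?_⟩
    · show x.evTop _ = z j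
      rw [hx]
      show ψ _ = z j
      rw [show algebraMap R Γ(X, ⊤) (MvPolynomial.X j) = ((Φ.rangeRestrict (C (MvPolynomial.X j))) : Γ(X, ⊤)) from
        (aeval_C θ _).symm, hψ]
      exact (hχ₀ _).trans ((eval₂_C _ _).trans (MvPolynomial.eval_X j))
    · rw [hx]
      show ψ θ = t
      rw [show θ = ((Φ.rangeRestrict Polynomial.X) : Γ(X, ⊤)) from (aeval_X θ).symm, hψ]
      exact (hχ₀ _).trans (by simp [E])
  choose Ψ hΨ₁ hΨ₂ using hex
  haveI : PreconnectedSpace (rootSet h D) := isPreconnected_iff_preconnectedSpace.mp hpc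
  have hcont : Continuous Ψ := by
    rw [(isClosedEmbedding_evTop s hs).isInducing.continuous_iff, continuous_pi_iff]
    intro i
    have heq : (fun p => (Ψ p).evTop (s i)) = fun p : rootSet h D =>
        ((q i).map (MvPolynomial.eval p.1.1)).eval p.1.2 / MvPolynomial.eval p.1.1 (r i) := by
      funext p
      rw [hval _ i (by rw [hΨ₁]; exact p.2.1), hΨ₁, hΨ₂]
    show Continuous fun p => (Ψ p).evTop (s i)
    rw [heq]
    refine Continuous.div ?_ ((MvPolynomial.continuous_eval _).comp (continuous_fst.comp continuous_subtype_val)) fun p h0 => p.2.1 (by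
      show MvPolynomial.eval _ (D₀ * _) = 0
      rw [map_mul, map_prod, Finset.prod_eq_zero (Finset.mem_univ i) h0, mul_zero])
    simp only [Polynomial.eval_map, eval₂_eq_sum_range]
    exact continuous_finsetSum _ fun j _ =>
      ((MvPolynomial.continuous_eval _).comp (continuous_fst.comp continuous_subtype_val)).mul
        ((continuous_snd.comp continuous_subtype_val).pow j)
  set O := X.basicOpen (algebraMap R Γ(X, ⊤) D)
  have hrange : Pts.pt ⁻¹' (O : Set X) ⊆ Set.range Ψ := fun x hx => by
    have hxD : MvPolynomial.eval (coord x) D ≠ 0 := by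
      rw [← hev]
      exact (mem_basicOpen_iff x (Opens.mem_top _) _).mp hx
    have hroot : (h.map (MvPolynomial.eval (coord x))).IsRoot (x.evTop θ) := by
      rw [IsRoot, ← hev', hθ]
      exact map_zero (evHom x ⊤ (Opens.mem_top _))
    refine ⟨⟨(coord x, x.evTop θ), hxD, hroot⟩, (isClosedEmbedding_evTop s hs).injective (funext fun i => ?_)⟩
    rw [hval _ i (by rw [hΨ₁]; exact hxD), hΨ₁, hΨ₂, hval x i hxD]
  have hne : O ≠ ⊥ := fun h0 => hD (hginj ((basicOpen_eq_bot_iff _).mp h0 |>.trans (map_zero _).symm))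
  have hdense : Dense (O : Set X) := O.2.dense ((Opens.ne_bot_iff_nonempty _).mp hne)
  haveI : IsLocallyNoetherian X := LocallyOfFiniteType.isLocallyNoetherian (X ↘ SC)
  have hlc : IsLocallyConstructible (O : Set X) := fun x => by
    haveI : IsNoetherian X := { }
    exact ((NoetherianSpace.isCompact _).isConstructible O.2).isLocallyConstructible x
  refine ⟨?_⟩
  have hd := ((dense_iff_pts hlc).mp hdense).mono hrange
  rw [← hd.closure_eq]
  exact (isPreconnected_range hcont).closure

/-- The complex points of an irreducible closed subset are preconnected. -/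
theorem isPreconnected_closure_singleton (η : X) : IsPreconnected (Pts.pt ⁻¹' closure {η} : Set (Pts X)) := by
  obtain ⟨U, hU, hηU, -⟩ := exists_isAffineOpen_mem_and_subset (x := η) (U := (⊤ : X.Opens)) trivial
  obtain ⟨p, hp⟩ : η ∈ Set.range hU.fromSpec := by rw [hU.range_fromSpec]; exact hηU
  haveI : p.asIdeal.IsPrime := p.2
  let q : Γ(X, U) ⟶ CommRingCat.of (Γ(X, U) ⧸ p.asIdeal) := CommRingCat.ofHom (Ideal.Quotient.mk p.asIdeal)
  haveI : IsClosedImmersion (Spec.map q) := IsClosedImmersion.spec_of_surjective q Ideal.Quotient.mk_surjective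
  let ι : Spec (CommRingCat.of (Γ(X, U) ⧸ p.asIdeal)) ⟶ X := Spec.map q ≫ hU.fromSpec
  letI : (Spec (CommRingCat.of (Γ(X, U) ⧸ p.asIdeal))).Over SC := ⟨ι ≫ X ↘ SC⟩
  haveI : ι.IsOver SC := ⟨rfl⟩
  haveI : LocallyOfFiniteType ι := inferInstance
  haveI : LocallyOfFiniteType ((Spec (CommRingCat.of (Γ(X, U) ⧸ p.asIdeal))) ↘ SC) := by
    change LocallyOfFiniteType (ι ≫ X ↘ SC); infer_instance
  haveI : AlgebraicGeometry.IsIntegral (Spec (CommRingCat.of (Γ(X, U) ⧸ p.asIdeal))) := inferInstance
  have hrange : Set.range ι = closure {η} ∩ (U : Set X) := by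
    rw [Scheme.Hom.comp_base, TopCat.coe_comp, Set.range_comp]
    rw [show Set.range (Spec.map q) = PrimeSpectrum.zeroLocus (p.asIdeal : Set Γ(X, U)) from
      (range_comap_of_surjective _ _ Ideal.Quotient.mk_surjective).trans (by rw [Ideal.mk_ker])]
    rw [← PrimeSpectrum.closure_singleton, ← hp, ← hU.range_fromSpec]
    ext y
    constructor
    · rintro ⟨r, hr, rfl⟩
      exact ⟨image_closure_subset_closure_image hU.fromSpec.continuous ⟨r, hr, rfl⟩ |> (Set.image_singleton ▸ ·), r, rfl⟩
    · rintro ⟨hy, r, rfl⟩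
      exact ⟨r, specializes_iff_mem_closure.mp ((hU.fromSpec.isOpenEmbedding.isInducing.specializes_iff).mp
        (specializes_iff_mem_closure.mpr hy)), rfl⟩
  haveI := preconnectedSpace_of_isAffine (Spec (CommRingCat.of (Γ(X, U) ⧸ p.asIdeal)))
  have h1 : IsPreconnected (Pts.pt ⁻¹' (closure {η} ∩ (U : Set X)) : Set (Pts X)) := by
    rw [← hrange, ← range_map' ι]
    exact isPreconnected_range (Pts.continuous_map ι)
  refine h1.subset_closure (Set.preimage_mono Set.inter_subset_left) fun x hx => ?_
  refine mem_closure_pts (isClosed_closure.isLocallyClosed.inter U.2.isLocallyClosed) ?_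
  exact closure_mono (s := {η}) (Set.singleton_subset_iff.mpr (⟨subset_closure rfl, hηU⟩ : η ∈ closure {η} ∩ (U : Set X))) hx

/-- The points of `X` whose closure has all its complex points in `C`. -/
def algPart (C : Set (Pts X)) : Set X := {p | Pts.pt ⁻¹' closure {p} ⊆ C}

theorem algPart_specializes {C : Set (Pts X)} (hC : IsClopen C) {p q : X} (h : p ⤳ q) :
    (p ∈ algPart X C ↔ q ∈ algPart X C) := by
  have hsub : (Pts.pt ⁻¹' closure {q} : Set (Pts X)) ⊆ Pts.pt ⁻¹' closure {p} :=
    Set.preimage_mono (closure_minimal (Set.singleton_subset_iff.mpr h.mem_closure) isClosed_closure)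
  refine ⟨fun hp => hsub.trans hp, fun hq => ?_⟩
  obtain ⟨x, hx⟩ := exists_pts_mem (isClosed_closure (s := ({q} : Set X))).isLocallyClosed ⟨q, subset_closure rfl⟩
  exact (isPreconnected_closure_singleton X p).subset_isClopen hC ⟨x, hsub hx, hq hx⟩

theorem algPart_compl {C : Set (Pts X)} (hC : IsClopen C) : (algPart X C)ᶜ = algPart X Cᶜ := by
  ext p
  obtain ⟨x, hx⟩ := exists_pts_mem (isClosed_closure (s := ({p} : Set X))).isLocallyClosed ⟨p, subset_closure rfl⟩
  constructor
  · intro hp y hy hyC
    exact hp ((isPreconnected_closure_singleton X p).subset_isClopen hC ⟨y, hy, hyC⟩)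
  · exact fun hp hp' => hp hx (hp' hx)

theorem isOpen_of_specializes {T : Set X} (hT : ∀ {p q : X}, p ⤳ q → (p ∈ T ↔ q ∈ T)) : IsOpen T := by
  haveI : IsLocallyNoetherian X := LocallyOfFiniteType.isLocallyNoetherian (X ↘ SC)
  rw [isOpen_iff_forall_mem_open]
  intro a ha
  obtain ⟨U, hU, haU, -⟩ := exists_isAffineOpen_mem_and_subset (x := a) (U := (⊤ : X.Opens)) trivial
  haveI : IsNoetherianRing Γ(X, U) := IsLocallyNoetherian.component_noetherian ⟨U, hU⟩
  have hclosed : IsClosed (hU.fromSpec ⁻¹' Tᶜ : Set (PrimeSpectrum Γ(X, U))) := by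
    let M : Set (PrimeSpectrum Γ(X, U)) := {m | m.asIdeal ∈ minimalPrimes Γ(X, U) ∧ hU.fromSpec m ∈ Tᶜ}
    have hM : M.Finite := ((minimalPrimes.finite_of_isNoetherianRing Γ(X, U)).preimage
      (fun _ _ _ _ h => PrimeSpectrum.ext h)).subset fun m hm => hm.1
    have heq : (hU.fromSpec ⁻¹' Tᶜ : Set (PrimeSpectrum Γ(X, U))) = ⋃ m ∈ M, closure {m} := by
      ext r
      simp only [Set.mem_iUnion]
      constructor
      · intro hr
        obtain ⟨P, hP, hPr⟩ := Ideal.exists_minimalPrimes_le (bot_le : (⊥ : Ideal Γ(X, U)) ≤ r.asIdeal)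
        have hsp : (⟨P, hP.1.1⟩ : PrimeSpectrum Γ(X, U)) ⤳ r := (PrimeSpectrum.le_iff_specializes _ _).mp hPr
        exact ⟨⟨P, hP.1.1⟩, ⟨hP, fun h => hr ((hT (hsp.map hU.fromSpec.continuous)).mp h)⟩, hsp.mem_closure⟩
      · rintro ⟨m, hm, hr⟩ h
        exact hm.2 ((hT ((specializes_iff_mem_closure.mpr hr).map hU.fromSpec.continuous)).mpr h)
    rw [heq]
    exact hM.isClosed_biUnion fun m _ => isClosed_closure
  refine ⟨hU.fromSpec '' (hU.fromSpec ⁻¹' Tᶜ)ᶜ, ?_, hU.fromSpec.isOpenEmbedding.isOpenMap _ hclosed.isOpen_compl, ?_⟩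
  · rintro _ ⟨r, hr, rfl⟩
    exact not_not.mp hr
  · obtain ⟨r, rfl⟩ : a ∈ Set.range hU.fromSpec := by rw [hU.range_fromSpec]; exact haU
    exact ⟨r, not_not.mpr ha, rfl⟩

theorem isOpen_algPart {C : Set (Pts X)} (hC : IsClopen C) : IsOpen (algPart X C) :=
  isOpen_of_specializes X fun h => algPart_specializes X hC h

theorem mem_algPart_pt {C : Set (Pts X)} (x : Pts X) : x.pt ∈ algPart X C ↔ x ∈ C := by
  refine ⟨fun h => h (subset_closure rfl), fun h y hy => ?_⟩
  rw [Set.mem_preimage, (isClosed_pt x).closure_eq, Set.mem_singleton_iff] at hy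
  exact pt_injective hy ▸ h

theorem connectedSpace_iff : ConnectedSpace X ↔ ConnectedSpace (Pts X) := by
  constructor
  · intro h
    obtain ⟨x, -⟩ := exists_pts_mem (X := X) isOpen_univ.isLocallyClosed Set.univ_nonempty
    haveI : Nonempty (Pts X) := ⟨x⟩
    haveI : PreconnectedSpace (Pts X) := preconnectedSpace_iff_clopen.mpr fun C hC => by
      have hcl : IsClopen (algPart X C) :=
        ⟨isOpen_compl_iff.mp (algPart_compl X hC ▸ isOpen_algPart X hC.compl), isOpen_algPart X hC⟩
      rcases (isClopen_iff.mp hcl) with h0 | h1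
      · exact Or.inl (Set.eq_empty_of_forall_notMem fun y hy => by simpa [h0] using (mem_algPart_pt X y).mpr hy)
      · exact Or.inr (Set.eq_univ_of_forall fun y => (mem_algPart_pt X y).mp (h1 ▸ Set.mem_univ _))
    exact ⟨inferInstance⟩
  · intro h
    haveI : Nonempty X := (h.toNonempty).map Pts.pt
    haveI : PreconnectedSpace X := preconnectedSpace_iff_clopen.mpr fun T hT => by
      rcases isClopen_iff.mp (hT.preimage (Pts.continuous_pt (X := X))) with h0 | h1
      · refine Or.inl (Set.not_nonempty_iff_eq_empty.mp fun hne => ?_)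
        obtain ⟨x, hx⟩ := exists_pts_mem hT.1.isLocallyClosed hne
        exact (Set.eq_empty_iff_forall_notMem.mp h0 x) hx
      · refine Or.inr (Set.eq_univ_of_forall fun q => ?_)
        by_contra hq
        obtain ⟨x, hx⟩ := exists_pts_mem hT.compl.1.isLocallyClosed ⟨q, hq⟩
        exact hx (h1 ▸ Set.mem_univ x : x ∈ Pts.pt ⁻¹' T)
    exact ⟨inferInstance⟩

theorem connectedComponentsMap_bijective :
    Function.Bijective (Pts.continuous_pt (X := X)).connectedComponentsMap := by
  haveI : IsLocallyNoetherian X := LocallyOfFiniteType.isLocallyNoetherian (X ↘ SC)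
  constructor
  · intro a b hab
    obtain ⟨x, rfl⟩ := ConnectedComponents.surjective_coe a
    obtain ⟨y, rfl⟩ := ConnectedComponents.surjective_coe b
    rw [ConnectedComponents.coe_eq_coe']
    have hmem : x.pt ∈ connectedComponent y.pt := ConnectedComponents.coe_eq_coe'.mp hab
    let K : X.Opens := ⟨connectedComponent y.pt, isOpen_of_specializes X fun {p q} h => by
      have hq : q ∈ connectedComponent p :=
        (isPreconnected_singleton.closure).subset_connectedComponent (subset_closure rfl) h.mem_closure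
      have heq := connectedComponent_eq hq
      exact ⟨fun hp => (connectedComponent_eq hp).symm ▸ hq, fun hq' => (connectedComponent_eq hq').symm ▸ heq ▸ mem_connectedComponent⟩⟩
    letI : K.toScheme.Over SC := ⟨K.ι ≫ X ↘ SC⟩
    haveI : K.ι.IsOver SC := ⟨rfl⟩
    haveI : LocallyOfFiniteType (K.toScheme ↘ SC) := by change LocallyOfFiniteType (K.ι ≫ X ↘ SC); infer_instance
    haveI : ConnectedSpace K.toScheme := Subtype.connectedSpace isConnected_connectedComponent
    haveI := (connectedSpace_iff K.toScheme).mp inferInstance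
    have h1 : IsPreconnected (Pts.pt ⁻¹' (K : Set X) : Set (Pts X)) := by
      rw [← Scheme.Opens.range_ι K, ← range_map' K.ι]
      exact isPreconnected_range (Pts.continuous_map K.ι)
    exact h1.subset_connectedComponent mem_connectedComponent hmem
  · intro c
    obtain ⟨p, rfl⟩ := ConnectedComponents.surjective_coe c
    obtain ⟨x, hx⟩ := exists_pts_mem (isClosed_connectedComponent (x := p)).isLocallyClosed ⟨p, mem_connectedComponent⟩
    exact ⟨ConnectedComponents.mk x, ConnectedComponents.coe_eq_coe'.mpr hx⟩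

end Groth.Agent.H05EGA4.AnConnected
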