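import Groth.Prelude.Def_AnFib
import Mathlib

/-!
Base change of elementary fibrations.
-/

set_option autoImplicit false
set_option linter.style.haveILetI false

universe u

open CategoryTheory CategoryTheory.Limits AlgebraicGeometry TopologicalSpace Topology An

noncomputable section

namespace Groth.Agent.H05EGA4.AnFib

theorem isStronglyProjective_pullback_snd {X S S' : Scheme.{u}} {f : X ⟶ S} (hf : IsStronglyProjective f)
    (u : S' ⟶ S) : IsStronglyProjective (pullback.snd f u) := by
  obtain ⟨n, c, hc, hcf⟩ := hf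
  let t := CohB1.ProjSpace.toSpec n (ULift.{u} ℤ)
  let m : CohB1.ProjSpaceOver n S' ⟶ CohB1.ProjSpaceOver n S :=
    pullback.lift (pullback.fst t _) (pullback.snd t (specULiftZIsTerminal.from S') ≫ u)
      (specULiftZIsTerminal.hom_ext _ _)
  have hm : IsPullback m (CohB1.ProjSpaceOver.toBase n S') (CohB1.ProjSpaceOver.toBase n S) u := by
    refine IsPullback.of_right ?_ (pullback.lift_snd _ _ _) (IsPullback.of_hasPullback t (specULiftZIsTerminal.from S))
    rw [show m ≫ pullback.fst t (specULiftZIsTerminal.from S) = pullback.fst t (specULiftZIsTerminal.from S') from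
      pullback.lift_fst _ _ _, show u ≫ specULiftZIsTerminal.from S = specULiftZIsTerminal.from S' from
      specULiftZIsTerminal.hom_ext _ _]
    exact IsPullback.of_hasPullback _ _
  let c' : pullback f u ⟶ CohB1.ProjSpaceOver n S' :=
    hm.lift (pullback.fst f u ≫ c) (pullback.snd f u) (by rw [Category.assoc, hcf, pullback.condition])
  have hc' : c' ≫ CohB1.ProjSpaceOver.toBase n S' = pullback.snd f u := hm.lift_snd _ _ _
  have hsq : IsPullback (pullback.fst f u) c' c m :=
    IsPullback.of_bot (by rw [hc', hcf]; exact IsPullback.of_hasPullback f u) (hm.lift_fst _ _ _).symm hm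
  exact ⟨n, c', MorphismProperty.of_isPullback (P := @IsClosedImmersion) hsq hc, hc'⟩

theorem range_geometric {X S : Scheme.{u}} (f : X ⟶ S) (s : S) (Ω : Type u) [Field Ω] [Algebra (S.residueField s) Ω] :
    Set.range (pullback.fst f (Spec.map (CommRingCat.ofHom (algebraMap (S.residueField s) Ω)) ≫ S.fromSpecResidueField s)) =
      f ⁻¹' {s} := by
  rw [Scheme.Pullback.range_fst]
  congr 1
  refine Set.Subset.antisymm ?_ ?_
  · rintro _ ⟨p, rfl⟩
    rw [Scheme.Hom.comp_apply, Scheme.fromSpecResidueField_apply]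
    rfl
  · rintro _ rfl
    exact ⟨(default : PrimeSpectrum Ω), by rw [Scheme.Hom.comp_apply, Scheme.fromSpecResidueField_apply]⟩

theorem subset_closure_fibre {X Y S : Scheme.{u}} (fb : X ⟶ S) (i : Y ⟶ X) [IsClosedImmersion i]
    [IsFinite (i ≫ fb)]
    (hgeom : ∀ (Ω : Type u) [Field Ω] [IsAlgClosed Ω] (σ : Spec (CommRingCat.of Ω) ⟶ S),
      IrreducibleSpace ↥(pullback fb σ) ∧ topologicalKrullDim ↥(pullback fb σ) = 1) (s : S) :
    fb.base ⁻¹' {s} ⊆ closure ((Set.range i.base)ᶜ ∩ fb.base ⁻¹' {s}) := by
  let Ω := AlgebraicClosure (S.residueField s)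
  let σ : Spec (CommRingCat.of Ω) ⟶ S :=
    Spec.map (CommRingCat.ofHom (algebraMap (S.residueField s) Ω)) ≫ S.fromSpecResidueField s
  obtain ⟨hirr, hdim⟩ := hgeom Ω σ
  set p := pullback.fst fb σ with hp
  have hF : Set.range p = fb.base ⁻¹' {s} := range_geometric fb s Ω
  have hFirr : IsPreirreducible (fb.base ⁻¹' {s}) := by
    rw [← hF, ← Set.image_univ]
    exact (PreirreducibleSpace.isPreirreducible_univ).image _ p.continuous.continuousOn
  have hcover : fb.base ⁻¹' {s} ⊆ Set.range i.base ∪ closure ((Set.range i.base)ᶜ ∩ fb.base ⁻¹' {s}) := by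
    intro x hx
    by_cases h : x ∈ Set.range i.base
    · exact Or.inl h
    · exact Or.inr (subset_closure ⟨h, hx⟩)
  refine ((isPreirreducible_iff_isClosed_union_isClosed.mp hFirr) _ _ i.isClosedEmbedding.isClosed_range
    isClosed_closure hcover).resolve_left fun hsub => ?_
  let q := pullback.snd i p
  have hq : Function.Surjective q := by
    rw [← Set.range_eq_univ, Scheme.Pullback.range_snd, Set.preimage_eq_univ_iff]
    exact (hF.le).trans hsub
  let e := Equiv.ofBijective q ⟨q.isClosedEmbedding.injective, hq⟩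
  have hhom : IsHomeomorph q := isHomeomorph_iff_isEmbedding_surjective.mpr ⟨q.isClosedEmbedding.isEmbedding, hq⟩
  let r := pullbackRightPullbackFstIso fb σ i
  haveI : IsFinite (pullback.snd (i ≫ fb) σ) :=
    MorphismProperty.pullback_snd (P := @IsFinite) _ _ inferInstance
  haveI hfin : IsFinite (r.hom ≫ pullback.snd (i ≫ fb) σ) := inferInstance
  haveI : DiscreteTopology ↥(pullback i p) := by
    rw [← isDiscrete_univ_iff]
    have h := (r.hom ≫ pullback.snd (i ≫ fb) σ).isDiscrete_preimage_singleton (default : PrimeSpectrum Ω)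
    convert h using 1
    ext x
    simp only [Set.mem_univ, true_iff, Set.mem_preimage, Set.mem_singleton_iff]
    exact Subsingleton.elim (α := PrimeSpectrum Ω) _ _
  have h0 := topologicalKrullDim_zero_of_discreteTopology ↥(pullback i p)
  rw [IsHomeomorph.topologicalKrullDim_eq q hhom, hdim] at h0
  exact absurd h0 (by norm_num)

theorem isElementaryFibration_pullback_snd {X S S' : Scheme.{u}} {f : X ⟶ S} (hf : IsElementaryFibration f)
    (u : S' ⟶ S) : IsElementaryFibration (pullback.snd f u) := by
  obtain ⟨Xb, Y, j, fb, i, rfl, hj, hi, hrange, -, hsm, hproj, hgeom, hfin, het, hsurj⟩ := hf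
  let rj := pullbackRightPullbackFstIso fb u j
  let ri := pullbackRightPullbackFstIso fb u i
  let j' : pullback (j ≫ fb) u ⟶ pullback fb u := rj.inv ≫ pullback.snd j (pullback.fst fb u)
  let i' : pullback i (pullback.fst fb u) ⟶ pullback fb u := pullback.snd i (pullback.fst fb u)
  have hi'eq : i' ≫ pullback.snd fb u = ri.hom ≫ pullback.snd (i ≫ fb) u :=
    (pullbackRightPullbackFstIso_hom_snd fb u i).symm
  have hgeom' : ∀ (Ω : Type u) [Field Ω] [IsAlgClosed Ω] (σ : Spec (CommRingCat.of Ω) ⟶ S'),
      IrreducibleSpace ↥(pullback (pullback.snd fb u) σ) ∧ topologicalKrullDim ↥(pullback (pullback.snd fb u) σ) = 1 := by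
    intro Ω _ _ σ
    obtain ⟨hirr, hdim⟩ := hgeom Ω (σ ≫ u)
    let e := pullbackLeftPullbackSndIso fb u σ
    refine ⟨?_, ?_⟩
    · haveI : Nonempty ↥(pullback (pullback.snd fb u) σ) := hirr.toNonempty.map e.inv
      haveI : PreirreducibleSpace ↥(pullback (pullback.snd fb u) σ) := by
        refine ⟨?_⟩
        rw [← Set.range_eq_univ.mpr e.inv.homeomorph.surjective, ← Set.image_univ]
        exact (PreirreducibleSpace.isPreirreducible_univ).image _ e.inv.continuous.continuousOn
      exact ⟨inferInstance⟩
    · rw [← hdim]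
      exact IsHomeomorph.topologicalKrullDim_eq _ e.hom.homeomorph.isHomeomorph
  have hfin' : IsFinite (i' ≫ pullback.snd fb u) := by
    haveI := MorphismProperty.pullback_snd (P := @IsFinite) (i ≫ fb) u hfin
    rw [hi'eq]; infer_instance
  have hrange' : Set.range j'.base = (Set.range i'.base)ᶜ := by
    rw [show Set.range i'.base = (pullback.fst fb u) ⁻¹' Set.range i.base from Scheme.Pullback.range_snd _ _,
      ← Set.preimage_compl, ← hrange, ← Scheme.Pullback.range_snd]
    exact Function.Surjective.range_comp (rj.inv.homeomorph.surjective) _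
  refine ⟨pullback fb u, pullback i (pullback.fst fb u), j', pullback.snd fb u, i', ?_, inferInstance, inferInstance,
    hrange', fun s => ?_, MorphismProperty.pullback_snd (P := @Smooth) fb u hsm,
    isStronglyProjective_pullback_snd hproj u, hgeom', hfin', ?_, ?_⟩
  · rw [Category.assoc, ← pullbackRightPullbackFstIso_hom_snd fb u j, Iso.inv_hom_id_assoc]
  · haveI := hfin'
    rw [hrange']
    exact subset_closure_fibre _ i' hgeom' s
  · haveI := MorphismProperty.pullback_snd (P := @Etale) (i ≫ fb) u het
    rw [hi'eq]; infer_instance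
  · haveI : Surjective (pullback.snd (i ≫ fb) u) := MorphismProperty.pullback_snd (P := @Surjective) (i ≫ fb) u ⟨hsurj⟩
    rw [hi'eq]
    exact (inferInstance : Surjective (ri.hom ≫ pullback.snd (i ≫ fb) u)).surj

end Groth.Agent.H05EGA4.AnFib
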