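import Groth.Prelude.Def_AnEps
import Groth.Agent.H05EGA4.An.Pullback
import Mathlib

/-!
An etale morphism induces a local homeomorphism on `ℂ`-points.
-/

set_option autoImplicit false
set_option linter.style.haveILetI false
set_option linter.unusedSectionVars false

open AlgebraicGeometry CategoryTheory TopologicalSpace Topology Filter Polynomial An

noncomputable section

namespace Groth.Agent.H05EGA4.AnEtale

open Groth.Agent.H05EGA4.AnPts

/-- A simple root moves continuously with the coefficients. -/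
theorem exists_unique_root_nhds {T : Type*} [TopologicalSpace T] (P : T → ℂ[X]) (m : ℕ)
    (hdeg : ∀ y, (P y).natDegree = m) (hmon : ∀ y, (P y).Monic) (hc : ∀ j, Continuous fun y => (P y).coeff j)
    {y₀ : T} {r₀ : ℂ} (h0 : (P y₀).IsRoot r₀) (h1 : (P y₀).derivative.eval r₀ ≠ 0)
    {G : Set (T × ℂ)} (hG : IsOpen G) (hG0 : (y₀, r₀) ∈ G) :
    ∃ (W : Set T) (B : Set ℂ) (ρ : T → ℂ), IsOpen W ∧ IsOpen B ∧ y₀ ∈ W ∧ r₀ ∈ B ∧ W ×ˢ B ⊆ G ∧
      ContinuousOn ρ W ∧ (∀ y ∈ W, ρ y ∈ B ∧ (P y).IsRoot (ρ y)) ∧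
      ∀ y ∈ W, ∀ r ∈ B, (P y).IsRoot r → r = ρ y := by
  let H : T × ℂ × ℂ → ℂ := fun q => ∑ j ∈ Finset.range (m + 1),
    (P q.1).coeff j * ∑ i ∈ Finset.range j, q.2.1 ^ i * q.2.2 ^ (j - 1 - i)
  have hH : Continuous H := continuous_finsetSum _ fun j _ => ((hc j).comp continuous_fst).mul
    (continuous_finsetSum _ fun i _ => (continuous_snd.fst.pow i).mul (continuous_snd.snd.pow _))
  have heval : ∀ y r, (P y).eval r = ∑ j ∈ Finset.range (m + 1), (P y).coeff j * r ^ j := fun y r => by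
    rw [eval_eq_sum_range, hdeg]
  have hdiff : ∀ y r r', (P y).eval r - (P y).eval r' = (r - r') * H (y, r, r') := fun y r r' => by
    rw [heval, heval, ← Finset.sum_sub_distrib, Finset.mul_sum]
    refine Finset.sum_congr rfl fun j _ => ?_
    rw [← mul_sub, ← geom_sum₂_mul r r' j]
    ring
  have hH0 : H (y₀, r₀, r₀) ≠ 0 := by
    have h2 : H (y₀, r₀, r₀) = (P y₀).derivative.eval r₀ := by
      rw [derivative_eval, sum_over_range' _ (fun n => by simp) (m + 1) (by rw [hdeg]; exact Nat.lt_succ_self m)]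
      refine Finset.sum_congr rfl fun j _ => ?_
      simp only [geom_sum₂_self, mul_assoc]
    rwa [h2]
  obtain ⟨W₀, hW₀, R, hR, hWR⟩ : ∃ W₀ ∈ 𝓝 y₀, ∃ R > 0, ∀ y ∈ W₀, ∀ r ∈ Metric.ball r₀ R, ∀ r' ∈ Metric.ball r₀ R,
      H (y, r, r') ≠ 0 ∧ (y, r) ∈ G := by
    have hO : {q : T × ℂ × ℂ | H q ≠ 0 ∧ (q.1, q.2.1) ∈ G} ∈ 𝓝 (y₀, r₀, r₀) :=
      ((isOpen_ne_fun hH continuous_const).inter (hG.preimage (continuous_fst.prodMk continuous_snd.fst))).mem_nhds ⟨hH0, hG0⟩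
    obtain ⟨a, ha, b, hb, hab⟩ := mem_nhds_prod_iff.mp hO
    obtain ⟨c, hc', d, hd, hcd⟩ := mem_nhds_prod_iff.mp hb
    obtain ⟨R, hR, hball⟩ := Metric.mem_nhds_iff.mp (inter_mem hc' hd)
    exact ⟨a, ha, R, hR, fun y hy r hr r' hr' => hab ⟨hy, hcd ⟨(hball hr).1, (hball hr').2⟩⟩⟩
  have hex : ∀ (y₁ : T) (r₁ : ℂ), (P y₁).IsRoot r₁ → 0 < m → ∀ ε > 0,
      ∀ᶠ y in 𝓝 y₁, ∃ r, (P y).IsRoot r ∧ dist r r₁ < ε := by
    intro y₁ r₁ hr₁ hm ε hε
    have hcont : Continuous fun y => (P y).eval r₁ := by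
      simp only [heval]
      exact continuous_finsetSum _ fun j _ => (hc j).mul continuous_const
    have h2 : ∀ᶠ y in 𝓝 y₁, ‖(P y).eval r₁‖ < ε ^ m := by
      refine (hcont.norm.tendsto y₁).eventually (Iio_mem_nhds ?_)
      rw [show (P y₁).eval r₁ = 0 from hr₁, norm_zero]
      exact pow_pos hε m
    filter_upwards [h2] with y hy
    obtain ⟨r, hr, hlt⟩ := AlgDensity.exists_root_norm_lt ((hmon y).comp_X_add_C r₁)
      (by rw [natDegree_comp, hdeg, natDegree_X_add_C, mul_one]; exact hm) hε (by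
        rw [coeff_zero_eq_eval_zero, eval_comp, natDegree_comp, hdeg, natDegree_X_add_C, mul_one]
        simpa using hy)
    refine ⟨r + r₁, ?_, by rw [dist_eq_norm, add_sub_cancel_right]; exact hlt⟩
    rw [IsRoot, eval_comp, eval_add, eval_X, eval_C] at hr
    exact hr
  have hm : 0 < m := by
    rcases Nat.eq_zero_or_pos m with hm | hm
    · exact absurd ((hmon y₀).natDegree_eq_zero.mp ((hdeg y₀).trans hm) ▸ h0 : (1 : ℂ[X]).IsRoot r₀) (by simp [IsRoot])
    · exact hm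
  obtain ⟨W, hWsub, hW, hy0⟩ := mem_nhds_iff.mp (inter_mem hW₀ (hex y₀ r₀ h0 hm R hR))
  have hW' : ∀ y ∈ W, ∃ r ∈ Metric.ball r₀ R, (P y).IsRoot r := fun y hy => by
    obtain ⟨r, h1, h2⟩ := (hWsub hy).2
    exact ⟨r, h2, h1⟩
  choose! ρ hρB hρroot using hW'
  have huniq : ∀ y ∈ W, ∀ r ∈ Metric.ball r₀ R, (P y).IsRoot r → r = ρ y := fun y hy r hr hroot => by
    have h3 := hdiff y r (ρ y)
    rw [show (P y).eval r = 0 from hroot, show (P y).eval (ρ y) = 0 from hρroot y hy, sub_zero] at h3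
    exact sub_eq_zero.mp ((mul_eq_zero.mp h3.symm).resolve_right (hWR y (hWsub hy).1 r hr _ (hρB y hy)).1)
  refine ⟨W, Metric.ball r₀ R, ρ, hW, Metric.isOpen_ball, hy0, Metric.mem_ball_self hR,
    fun q hq => (hWR q.1 (hWsub hq.1).1 q.2 hq.2 q.2 hq.2).2, fun y₁ hy₁ => ?_, fun y hy => ⟨hρB y hy, hρroot y hy⟩, huniq⟩
  refine ContinuousAt.continuousWithinAt (Metric.tendsto_nhds.mpr fun ε hε => ?_)
  obtain ⟨δ, hδ, hδball⟩ := Metric.isOpen_iff.mp Metric.isOpen_ball (ρ y₁) (hρB y₁ hy₁)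
  filter_upwards [hW.mem_nhds hy₁, hex y₁ (ρ y₁) (hρroot y₁ hy₁) hm (min ε δ) (lt_min hε hδ)] with y hy hr
  obtain ⟨r, hroot, hd⟩ := hr
  rw [← huniq y hy r (hδball (hd.trans_le (min_le_right _ _))) hroot]
  exact hd.trans_le (min_le_left _ _)

theorem isLocalHomeomorph_standard {X Y : Scheme.{0}} [X.Over SC] [Y.Over SC] [IsAffine X] [IsAffine Y]
    [LocallyOfFiniteType (X ↘ SC)] [LocallyOfFiniteType (Y ↘ SC)] (g : X ⟶ Y) [g.IsOver SC]
    (P : @StandardEtalePresentation Γ(Y, ⊤) Γ(X, ⊤) _ _ g.appTop.hom.toAlgebra) :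
    IsLocalHomeomorph (Pts.map g) := by
  letI : Algebra Γ(Y, ⊤) Γ(X, ⊤) := g.appTop.hom.toAlgebra
  let E := fun y : Pts Y => evHom y ⊤ (Opens.mem_top _)
  let F : Pts Y → ℂ[X] := fun y => P.f.map (E y)
  let Gp : Pts Y → ℂ[X] := fun y => P.g.map (E y)
  let u : Pts X → Pts Y × ℂ := fun z => (Pts.map g z, z.evTop P.x)
  have hu : Continuous u := (Pts.continuous_map g).prodMk (continuous_evTop _)
  have heval : ∀ (z : Pts X) (q : Γ(Y, ⊤)[X]), z.evTop (aeval P.x q) = (q.map (E (Pts.map g z))).eval (z.evTop P.x) := by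
    intro z q
    show evHom z ⊤ (Opens.mem_top _) (aeval P.x q) = _
    rw [aeval_def, hom_eval₂, Polynomial.eval_map]
    congr 1
  have hroot : ∀ z, (F (u z).1).IsRoot (u z).2 := fun z => by
    show ((P.f).map _).eval _ = 0
    rw [← heval, P.hasMap.1]
    exact map_zero (evHom z ⊤ (Opens.mem_top _))
  have hne : ∀ z, (Gp (u z).1).eval (u z).2 ≠ 0 := fun z => by
    show ((P.g).map _).eval _ ≠ 0
    rw [← heval]
    exact ((P.hasMap.2).map (evHom z ⊤ (Opens.mem_top _))).ne_zero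
  have hEc : ∀ a : Γ(Y, ⊤), Continuous fun y => E y a := fun a => continuous_evTop a
  have hcmap : ∀ q : Γ(Y, ⊤)[X], Continuous fun w : Pts Y × ℂ => (q.map (E w.1)).eval w.2 := fun q => by
    simp only [Polynomial.eval_map, eval₂_eq_sum_range]
    exact continuous_finsetSum _ fun j _ => ((hEc _).comp continuous_fst).mul (continuous_snd.pow j)
  have hexists : ∀ (y : Pts Y) (r : ℂ), (F y).IsRoot r → (Gp y).eval r ≠ 0 → ∃ z, u z = (y, r) := by
    intro y r hr hg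
    letI : Algebra Γ(Y, ⊤) ℂ := (E y).toAlgebra
    have hmap : P.P.HasMap r := by
      refine ⟨?_, isUnit_iff_ne_zero.mpr ?_⟩
      · rw [aeval_def, ← Polynomial.eval_map]; exact hr
      · rw [aeval_def, ← Polynomial.eval_map]; exact hg
    let φ : Γ(X, ⊤) →ₐ[Γ(Y, ⊤)] ℂ := (P.P.lift r hmap).comp P.equivRing.toAlgHom
    have hstr : ∀ c, g.appTop (strHom Y c) = strHom X c := fun c => by
      show (((Y ↘ SC).appTop ≫ g.appTop) _) = _
      rw [← Scheme.Hom.comp_appTop, comp_over g]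
      rfl
    obtain ⟨z, hz⟩ := exists_pts_of_hom φ.toRingHom fun c => by
      rw [← hstr]
      exact (φ.commutes (strHom Y c)).trans (evTop_strHom y c)
    refine ⟨z, Prod.ext (pts_ext fun a => ?_) ?_⟩
    · refine (Pts.ev_map g z ⊤ (Opens.mem_top _) a).trans ?_
      exact (hz (g.appTop a)).trans (φ.commutes a)
    · refine (hz P.x).trans ?_
      show P.P.lift r hmap (P.equivRing P.x) = r
      rw [P.equivRing_x, P.P.lift_X]
  have hinj : Function.Injective u := fun z w h => by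
    have h1 : Pts.map g z = Pts.map g w := congrArg Prod.fst h
    letI : Algebra Γ(Y, ⊤) ℂ := (E (Pts.map g z)).toAlgebra
    let φ₁ : Γ(X, ⊤) →ₐ[Γ(Y, ⊤)] ℂ :=
      { evHom z ⊤ (Opens.mem_top _) with commutes' := fun a => (Pts.ev_map g z ⊤ (Opens.mem_top _) a).symm }
    let φ₂ : Γ(X, ⊤) →ₐ[Γ(Y, ⊤)] ℂ :=
      { evHom w ⊤ (Opens.mem_top _) with
        commutes' := fun a => ((Pts.ev_map g w ⊤ (Opens.mem_top _) a).symm.trans (by rw [← h1]; rfl)) }
    exact pts_ext fun a => AlgHom.congr_fun (P.hom_ext (f₁ := φ₁) (f₂ := φ₂) (congrArg Prod.snd h)) a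
  have hind : IsInducing u := by
    obtain ⟨n, s, hs⟩ := exists_generators (X := X)
    have hse := (isClosedEmbedding_evTop s hs).isInducing
    have hrep := fun i => P.exists_mul_aeval_x_g_pow_eq_aeval_x (s i)
    choose p k hpk using hrep
    let D : Set (Pts Y × ℂ) := {w | (Gp w.1).eval w.2 ≠ 0}
    let Φ : D → (Fin n → ℂ) := fun w i => ((p i).map (E w.1.1)).eval w.1.2 / (Gp w.1.1).eval w.1.2 ^ k i
    have hΦ : Continuous Φ := continuous_pi fun i =>
      ((hcmap (p i)).comp continuous_subtype_val).div (((hcmap P.g).comp continuous_subtype_val).pow _)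
        fun w => pow_ne_zero _ w.2
    have hΦu : ∀ z i, Φ ⟨u z, hne z⟩ i = z.evTop (s i) := fun z i => by
      have h2 := congrArg (evHom z ⊤ (Opens.mem_top _)) (hpk i)
      rw [map_mul, map_pow] at h2
      show ((p i).map _).eval _ / _ ^ k i = _
      rw [div_eq_iff (pow_ne_zero _ (hne z))]
      show _ = z.evTop (s i) * (((P.g).map _).eval _) ^ k i
      rw [← heval, ← heval]
      exact h2.symm
    have h3 : IsInducing (fun z => (⟨u z, hne z⟩ : D)) := by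
      refine IsInducing.of_comp (Continuous.subtype_mk hu _) hΦ ?_
      convert hse using 1
      funext z i
      exact hΦu z i
    exact IsInducing.subtypeVal.comp h3
  rw [isLocalHomeomorph_iff_isOpenEmbedding_restrict]
  intro z₀
  have hder : (F (u z₀).1).derivative.eval (u z₀).2 ≠ 0 := by
    show ((P.f).map _).derivative.eval _ ≠ 0
    rw [derivative_map, ← heval]
    exact (P.hasMap.isUnit_derivative_f.map (evHom z₀ ⊤ (Opens.mem_top _))).ne_zero
  obtain ⟨W, B, ρ, hW, hB, hW0, hB0, hWB, hρ, hρB, huniq⟩ :=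
    exists_unique_root_nhds F P.f.natDegree (fun y => P.monic_f.natDegree_map _) (fun y => P.monic_f.map _)
      (fun j => by simp only [F, coeff_map]; exact hEc _) (hroot z₀) hder
      (G := {w : Pts Y × ℂ | (Gp w.1).eval w.2 ≠ 0}) (isOpen_ne_fun (hcmap P.g) continuous_const) (hne z₀)
  have hO : IsOpen (u ⁻¹' (W ×ˢ B)) := (hW.prod hB).preimage hu
  refine ⟨u ⁻¹' (W ×ˢ B), hO.mem_nhds ⟨hW0, hB0⟩, ?_⟩
  refine IsOpenEmbedding.of_continuous_injective_isOpenMap ((Pts.continuous_map g).comp continuous_subtype_val) ?_ ?_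
  · rintro ⟨z, hz⟩ ⟨w, hw⟩ h
    refine Subtype.ext (hinj (Prod.ext h ?_))
    have h4 := huniq _ hz.1 _ hz.2 (hroot z)
    have h5 := huniq _ hw.1 _ hw.2 (hroot w)
    rw [h4, h5, show (u z).1 = (u w).1 from h]
  · intro S hS
    obtain ⟨M, hM, hMS⟩ := (hind.comp IsInducing.subtypeVal).isOpen_iff.mp hS
    have hopen : IsOpen (W ∩ (fun y => (y, ρ y)) ⁻¹' M) := (continuousOn_id.prodMk hρ).isOpen_inter_preimage hW hM
    convert hopen using 1
    ext y
    constructor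
    · rintro ⟨⟨z, hz⟩, hzS, rfl⟩
      refine ⟨hz.1, ?_⟩
      show ((u z).1, ρ (u z).1) ∈ M
      rw [← huniq _ hz.1 _ hz.2 (hroot z)]
      rw [← hMS] at hzS
      exact hzS
    · rintro ⟨hy, hyM⟩
      obtain ⟨z, hz⟩ := hexists y (ρ y) (hρB y hy).2
        (show (Gp y).eval (ρ y) ≠ 0 from (hWB (show (y, ρ y) ∈ W ×ˢ B from ⟨hy, (hρB y hy).1⟩) :))
      have hzO : z ∈ u ⁻¹' (W ×ˢ B) := by
        show u z ∈ W ×ˢ B
        rw [hz]
        exact ⟨hy, (hρB y hy).1⟩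
      refine ⟨⟨z, hzO⟩, ?_, congrArg Prod.fst hz⟩
      rw [← hMS]
      show u z ∈ M
      rw [hz]
      exact hyM

theorem etaleLH : An.EtaleLH := by
  intro X Y _ _ _ g _ _
  haveI : LocallyOfFiniteType (X ↘ SC) := by rw [← comp_over g]; infer_instance
  rw [isLocalHomeomorph_iff_isLocalHomeomorphOn_univ]
  intro x _
  obtain ⟨V, hV, hxV, -⟩ := exists_isAffineOpen_mem_and_subset (x := (Pts.map g x).pt) (U := (⊤ : Y.Opens)) trivial
  obtain ⟨U, hU, hxU, hUV⟩ := exists_isAffineOpen_mem_and_subset (x := x.pt) (U := g ⁻¹ᵁ V) (by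
    rw [Pts.pt_map] at hxV; exact hxV)
  haveI : IsAffine V.toScheme := hV
  haveI : IsAffine U.toScheme := hU
  letI : V.toScheme.Over SC := ⟨V.ι ≫ Y ↘ SC⟩
  letI : U.toScheme.Over SC := ⟨U.ι ≫ X ↘ SC⟩
  haveI : V.ι.IsOver SC := ⟨rfl⟩
  haveI : U.ι.IsOver SC := ⟨rfl⟩
  haveI : LocallyOfFiniteType (V.toScheme ↘ SC) := inferInstanceAs (LocallyOfFiniteType (V.ι ≫ Y ↘ SC))
  haveI : LocallyOfFiniteType (U.toScheme ↘ SC) := inferInstanceAs (LocallyOfFiniteType (U.ι ≫ X ↘ SC))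
  let g' : U.toScheme ⟶ V.toScheme := g.resLE V U hUV
  haveI : g'.IsOver SC := ⟨by
    show g.resLE V U hUV ≫ V.ι ≫ Y ↘ SC = U.ι ≫ X ↘ SC
    rw [Scheme.Hom.resLE_comp_ι_assoc, comp_over g]⟩
  have hcomp : g' ≫ V.ι = U.ι ≫ g := Scheme.Hom.resLE_comp_ι _ _
  haveI : Etale g' := IsZariskiLocalAtSource.resLE _ inferInstance
  letI : Algebra Γ(V.toScheme, ⊤) Γ(U.toScheme, ⊤) := g'.appTop.hom.toAlgebra
  haveI : Algebra.Etale Γ(V.toScheme, ⊤) Γ(U.toScheme, ⊤) := HasRingHomProperty.appTop (P := @Etale) g' inferInstance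
  obtain ⟨x', hx'⟩ : x ∈ Set.range (Pts.map U.ι) := by
    rw [range_map U.ι U.ι.isOpenEmbedding.injective]
    show x.pt ∈ Set.range U.ι
    rw [Scheme.Opens.range_ι]
    exact hxU
  haveI : (RingHom.ker (evHom x' ⊤ (Opens.mem_top _))).IsPrime := RingHom.ker_isPrime _
  obtain ⟨f, hfQ, hstd⟩ := Algebra.IsEtaleAt.exists_isStandardEtale (R := Γ(V.toScheme, ⊤))
    (RingHom.ker (evHom x' ⊤ (Opens.mem_top _)))
  let D : U.toScheme.Opens := U.toScheme.basicOpen f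
  haveI : IsAffine D.toScheme := (isAffineOpen_top U.toScheme).basicOpen f
  letI : D.toScheme.Over SC := ⟨D.ι ≫ U.toScheme ↘ SC⟩
  haveI : D.ι.IsOver SC := ⟨rfl⟩
  haveI : LocallyOfFiniteType (D.toScheme ↘ SC) := inferInstanceAs (LocallyOfFiniteType (D.ι ≫ U.toScheme ↘ SC))
  haveI : (D.ι ≫ g').IsOver SC := ⟨by rw [Category.assoc, comp_over g', comp_over D.ι]⟩
  letI : Algebra Γ(V.toScheme, ⊤) Γ(D.toScheme, ⊤) := (D.ι ≫ g').appTop.hom.toAlgebra
  haveI := (isAffineOpen_top U.toScheme).isLocalization_basicOpen f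
  let e₀ : Localization.Away f ≃ₐ[Γ(U.toScheme, ⊤)] Γ(U.toScheme, U.toScheme.basicOpen f) :=
    IsLocalization.algEquiv (Submonoid.powers f) _ _
  let e : Localization.Away f ≃ₐ[Γ(V.toScheme, ⊤)] Γ(D.toScheme, ⊤) :=
    AlgEquiv.ofRingEquiv (f := e₀.toRingEquiv.trans D.topIso.commRingCatIsoToRingEquiv.symm) fun a => by
      show D.topIso.inv (e₀ (algebraMap Γ(V.toScheme, ⊤) (Localization.Away f) a)) = (D.ι ≫ g').appTop a
      rw [IsScalarTower.algebraMap_apply Γ(V.toScheme, ⊤) Γ(U.toScheme, ⊤) (Localization.Away f), e₀.commutes,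
        Scheme.Hom.comp_appTop, CommRingCat.comp_apply, Scheme.Opens.ι_appTop]
      show (U.toScheme.presheaf.map (homOfLE (U.toScheme.basicOpen_le f)).op ≫ D.topIso.inv) (g'.appTop a) = _
      rw [Scheme.Opens.topIso_inv]
      erw [← Functor.map_comp]
      rfl
  haveI : Algebra.IsStandardEtale Γ(V.toScheme, ⊤) Γ(D.toScheme, ⊤) := Algebra.IsStandardEtale.of_equiv e
  have hlh := isLocalHomeomorph_standard (D.ι ≫ g')
    (Algebra.IsStandardEtale.nonempty_standardEtalePresentation (R := Γ(V.toScheme, ⊤)) (S := Γ(D.toScheme, ⊤))).some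
  obtain ⟨x'', hx''⟩ : x' ∈ Set.range (Pts.map D.ι) := by
    rw [range_map D.ι D.ι.isOpenEmbedding.injective]
    show x'.pt ∈ Set.range D.ι
    rw [Scheme.Opens.range_ι]
    exact (mem_basicOpen_iff x' (Opens.mem_top _) f).mpr hfQ
  have hj : IsOpenEmbedding (Pts.map U.ι ∘ Pts.map D.ι) := (isOpenEmbedding_map U.ι).comp (isOpenEmbedding_map D.ι)
  have heq : Pts.map g ∘ (Pts.map U.ι ∘ Pts.map D.ι) = Pts.map V.ι ∘ Pts.map (D.ι ≫ g') := funext fun z => Subtype.ext (by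
    show ((z.1 ≫ D.ι) ≫ U.ι) ≫ g = (z.1 ≫ D.ι ≫ g') ≫ V.ι
    simp only [Category.assoc, hcomp])
  have h1 : IsLocalHomeomorph (Pts.map g ∘ (Pts.map U.ι ∘ Pts.map D.ι)) :=
    heq ▸ (isOpenEmbedding_map V.ι).isLocalHomeomorph.comp hlh
  have h2 := (isLocalHomeomorph_iff_isLocalHomeomorphOn_univ.mp h1).of_comp_right
    (isLocalHomeomorph_iff_isLocalHomeomorphOn_univ.mp hj.isLocalHomeomorph)
  exact h2 x ⟨x'', trivial, by simp only [Function.comp_apply, hx'', hx']⟩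

end Groth.Agent.H05EGA4.AnEtale
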