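import Groth.Prelude.Def_AnEps
import Groth.Agent.H05EGA4.An.Etale
import Groth.Agent.H18Et.EtaleRestrict
import Mathlib

/-!
Continuity of the comparison functor from the etale site to the classical site.
-/

set_option autoImplicit false
set_option linter.style.haveILetI false
set_option linter.unusedSectionVars false

open AlgebraicGeometry CategoryTheory TopologicalSpace Topology Opposite An

noncomputable section

namespace Groth.Agent.H05EGA4.AnEpsCont

set_option backward.isDefEq.respectTransparency false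
set_option backward.isDefEq.respectTransparency.types false

variable (X : Scheme.{0}) [X.Over SC] [LocallyOfFiniteType (X ↘ SC)] [Fact EtaleLH]

theorem lft_left (U : X.Etale) : LocallyOfFiniteType (U.left ↘ SC) := by
  haveI : Etale U.hom := U.prop
  show LocallyOfFiniteType ((U.left ↘ X) ≫ X ↘ SC)
  show LocallyOfFiniteType (U.hom ≫ X ↘ SC)
  infer_instance

theorem etale_left {U V : X.Etale} (g : U ⟶ V) : Etale g.left := by
  haveI : Etale (g.left ≫ V.hom) := by
    rw [show g.left ≫ V.hom = U.hom from Over.w g.hom]; exact U.prop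
  exact MorphismProperty.of_postcomp (W := @Etale) (W' := @Etale) _ V.hom V.prop ‹_›

theorem coverPreserving : CoverPreserving X.smallEtaleTopology (Cl.topology (Pts X)) (eps X) := by
  constructor
  intro U S hS a
  rw [show X.smallEtaleTopology = (X.smallPretopology (P := EtCoh.etaleMP) (Q := EtCoh.etaleMP)).toGrothendieck from
    Scheme.smallGrothendieckTopology_eq_toGrothendieck_smallPretopology X le_rfl] at hS
  obtain ⟨W, g, w, hg, -, hw⟩ := (Scheme.mem_toGrothendieck_smallPretopology U S).1 hS a.pt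
  haveI := lft_left X U
  haveI := lft_left X W
  haveI := etale_left X g
  obtain ⟨b, hb⟩ : a ∈ Set.range (Pts.map (X := W.left) (Y := U.left) g.left) := by
    rw [AnPts.range_map' g.left]
    exact ⟨w, hw⟩
  obtain ⟨N, hN, hemb⟩ := isLocalHomeomorph_iff_isOpenEmbedding_restrict.mp
    ((Fact.out : EtaleLH) W.left U.left g.left) b
  obtain ⟨O, hON, hO, hbO⟩ := mem_nhds_iff.mp hN
  refine ⟨_, Cl.restrictOpenι ((eps X).obj W) O hO ≫ (eps X).map g,
    Sieve.downward_closed _ (Sieve.image_mem_functorPushforward _ _ hg) _, ?_, ⟨⟨b, hbO⟩, hb⟩⟩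
  exact hemb.comp (IsOpenEmbedding.inclusion hON (hO.preimage continuous_subtype_val))

theorem compatiblePreserving : CompatiblePreserving.{1} (Cl.topology (Pts X)) (eps X) := by
  constructor
  intro F Z T x hx Y₁ Y₂ W f₁ f₂ g₁ g₂ hg₁ hg₂ h
  haveI := lft_left X Z
  haveI := lft_left X Y₁
  haveI := lft_left X Y₂
  haveI := etale_left X g₂
  haveI : Etale (Limits.pullback.fst g₁.left g₂.left) := MorphismProperty.pullback_fst _ _ (etale_left X g₂)
  haveI : Etale Y₁.hom := Y₁.prop
  let P : X.Etale := Scheme.Etale.mk (Limits.pullback.fst g₁.left g₂.left ≫ Y₁.hom)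
  let p₁ : P ⟶ Y₁ := MorphismProperty.Over.homMk (Limits.pullback.fst g₁.left g₂.left) rfl trivial
  let p₂ : P ⟶ Y₂ := MorphismProperty.Over.homMk (Limits.pullback.snd g₁.left g₂.left) (by
    show Limits.pullback.snd g₁.left g₂.left ≫ Y₂.hom = Limits.pullback.fst g₁.left g₂.left ≫ Y₁.hom
    rw [← show g₁.left ≫ Z.hom = Y₁.hom from Over.w g₁.hom, ← show g₂.left ≫ Z.hom = Y₂.hom from Over.w g₂.hom,
      ← Category.assoc, ← Category.assoc, Limits.pullback.condition]) trivial
  have hcond : ∀ w, Pts.map (X := Y₁.left) (Y := Z.left) g₁.left (f₁.toFun w) =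
      Pts.map (X := Y₂.left) (Y := Z.left) g₂.left (f₂.toFun w) := fun w => congrFun (congrArg (fun t => t.toFun) h) w
  let Φ := (AnPts.isHomeomorph_pair (X := Y₁.left) (Y := Y₂.left) (S := Z.left) g₁.left g₂.left).homeomorph
  let c : C(@Pts (Limits.pullback g₁.left g₂.left) (An.pullbackOver g₁.left g₂.left), @Pts P.left (An.etaleOverLeft X P)) :=
    Pts.cast _ _ (Category.assoc _ _ _).symm
  have hW : ∀ w, Pts.map (X := P.left) (Y := Y₁.left) p₁.left (c (Φ.symm ⟨(f₁.toFun w, f₂.toFun w), hcond w⟩)) = f₁.toFun w ∧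
      Pts.map (X := P.left) (Y := Y₂.left) p₂.left (c (Φ.symm ⟨(f₁.toFun w, f₂.toFun w), hcond w⟩)) = f₂.toFun w := by
    intro w
    have h1 := Φ.apply_symm_apply ⟨(f₁.toFun w, f₂.toFun w), hcond w⟩
    exact ⟨Subtype.ext (congrArg (fun q => q.1.1.1) h1), Subtype.ext (congrArg (fun q => q.1.2.1) h1)⟩
  let k : W ⟶ (eps X).obj P :=
    ⟨fun w => c (Φ.symm ⟨(f₁.toFun w, f₂.toFun w), hcond w⟩),
      c.continuous.comp (Φ.symm.continuous.comp (Continuous.subtype_mk (f₁.continuous.prodMk f₂.continuous) _)),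
      fun w => (((eps X).map p₁).over _).symm.trans ((congrArg ((eps X).obj Y₁).p (hW w).1).trans (f₁.over w))⟩
  have hk₁ : k ≫ (eps X).map p₁ = f₁ := Cl.hom_ext (funext fun w => (hW w).1)
  have hk₂ : k ≫ (eps X).map p₂ = f₂ := Cl.hom_ext (funext fun w => (hW w).2)
  have hp : p₁ ≫ g₁ = p₂ ≫ g₂ := MorphismProperty.Over.Hom.ext Limits.pullback.condition
  have key : F.obj.map ((eps X).map p₁).op (x g₁ hg₁) = F.obj.map ((eps X).map p₂).op (x g₂ hg₂) :=
    hx p₁ p₂ hg₁ hg₂ hp
  rw [← hk₁, ← hk₂, op_comp, op_comp]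
  simp only [Functor.map_comp_apply]
  exact congrArg (F.obj.map k.op) key

theorem epsCont : EpsCont X :=
  Functor.isContinuous_of_coverPreserving (compatiblePreserving X) (coverPreserving X)

end Groth.Agent.H05EGA4.AnEpsCont
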