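import Groth.Prelude.Def_AnEps
import Groth.Agent.H05EGA4.An.EpsCont
import Groth.Agent.S7295
import Mathlib

/-!
The inverse image along the comparison morphism of sites is exact.
-/

set_option autoImplicit false
set_option linter.style.haveILetI false
set_option linter.unusedSectionVars false

open AlgebraicGeometry CategoryTheory CategoryTheory.Limits TopologicalSpace Topology Opposite An

noncomputable section

namespace Groth.Agent.H05EGA4.AnEpsFlat

set_option backward.isDefEq.respectTransparency false
set_option backward.isDefEq.respectTransparency.types false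

variable (X : Scheme.{0}) [X.Over SC] [LocallyOfFiniteType (X ↘ SC)] [Fact EtaleLH]

variable {X}

theorem preservesLimit_cospan {Y₁ Y₂ Z : X.Etale} (g₁ : Y₁ ⟶ Z) (g₂ : Y₂ ⟶ Z) :
    PreservesLimit (cospan g₁ g₂) (eps X) := by
  haveI := AnEpsCont.lft_left X Z
  haveI := AnEpsCont.lft_left X Y₁
  haveI := AnEpsCont.lft_left X Y₂
  haveI : Etale (Limits.pullback.fst g₁.left g₂.left) := MorphismProperty.pullback_fst _ _ (AnEpsCont.etale_left X g₂)
  haveI : Etale Y₁.hom := Y₁.prop
  let P : X.Etale := Scheme.Etale.mk (Limits.pullback.fst g₁.left g₂.left ≫ Y₁.hom)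
  let p₁ : P ⟶ Y₁ := MorphismProperty.Over.homMk (Limits.pullback.fst g₁.left g₂.left) rfl trivial
  let p₂ : P ⟶ Y₂ := MorphismProperty.Over.homMk (Limits.pullback.snd g₁.left g₂.left) (by
    show Limits.pullback.snd g₁.left g₂.left ≫ Y₂.hom = Limits.pullback.fst g₁.left g₂.left ≫ Y₁.hom
    rw [← show g₁.left ≫ Z.hom = Y₁.hom from Over.w g₁.hom, ← show g₂.left ≫ Z.hom = Y₂.hom from Over.w g₂.hom,
      ← Category.assoc, ← Category.assoc, Limits.pullback.condition]) trivial
  have hp : p₁ ≫ g₁ = p₂ ≫ g₂ := MorphismProperty.Over.Hom.ext Limits.pullback.condition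
  have hlim : IsLimit (PullbackCone.mk p₁ p₂ hp) :=
    PullbackCone.IsLimit.mk hp
      (fun s => MorphismProperty.Over.homMk
        (Limits.pullback.lift s.fst.left s.snd.left (congrArg (fun t => t.left) s.condition)) (by
          show Limits.pullback.lift _ _ _ ≫ Limits.pullback.fst g₁.left g₂.left ≫ Y₁.hom = s.pt.hom
          rw [Limits.pullback.lift_fst_assoc]
          exact Over.w s.fst.hom) trivial)
      (fun s => MorphismProperty.Over.Hom.ext (Limits.pullback.lift_fst _ _ _))
      (fun s => MorphismProperty.Over.Hom.ext (Limits.pullback.lift_snd _ _ _))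
      (fun s m h1 h2 => MorphismProperty.Over.Hom.ext (Limits.pullback.hom_ext
        ((congrArg (fun t => t.left) h1).trans (Limits.pullback.lift_fst _ _ _).symm)
        ((congrArg (fun t => t.left) h2).trans (Limits.pullback.lift_snd _ _ _).symm)))
  refine preservesLimit_of_preserves_limit_cone hlim ((isLimitMapConePullbackConeEquiv (eps X) hp).symm ?_)
  let Φ := (AnPts.isHomeomorph_pair (X := Y₁.left) (Y := Y₂.left) (S := Z.left) g₁.left g₂.left).homeomorph
  let c : C(@Pts (Limits.pullback g₁.left g₂.left) (An.pullbackOver g₁.left g₂.left), @Pts P.left (An.etaleOverLeft X P)) :=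
    Pts.cast _ _ (Category.assoc _ _ _).symm
  refine PullbackCone.IsLimit.mk _ (fun s => ?_) (fun s => ?_) (fun s => ?_) (fun s m h1 h2 => ?_)
  · have hs : ∀ w, Pts.map (X := Y₁.left) (Y := Z.left) g₁.left (s.fst.toFun w) =
        Pts.map (X := Y₂.left) (Y := Z.left) g₂.left (s.snd.toFun w) :=
      fun w => congrFun (congrArg (fun t => t.toFun) s.condition) w
    exact ⟨fun w => c (Φ.symm ⟨(s.fst.toFun w, s.snd.toFun w), hs w⟩),
      c.continuous.comp (Φ.symm.continuous.comp (Continuous.subtype_mk (s.fst.continuous.prodMk s.snd.continuous) _)),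
      fun w => (((eps X).map p₁).over _).symm.trans ((congrArg ((eps X).obj Y₁).p
        (Subtype.ext (congrArg (fun q => q.1.1.1) (Φ.apply_symm_apply ⟨(s.fst.toFun w, s.snd.toFun w), hs w⟩)))).trans
          (s.fst.over w))⟩
  · exact Cl.hom_ext (funext fun w => Subtype.ext (congrArg (fun q => q.1.1.1) (Φ.apply_symm_apply _)))
  · exact Cl.hom_ext (funext fun w => Subtype.ext (congrArg (fun q => q.1.2.1) (Φ.apply_symm_apply _)))
  · refine Cl.hom_ext (funext fun w => Subtype.ext (Limits.pullback.hom_ext ?_ ?_))
    · refine (congrArg (fun t => (t.toFun w).1) h1).trans ?_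
      exact (congrArg (fun q => q.1.1.1) (Φ.apply_symm_apply ⟨(s.fst.toFun w, s.snd.toFun w),
        congrFun (congrArg (fun t => t.toFun) s.condition) w⟩)).symm
    · refine (congrArg (fun t => (t.toFun w).1) h2).trans ?_
      exact (congrArg (fun q => q.1.2.1) (Φ.apply_symm_apply ⟨(s.fst.toFun w, s.snd.toFun w),
        congrFun (congrArg (fun t => t.toFun) s.condition) w⟩)).symm

variable (X)

/-- The object `X` is terminal. -/
def topIsTerminal : IsTerminal (EtCoh.top X) :=
  IsTerminal.ofUniqueHom (fun U => MorphismProperty.Over.homMk U.hom (Category.comp_id _) trivial)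
    (fun U m => MorphismProperty.Over.Hom.ext ((Category.comp_id _).symm.trans (Over.w m.hom)))

theorem hasFiniteLimits_etale : HasFiniteLimits X.Etale := by
  haveI : HasTerminal X.Etale := (topIsTerminal X).hasTerminal
  haveI : HasPullbacks X.Etale := inferInstance
  exact hasFiniteLimits_of_hasTerminal_and_pullbacks

theorem preservesFiniteLimits_eps : PreservesFiniteLimits (eps X) := by
  haveI : HasTerminal X.Etale := (topIsTerminal X).hasTerminal
  haveI : HasPullbacks X.Etale := inferInstance
  haveI : PreservesLimit (Functor.empty X.Etale) (eps X) :=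
    preservesLimit_of_preserves_limit_cone (topIsTerminal X)
      ((IsLimit.postcomposeHomEquiv (Functor.emptyExt (Functor.empty X.Etale ⋙ eps X) _) _).1
        (IsLimit.ofIsoLimit ((Cl.selfIsTerminal (Pts X)).ofIso (epsTopIso X).symm) (Cone.ext (Iso.refl _) (fun j => j.as.elim))))
  haveI : PreservesLimitsOfShape (Discrete PEmpty.{1}) (eps X) :=
    preservesLimitsOfShape_pempty_of_preservesTerminal (eps X)
  haveI : PreservesLimitsOfShape WalkingCospan (eps X) :=
    ⟨fun {K} => by
      haveI := preservesLimit_cospan (K.map WalkingCospan.Hom.inl) (K.map WalkingCospan.Hom.inr)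
      exact preservesLimit_of_iso_diagram (eps X) (diagramIsoCospan K).symm⟩
  exact preservesFiniteLimits_of_preservesTerminal_and_pullbacks (eps X)

theorem preservesFiniteLimits_epsPull [EpsCont X] : PreservesFiniteLimits (epsPull X) := by
  haveI := hasFiniteLimits_etale X
  haveI := preservesFiniteLimits_eps X
  haveI : RepresentablyFlat (eps X) := flat_of_preservesFiniteLimits _
  haveI := Groth.Agent.S7295.ab5'.{0}
  haveI : ((eps X).op.lan : (X.Etaleᵒᵖ ⥤ AddCommGrpCat.{1}) ⥤ _).PreservesMonomorphisms := by
    refine Groth.Agent.S7295.preservesMonomorphisms_lan_of_colim _ fun Z P Q φ hφ => ?_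
    haveI : IsFiltered (CostructuredArrow (eps X).op Z) :=
      IsFiltered.of_equivalence (structuredArrowOpEquivalence (eps X) Z.unop)
    haveI : Mono (Functor.whiskerLeft (CostructuredArrow.proj (eps X).op Z) φ) :=
      @NatTrans.mono_of_mono_app _ _ _ _ _ _ _ fun x => inferInstanceAs (Mono (φ.app _))
    haveI : PreservesFiniteLimits (colim (J := CostructuredArrow (eps X).op Z) (C := AddCommGrpCat.{1})) := inferInstance
    exact (colim (J := CostructuredArrow (eps X).op Z) (C := AddCommGrpCat.{1})).map_mono _
  haveI : (sheafToPresheaf X.smallEtaleTopology AddCommGrpCat.{1}).PreservesMonomorphisms :=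
    Functor.preservesMonomorphisms_of_adjunction (sheafificationAdjunction _ _)
  haveI : (presheafToSheaf (Cl.topology (Pts X)) AddCommGrpCat.{1}).PreservesMonomorphisms :=
    preservesMonomorphisms_of_preservesLimitsOfShape _
  haveI : (epsPull X).PreservesMonomorphisms := by
    haveI : (Functor.sheafPullbackConstruction.sheafPullback (eps X) AddCommGrpCat.{1} X.smallEtaleTopology
        (Cl.topology (Pts X))).PreservesMonomorphisms := by
      unfold Functor.sheafPullbackConstruction.sheafPullback; infer_instance
    exact Functor.PreservesMonomorphisms.of_iso (Functor.sheafPullbackConstruction.sheafPullbackIso (eps X)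
      AddCommGrpCat.{1} X.smallEtaleTopology (Cl.topology (Pts X))).symm
  haveI : (epsPull X).PreservesHomology := Functor.preservesHomology_of_preservesMonos_and_cokernels _
  exact Functor.preservesFiniteLimits_of_preservesHomology _

end Groth.Agent.H05EGA4.AnEpsFlat
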