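import Groth.Agent.H05EGA4.An.Growth
import Groth.Agent.H05EGA4.An.Etale
import Mathlib

/-!
The root set of an irreducible monic polynomial over `ℂ[z₁, …, zₙ]` is connected away from its discriminant.
-/

set_option autoImplicit false
set_option linter.style.haveILetI false

open Filter Topology Polynomial Asymptotics

noncomputable section

namespace Groth.Agent.H05EGA4.AnRootSet

open Groth.Agent.H05EGA4.AnGrowth

variable {n : ℕ}

/-- A continuously chosen simple root is differentiable. -/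
theorem differentiableAt_root (h : Polynomial (MvPolynomial (Fin n) ℂ)) {ρ : (Fin n → ℂ) → ℂ} {z₀ : Fin n → ℂ}
    (hρ : ContinuousAt ρ z₀) (hroot : ∀ᶠ z in 𝓝 z₀, (h.map (MvPolynomial.eval z)).IsRoot (ρ z))
    (hsimple : (h.map (MvPolynomial.eval z₀)).derivative.eval (ρ z₀) ≠ 0) : DifferentiableAt ℂ ρ z₀ := by
  set r₀ := ρ z₀ with hr₀
  let G : MvPolynomial (Fin n) ℂ := h.eval (MvPolynomial.C r₀)
  let q : Polynomial (MvPolynomial (Fin n) ℂ) := h /ₘ (X - C (MvPolynomial.C r₀))
  have hsplit : (C G) + (X - C (MvPolynomial.C r₀)) * q = h := by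
    rw [show C G = h %ₘ (X - C (MvPolynomial.C r₀)) from (modByMonic_X_sub_C_eq_C_eval h _).symm]
    exact modByMonic_add_div h _
  have hmap : ∀ z, h.map (MvPolynomial.eval z) =
      C (MvPolynomial.eval z G) + (X - C r₀) * q.map (MvPolynomial.eval z) := fun z => by
    conv_lhs => rw [← hsplit]
    simp [Polynomial.map_sub]
  let c : (Fin n → ℂ) → ℂ := fun z => (q.map (MvPolynomial.eval z)).eval (ρ z)
  have hc : ContinuousAt c z₀ := by
    have h1 : c = fun z => ∑ j ∈ Finset.range (q.natDegree + 1), MvPolynomial.eval z (q.coeff j) * ρ z ^ j := by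
      funext z
      show (q.map (MvPolynomial.eval z)).eval (ρ z) = _
      rw [eval_eq_sum_range' (lt_of_le_of_lt (natDegree_map_le) (Nat.lt_succ_self _))]
      simp only [coeff_map]
    rw [h1]
    exact tendsto_finsetSum _ fun j _ => ((MvPolynomial.continuous_eval _).tendsto z₀).mul (hρ.pow j)
  have hG0 : MvPolynomial.eval z₀ G = 0 := by
    have := hroot.self_of_nhds
    rw [IsRoot, hmap, eval_add, eval_mul, eval_sub, eval_X, eval_C, eval_C, sub_self, zero_mul, add_zero] at this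
    exact this
  have hc0 : c z₀ ≠ 0 := by
    rw [hmap, hG0, C_0, zero_add, derivative_mul, derivative_sub, derivative_X, derivative_C, sub_zero, one_mul,
      eval_add, eval_mul, eval_sub, eval_X, eval_C, sub_self, zero_mul, add_zero] at hsimple
    exact hsimple
  have heq : ∀ᶠ z in 𝓝 z₀, ρ z = r₀ + MvPolynomial.eval z G * (-(c z)⁻¹) := by
    filter_upwards [hroot, hc.eventually_ne hc0] with z hz hcz
    rw [IsRoot, hmap, eval_add, eval_mul, eval_sub, eval_X, eval_C, eval_C] at hz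
    have h2 : MvPolynomial.eval z G = -((ρ z - r₀) * c z) := eq_neg_of_add_eq_zero_left hz
    rw [h2]
    field_simp
    ring
  refine DifferentiableAt.congr_of_eventuallyEq ?_ heq
  refine (differentiableAt_const r₀).fun_add ?_
  have hu : ContinuousAt (fun z => -(c z)⁻¹) z₀ := (hc.inv₀ hc0).neg
  have hd := ((differentiable_eval G).differentiableAt (x := z₀)).hasFDerivAt
  refine (HasFDerivAt.of_isLittleO (f' := (-(c z₀)⁻¹) • fderiv ℂ (fun z => MvPolynomial.eval z G) z₀) ?_).differentiableAt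
  have h3 : (fun z => (-(c z)⁻¹ - -(c z₀)⁻¹) * (MvPolynomial.eval z G - MvPolynomial.eval z₀ G)) =o[𝓝 z₀] fun z => z - z₀ := by
    have h4 : (fun z => -(c z)⁻¹ - -(c z₀)⁻¹) =o[𝓝 z₀] fun _ => (1 : ℝ) :=
      (isLittleO_one_iff ℝ).mpr (by simpa using (hu.tendsto.sub_const (-(c z₀)⁻¹)))
    have h5 := h4.mul_isBigO hd.isBigO_sub.norm_right
    simp only [one_mul] at h5
    exact h5.of_norm_right
  have h6 : (fun z => -(c z₀)⁻¹ * (MvPolynomial.eval z G - MvPolynomial.eval z₀ G -
      fderiv ℂ (fun z => MvPolynomial.eval z G) z₀ (z - z₀))) =o[𝓝 z₀] fun z => z - z₀ :=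
    hd.isLittleO.const_mul_left _
  refine (h3.add h6).congr_left fun z => ?_
  rw [hG0]
  simp only [ContinuousLinearMap.smul_apply, smul_eq_mul]
  ring

theorem differentiableAt_coeff_prod (T : Finset ℂ) (ρ : ℂ → (Fin n → ℂ) → ℂ) (z₀ : Fin n → ℂ)
    (hρ : ∀ t ∈ T, DifferentiableAt ℂ (ρ t) z₀) (k : ℕ) :
    DifferentiableAt ℂ (fun z => (∏ t ∈ T, (X - C (ρ t z))).coeff k) z₀ := by
  classical
  induction T using Finset.induction generalizing k with
  | empty => simp only [Finset.prod_empty]; exact differentiableAt_const _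
  | insert a T ha ih =>
    have ih' := fun j => ih (fun t ht => hρ t (Finset.mem_insert_of_mem ht)) j
    simp only [Finset.prod_insert ha, sub_mul, coeff_sub, coeff_C_mul]
    refine DifferentiableAt.fun_sub ?_ ((hρ a (Finset.mem_insert_self a T)).fun_mul (ih' k))
    rcases k with _ | k
    · simp only [coeff_X_mul_zero]; exact differentiableAt_const _
    · simp only [coeff_X_mul]; exact ih' k

theorem norm_coeff_prod_le (T : Finset ℂ) {M : ℝ} (hM : 0 ≤ M) (h : ∀ t ∈ T, ‖t‖ ≤ M) (k : ℕ) :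
    ‖(∏ t ∈ T, (X - C t)).coeff k‖ ≤ (1 + M) ^ T.card := by
  classical
  induction T using Finset.induction generalizing k with
  | empty => rw [Finset.prod_empty, Finset.card_empty, pow_zero, coeff_one]; split_ifs <;> simp
  | insert a T ha ih =>
    have ih' := fun j => ih (fun t ht => h t (Finset.mem_insert_of_mem ht)) j
    rw [Finset.prod_insert ha, sub_mul, coeff_sub, coeff_C_mul, Finset.card_insert_of_notMem ha, pow_succ,
      mul_comm ((1 + M) ^ T.card), add_mul, one_mul]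
    refine (norm_sub_le _ _).trans (add_le_add ?_ ?_)
    · rcases k with _ | k
      · rw [coeff_X_mul_zero, norm_zero]; exact pow_nonneg (add_nonneg zero_le_one hM) _
      · rw [coeff_X_mul]; exact ih' k
    · rw [norm_mul]; exact mul_le_mul (h a (Finset.mem_insert_self a T)) (ih' k) (norm_nonneg _) hM

variable (h : Polynomial (MvPolynomial (Fin n) ℂ)) (D : MvPolynomial (Fin n) ℂ)

/-- The root set of `h` over the locus `D ≠ 0`. -/
def rootSet : Set ((Fin n → ℂ) × ℂ) :=
  {p | MvPolynomial.eval p.1 D ≠ 0 ∧ (h.map (MvPolynomial.eval p.1)).IsRoot p.2}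

theorem isPreconnected_rootSet (hm : h.Monic) (hirr : Irreducible h) (hD : D ≠ 0)
    (hsep : ∀ z t, MvPolynomial.eval z D ≠ 0 → (h.map (MvPolynomial.eval z)).IsRoot t →
      (h.map (MvPolynomial.eval z)).derivative.eval t ≠ 0) :
    IsPreconnected (rootSet h D) := by
  classical
  rw [isPreconnected_iff_preconnectedSpace, preconnectedSpace_iff_clopen]
  intro A hA
  obtain ⟨O₁, hO₁, hA₁⟩ := isOpen_induced_iff.mp hA.2
  obtain ⟨O₂, hO₂, hA₂⟩ := isOpen_induced_iff.mp hA.1.isOpen_compl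
  set d := h.natDegree with hd
  set V := {z : Fin n → ℂ | MvPolynomial.eval z D ≠ 0} with hV
  have hVo : IsOpen V := isOpen_ne_zero D
  have hne : ∀ z, h.map (MvPolynomial.eval z) ≠ 0 := fun z => (hm.map _).ne_zero
  let S : (Fin n → ℂ) → Finset ℂ := fun z =>
    (h.map (MvPolynomial.eval z)).roots.toFinset.filter fun t => (z, t) ∈ O₁
  have hroots : ∀ z ∈ V, (h.map (MvPolynomial.eval z)).roots.toFinset.card = d := fun z hz => by
    have hnd : (h.map (MvPolynomial.eval z)).roots.Nodup := by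
      refine Multiset.nodup_iff_count_le_one.mpr fun t => ?_
      rw [count_roots]
      by_contra hlt
      obtain ⟨h1, h2⟩ := (one_lt_rootMultiplicity_iff_isRoot (hne z)).mp (not_le.mp hlt)
      exact hsep z t hz h1 h2
    rw [Multiset.toFinset_card_of_nodup hnd, IsAlgClosed.card_roots_eq_natDegree, hm.natDegree_map]
  have hlocal : ∀ z₀ ∈ V, ∃ (W : Set (Fin n → ℂ)) (ρ : ℂ → (Fin n → ℂ) → ℂ), W ∈ 𝓝 z₀ ∧ W ⊆ V ∧
      (∀ t ∈ S z₀, DifferentiableAt ℂ (ρ t) z₀) ∧
      ∀ z ∈ W, S z = (S z₀).image (fun t => ρ t z) ∧ Set.InjOn (fun t => ρ t z) (S z₀) := by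
    intro z₀ hz₀
    let Z := (h.map (MvPolynomial.eval z₀)).roots.toFinset
    have hZ : ∀ t ∈ Z, (h.map (MvPolynomial.eval z₀)).IsRoot t := fun t ht =>
      isRoot_of_mem_roots (Multiset.mem_toFinset.mp ht)
    obtain ⟨U, hU, hUdisj⟩ := Z.finite_toSet.t2_separation
    have hkey : ∀ t ∈ Z, ∃ (W : Set (Fin n → ℂ)) (ρ : (Fin n → ℂ) → ℂ), W ∈ 𝓝 z₀ ∧ ρ z₀ = t ∧ ContinuousAt ρ z₀ ∧
        ∀ z ∈ W, z ∈ V ∧ (h.map (MvPolynomial.eval z)).IsRoot (ρ z) ∧ ρ z ∈ U t ∧
          ((z, ρ z) ∈ O₁ ↔ (z₀, t) ∈ O₁) := by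
      intro t ht
      have ht' : (z₀, t) ∈ rootSet h D := ⟨hz₀, hZ t ht⟩
      let O := if (z₀, t) ∈ O₁ then O₁ else O₂
      have hO : IsOpen O := by dsimp only [O]; split_ifs <;> assumption
      have htO : (z₀, t) ∈ O := by
        dsimp only [O]
        split_ifs with hh
        · exact hh
        · have h7 : (⟨_, ht'⟩ : rootSet h D) ∈ Aᶜ := fun hh' => hh (by
            rw [← hA₁] at hh'; exact hh')
          rw [← hA₂] at h7
          exact h7
      obtain ⟨W, B, ρ, hW, -, hW0, ht0, hsub, hρc, hρ, huniq⟩ :=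
        AnEtale.exists_unique_root_nhds (fun z => h.map (MvPolynomial.eval z)) d (fun z => hm.natDegree_map _)
          (fun z => hm.map _) (fun j => by simp only [coeff_map]; exact MvPolynomial.continuous_eval _)
          (hZ t ht) (hsep z₀ t hz₀ (hZ t ht))
          ((hO.inter (hVo.prod (hU t).2))) ⟨htO, hz₀, (hU t).1⟩
      refine ⟨W, ρ, hW.mem_nhds hW0, (huniq z₀ hW0 t ht0 (hZ t ht)).symm, hρc.continuousAt (hW.mem_nhds hW0), fun z hz => ?_⟩
      obtain ⟨hzO, hzV, hzU⟩ := hsub (show (z, ρ z) ∈ W ×ˢ B from ⟨hz, (hρ z hz).1⟩)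
      refine ⟨hzV, (hρ z hz).2, hzU, ?_⟩
      dsimp only [O] at hzO
      split_ifs at hzO with hh
      · exact iff_of_true hzO hh
      · refine iff_of_false (fun h8 => ?_) hh
        have h9 : (⟨(z, ρ z), hzV, (hρ z hz).2⟩ : rootSet h D) ∈ A := by rw [← hA₁]; exact h8
        have h10 : (⟨(z, ρ z), hzV, (hρ z hz).2⟩ : rootSet h D) ∈ Aᶜ := by rw [← hA₂]; exact hzO
        exact h10 h9
    choose! W ρ hW hρ0 hρc hρ using hkey
    have hWn : (⋂ t ∈ Z, W t) ∩ V ∈ 𝓝 z₀ := inter_mem ((biInter_finset_mem Z).mpr hW) (hVo.mem_nhds hz₀)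
    refine ⟨_, ρ, hWn, Set.inter_subset_right, fun t ht => ?_, fun z hz => ?_⟩
    · have htZ := (Finset.mem_filter.mp ht).1
      refine differentiableAt_root h (hρc t htZ) ?_ ?_
      · filter_upwards [hW t htZ] with z hz using (hρ t htZ z hz).2.1
      · rw [hρ0 t htZ]; exact hsep z₀ t hz₀ (hZ t htZ)
    · have hz' : ∀ t ∈ Z, z ∈ W t := fun t ht => Set.mem_iInter₂.mp hz.1 t ht
      have hinj : Set.InjOn (fun t => ρ t z) Z := fun t ht t' ht' he => by
        by_contra hne'
        exact Set.disjoint_left.mp (hUdisj ht ht' hne') (hρ t ht z (hz' t ht)).2.2.1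
          ((show ρ t z = ρ t' z from he).symm ▸ (hρ t' ht' z (hz' t' ht')).2.2.1)
      have himage : Z.image (fun t => ρ t z) = (h.map (MvPolynomial.eval z)).roots.toFinset := by
        refine Finset.eq_of_subset_of_card_le (fun r hr => ?_) ?_
        · obtain ⟨t, ht, rfl⟩ := Finset.mem_image.mp hr
          exact Multiset.mem_toFinset.mpr ((mem_roots (hne z)).mpr (hρ t ht z (hz' t ht)).2.1)
        · rw [Finset.card_image_of_injOn hinj, hroots z hz.2]
          exact (hroots z₀ hz₀).ge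
      refine ⟨?_, hinj.mono fun t ht => (Finset.mem_filter.mp ht).1⟩
      show Finset.filter _ _ = _
      rw [← himage, Finset.filter_image]
      congr 1
      exact Finset.filter_congr fun t ht => (hρ t ht z (hz' t ht)).2.2.2
  -- the number of roots in `A` is constant
  obtain ⟨e, he⟩ : ∃ e, ∀ z ∈ V, (S z).card = e := by
    rcases V.eq_empty_or_nonempty with hVe | ⟨z₁, hz₁⟩
    · exact ⟨0, fun z hz => by simp [hVe] at hz⟩
    refine ⟨(S z₁).card, fun z hz => (isPreconnected_ne_zero D).constant (f := fun z => (S z).card) ?_ hz hz₁⟩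
    intro z₀ hz₀
    obtain ⟨W, ρ, hW, -, -, hρ⟩ := hlocal z₀ hz₀
    refine (continuousAt_const.congr (f := fun _ => (S z₀).card) ?_).continuousWithinAt
    filter_upwards [hW] with w hw
    rw [(hρ w hw).1, Finset.card_image_of_injOn (hρ w hw).2]
  let g : (Fin n → ℂ) → ℂ[X] := fun z => ∏ t ∈ S z, (X - C t)
  have hgmon : ∀ z, (g z).Monic := fun z => monic_prod_of_monic _ _ fun t _ => monic_X_sub_C t
  have hgdeg : ∀ z ∈ V, (g z).natDegree = e := fun z hz => by
    rw [natDegree_prod_of_monic _ _ fun t _ => monic_X_sub_C t]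
    simp [he z hz]
  have hdiff : ∀ k, DifferentiableOn ℂ (fun z => (g z).coeff k) V := fun k z₀ hz₀ => by
    obtain ⟨W, ρ, hW, -, hρd, hρ⟩ := hlocal z₀ hz₀
    refine ((differentiableAt_coeff_prod (S z₀) ρ z₀ hρd k).congr_of_eventuallyEq ?_).differentiableWithinAt
    filter_upwards [hW] with z hz
    show (∏ t ∈ S z, (X - C t)).coeff k = _
    rw [(hρ z hz).1, Finset.prod_image (hρ z hz).2]
  obtain ⟨C₀, N₀, hC₀, hbd⟩ : ∃ (C₀ : ℝ) (N₀ : ℕ), 0 ≤ C₀ ∧ ∀ z t, (h.map (MvPolynomial.eval z)).IsRoot t →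
      ‖t‖ ≤ C₀ * (1 + ‖z‖) ^ N₀ := by
    choose C N hC hN using fun j => exists_bound_eval (h.coeff j)
    refine ⟨1 + ∑ j ∈ Finset.range d, C j, ∑ j ∈ Finset.range d, N j,
      add_nonneg zero_le_one (Finset.sum_nonneg fun j _ => hC j), fun z t ht => ?_⟩
    have h1 : (1 : ℝ) ≤ 1 + ‖z‖ := le_add_of_nonneg_right (norm_nonneg _)
    refine (AlgDensity.norm_le_of_isRoot (hm.map _) ht).trans ?_
    rw [hm.natDegree_map, add_mul, one_mul, Finset.sum_mul]
    refine add_le_add (one_le_pow₀ h1) (Finset.sum_le_sum fun j hj => ?_)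
    rw [coeff_map]
    exact (hN j z).trans (mul_le_mul_of_nonneg_left (pow_le_pow_right₀ h1 (Finset.single_le_sum (fun i _ => Nat.zero_le (N i)) hj)) (hC j))
  have hext : ∀ k, ∃ P : MvPolynomial (Fin n) ℂ, ∀ z ∈ V, (g z).coeff k = MvPolynomial.eval z P := fun k => by
    refine exists_mvPolynomial D hD _ (hdiff k) (N₀ * e) (C := (1 + C₀) ^ e)
      (pow_nonneg (add_nonneg zero_le_one hC₀) e) fun z hz => ?_
    refine (norm_coeff_prod_le (S z) (mul_nonneg hC₀ (pow_nonneg (add_nonneg zero_le_one (norm_nonneg z)) N₀))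
      (fun t ht => hbd z t (isRoot_of_mem_roots (Multiset.mem_toFinset.mp (Finset.mem_filter.mp ht).1))) k).trans ?_
    rw [he z hz, pow_mul, ← mul_pow, add_mul, one_mul]
    exact pow_le_pow_left₀ (add_nonneg zero_le_one (mul_nonneg hC₀ (pow_nonneg (add_nonneg zero_le_one (norm_nonneg _)) _)))
      (add_le_add (one_le_pow₀ (le_add_of_nonneg_right (norm_nonneg _))) le_rfl) e
  choose P hP using hext
  let G : Polynomial (MvPolynomial (Fin n) ℂ) := X ^ e + ∑ k : Fin e, C (P k) * X ^ (k : ℕ)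
  have hGm : G.Monic := monic_X_pow_add (degree_sum_fin_lt _)
  have hGmap : ∀ z ∈ V, G.map (MvPolynomial.eval z) = g z := fun z hz => by
    conv_rhs => rw [(hgmon z).as_sum, hgdeg z hz, Finset.sum_range]
    simp [G, Polynomial.map_sum, ← hP _ z hz]
  have hdvd : G ∣ h := by
    rw [← modByMonic_eq_zero_iff_dvd hGm]
    ext1 j
    rw [coeff_zero]
    refine eq_zero_of_eval hD fun z hz => ?_
    have h1 : (h %ₘ G).map (MvPolynomial.eval z) = 0 := by
      rw [Polynomial.map_modByMonic _ hGm, hGmap z hz, modByMonic_eq_zero_iff_dvd (hgmon z)]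
      refine dvd_trans ?_ (prod_multiset_X_sub_C_dvd (h.map (MvPolynomial.eval z)))
      rw [show g z = ((S z).val.map fun t => X - C t).prod from rfl]
      refine Multiset.prod_dvd_prod_of_le (Multiset.map_le_map ((Multiset.le_iff_subset (S z).nodup).mpr fun t ht => ?_))
      exact Multiset.mem_toFinset.mp (Finset.mem_filter.mp ht).1
    have h2 := congrArg (fun p => Polynomial.coeff p j) h1
    simpa [coeff_map] using h2
  obtain ⟨G', hG'⟩ := hdvd
  rcases hirr.isUnit_or_isUnit hG' with hu | hu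
  · left
    refine Set.eq_empty_of_forall_notMem fun p hp => ?_
    have he0 : e = 0 := by
      rw [← hgdeg p.1.1 p.2.1, ← hGmap p.1.1 p.2.1, hGm.natDegree_map, hGm.eq_one_of_isUnit hu, natDegree_one]
    rw [← hA₁] at hp
    have h3 : p.1.2 ∈ S p.1.1 :=
      Finset.mem_filter.mpr ⟨Multiset.mem_toFinset.mpr ((mem_roots (hne _)).mpr p.2.2), hp⟩
    have h6 := Finset.card_pos.mpr ⟨_, h3⟩
    rw [he _ p.2.1, he0] at h6
    exact lt_irrefl 0 h6
  · right
    refine Set.eq_univ_of_forall fun p => ?_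
    have hG'1 : G' = 1 := (hGm.of_mul_monic_left (hG' ▸ hm)).eq_one_of_isUnit hu
    have he1 : e = d := by
      rw [← hgdeg p.1.1 p.2.1, ← hGmap p.1.1 p.2.1, hGm.natDegree_map, hd, hG', hG'1, mul_one]
    have h4 : S p.1.1 = (h.map (MvPolynomial.eval p.1.1)).roots.toFinset :=
      Finset.eq_of_subset_of_card_le (Finset.filter_subset _ _) (by rw [hroots _ p.2.1, he _ p.2.1, he1])
    rw [← hA₁]
    have h5 : p.1.2 ∈ S p.1.1 := by
      rw [h4]
      exact Multiset.mem_toFinset.mpr ((mem_roots (hne _)).mpr p.2.2)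
    exact (Finset.mem_filter.mp h5).2

end Groth.Agent.H05EGA4.AnRootSet
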