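import Groth.Agent.H05EGA4.An.AnStalk
import Groth.Agent.H05EGA4.An.Etale
import Groth.Agent.H05EGA4.An.RootSet
import Groth.Agent.H7Flat.LocalCriterion
import Groth.Agent.H19Grp.FlatClosedPoints
import Mathlib

/-!
Etale morphisms and bijectivity on analytic stalks.
-/

set_option autoImplicit false
set_option linter.style.haveILetI false
set_option linter.unusedSectionVars false

open AlgebraicGeometry CategoryTheory TopologicalSpace Topology Opposite An Filter TensorProduct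

noncomputable section

namespace Groth.Agent.H05EGA4.AnEtaleStalk

open AnGerm AnPts AnStalk

theorem flat_of_quotients (R S : Type) [CommRing R] [CommRing S] [Algebra R S] [IsLocalRing R] [IsLocalRing S]
    [IsLocalHom (algebraMap R S)] [IsNoetherianRing R] [IsNoetherianRing S]
    (hs : ∀ (n : ℕ) (b : S), ∃ a : R, b - algebraMap R S a ∈ (IsLocalRing.maximalIdeal R ^ n).map (algebraMap R S))
    (hi : ∀ (n : ℕ) (a : R), algebraMap R S a ∈ (IsLocalRing.maximalIdeal R ^ n).map (algebraMap R S) →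
      a ∈ IsLocalRing.maximalIdeal R ^ n) : Module.Flat R S := by
  rw [Module.Flat.iff_lTensor_injective']
  intro J
  rw [injective_iff_map_eq_zero]
  intro x hx
  set m := IsLocalRing.maximalIdeal R
  have H : ∀ (n : ℕ) (P : Submodule R (R ⧸ m ^ n)), Function.Injective (P.subtype.lTensor S) := by
    intro n P
    let L := m ^ n
    let e₁ : (R ⧸ L) ≃ₗ[R ⧸ L] (S ⧸ L.map (algebraMap R S)) :=
      LinearEquiv.ofBijective (Algebra.linearMap (R ⧸ L) _) ⟨by
        rw [injective_iff_map_eq_zero]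
        intro a ha
        obtain ⟨a, rfl⟩ := Ideal.Quotient.mk_surjective a
        exact Ideal.Quotient.eq_zero_iff_mem.mpr (hi n a (Ideal.Quotient.eq_zero_iff_mem.mp ha)), by
        intro b
        obtain ⟨b, rfl⟩ := Ideal.Quotient.mk_surjective b
        obtain ⟨a, ha⟩ := hs n b
        exact ⟨Ideal.Quotient.mk L a, (Ideal.Quotient.eq.mpr ha).symm⟩⟩
    haveI : Module.Flat (R ⧸ L) (S ⧸ L.map (algebraMap R S)) := Module.Flat.of_linearEquiv e₁.symm
    haveI : Module.Flat (R ⧸ L) ((R ⧸ L) ⊗[R] S) :=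
      Module.Flat.of_linearEquiv (Algebra.TensorProduct.quotIdealMapEquivQuotTensor S L).toLinearEquiv.symm
    obtain ⟨P', rfl⟩ : ∃ P' : Submodule (R ⧸ L) (R ⧸ L), P'.restrictScalars R = P :=
      ⟨{ toAddSubmonoid := P.toAddSubmonoid
         smul_mem' := fun c x hx => by
          obtain ⟨c, rfl⟩ := Ideal.Quotient.mk_surjective c
          exact P.smul_mem c hx }, rfl⟩
    exact H7Flat.lTensor_injective_of_flat_quotient L P'.subtype Subtype.val_injective
  obtain ⟨a, ha, hax⟩ := H7Flat.exists_one_add_smul_eq_zero_of_ker (S := S) m J H hx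
  have ha' : a ∈ IsLocalRing.maximalIdeal S := ((List.TFAE.out (IsLocalRing.local_hom_TFAE (algebraMap R S)) 0 2 rfl rfl).mp ‹_›) ha
  have hu : IsUnit (1 + a) := by
    by_contra hu
    exact (IsLocalRing.maximalIdeal.isMaximal S).ne_top ((Ideal.eq_top_iff_one _).mpr
      (by simpa using sub_mem ((IsLocalRing.mem_maximalIdeal _).mpr hu) ha'))
  exact hu.smul_eq_zero.mp hax

variable {X Y : Scheme.{0}} [X.Over SC] [Y.Over SC] [LocallyOfFiniteType (X ↘ SC)]
  [LocallyOfFiniteType (Y ↘ SC)] (f : X ⟶ Y) [f.IsOver SC]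

theorem flat_stalk_of_bijective [IsReduced X] [IsReduced Y] (x : Pts X)
    (h : Function.Bijective (anStalk f x)) : (f.stalkMap x.pt).hom.Flat := by
  haveI : IsLocallyNoetherian X := LocallyOfFiniteType.isLocallyNoetherian (X ↘ SC)
  haveI : IsLocallyNoetherian Y := LocallyOfFiniteType.isLocallyNoetherian (Y ↘ SC)
  obtain ⟨κ⟩ := exists_chart x
  obtain ⟨κ'⟩ := exists_chart (Pts.map f x)
  have hM : (RingHom.ker (evalO (Pts.map f x))).map (anStalk f x) = RingHom.ker (evalO x) := by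
    haveI := κ.ker_evalO_isMaximal
    haveI := Ideal.comap_isMaximal_of_surjective (anStalk f x) h.2 (K := RingHom.ker (evalO x))
    rw [← κ'.eq_ker_of_isMaximal this, Ideal.map_comap_of_surjective _ h.2]
  have hu : (f.stalkMap x.pt).hom.FormallyUnramified := (stalk_unramified_iff f x).mpr hM
  haveI : LocallyOfFiniteType f := AnPts.locallyOfFiniteType_hom f
  algebraize [(f.stalkMap x.pt).hom]
  haveI : IsLocalHom (algebraMap (Y.presheaf.stalk (f x.pt)) (X.presheaf.stalk x.pt)) :=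
    inferInstanceAs <| IsLocalHom (f.stalkMap x.pt).hom
  haveI : Algebra.EssFiniteType (Y.presheaf.stalk (f x.pt)) (X.presheaf.stalk x.pt) := by
    rw [← RingHom.essFiniteType_algebraMap, RingHom.algebraMap_toAlgebra]
    exact LocallyOfFiniteType.stalkMap f x.pt
  have hm : (IsLocalRing.maximalIdeal (Y.presheaf.stalk (f x.pt))).map
      (algebraMap (Y.presheaf.stalk (f x.pt)) (X.presheaf.stalk x.pt)) = IsLocalRing.maximalIdeal (X.presheaf.stalk x.pt) :=
    (Algebra.FormallyUnramified.iff_map_maximalIdeal_eq.mp (RingHom.formallyUnramified_algebraMap.mp hu)).2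
  have hMn : ∀ n, ((IsLocalRing.maximalIdeal (Y.presheaf.stalk (Pts.map f x).pt)).map (φ (Pts.map f x)) ^ n).map (anStalk f x) =
      (IsLocalRing.maximalIdeal (X.presheaf.stalk x.pt)).map (φ x) ^ n := fun n => by
    rw [Ideal.map_pow, κ'.map_maximalIdeal_eq, κ.map_maximalIdeal_eq, hM]
  refine flat_of_quotients _ _ (fun n b => ?_) fun n a ha => ?_
  · rw [Ideal.map_pow, hm]
    obtain ⟨c, hc⟩ := h.2 (φ x b)
    obtain ⟨a, -, ha⟩ := κ'.exists_approx 0 n c (by simp)
    refine ⟨a, reflect κ n _ ?_⟩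
    have h1 := Ideal.mem_map_of_mem (anStalk f x) ha
    rw [hMn, map_sub, hc] at h1
    rw [map_sub, ← neg_mem_iff, neg_sub]
    exact (anStalk_φ f x a) ▸ h1
  · rw [Ideal.map_pow, hm] at ha
    refine reflect κ' n a ?_
    have h1 : anStalk f x (φ (Pts.map f x) a) ∈ (IsLocalRing.maximalIdeal (X.presheaf.stalk x.pt)).map (φ x) ^ n := by
      rw [anStalk_φ, ← Ideal.map_pow]
      exact Ideal.mem_map_of_mem _ ha
    rw [← hMn] at h1
    obtain ⟨c, hc, hce⟩ := (Ideal.mem_map_iff_of_surjective _ h.2).mp h1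
    exact h.1 hce ▸ hc

theorem etale_of_bijective [IsReduced X] [IsReduced Y] (h : ∀ x, Function.Bijective (anStalk f x)) : Etale f := by
  haveI : LocallyOfFiniteType f := AnPts.locallyOfFiniteType_hom f
  haveI : IsLocallyNoetherian Y := LocallyOfFiniteType.isLocallyNoetherian (Y ↘ SC)
  haveI : FormallyUnramified f := (AnStalk.formallyUnramified_iff f).mpr fun x => by
    obtain ⟨κ⟩ := exists_chart x
    obtain ⟨κ'⟩ := exists_chart (Pts.map f x)
    refine (stalk_unramified_iff f x).mpr ?_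
    haveI := κ.ker_evalO_isMaximal
    haveI := Ideal.comap_isMaximal_of_surjective (anStalk f x) (h x).2 (K := RingHom.ker (evalO x))
    rw [← κ'.eq_ker_of_isMaximal this, Ideal.map_comap_of_surjective _ (h x).2]
  haveI : JacobsonSpace X := LocallyOfFiniteType.jacobsonSpace (X ↘ SC)
  haveI : Flat f := H19Grp.flat_of_forall_closedPoint f fun p hp => by
    obtain ⟨x, rfl⟩ := exists_pts hp
    exact flat_stalk_of_bijective f x (h x)
  exact Etale.of_formallyUnramified_of_flat f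

section Standard

/-- A standard etale chart around a point. -/
theorem exists_standard_chart [Etale f] (x : Pts X) :
    ∃ (V : Y.Opens) (_ : IsAffineOpen V) (D : X.Opens) (_ : IsAffineOpen D) (e : D ≤ f ⁻¹ᵁ V) (_ : x.pt ∈ D),
      Nonempty (@StandardEtalePresentation Γ(Y, V) Γ(X, D) _ _ (f.appLE V D e).hom.toAlgebra) := by
  obtain ⟨V, hV, hxV, -⟩ := exists_isAffineOpen_mem_and_subset (x := f x.pt) (U := (⊤ : Y.Opens)) trivial
  obtain ⟨U, hU, hxU, hUV⟩ := exists_isAffineOpen_mem_and_subset (x := x.pt) (U := f ⁻¹ᵁ V) hxV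
  letI : Algebra Γ(Y, V) Γ(X, U) := (f.appLE V U hUV).hom.toAlgebra
  haveI : Algebra.Etale Γ(Y, V) Γ(X, U) :=
    HasRingHomProperty.appLE (P := @Etale) f inferInstance ⟨V, hV⟩ ⟨U, hU⟩ hUV
  haveI : (RingHom.ker (evHom x U hxU)).IsPrime := RingHom.ker_isPrime _
  obtain ⟨g, hgQ, hstd⟩ := Algebra.IsEtaleAt.exists_isStandardEtale (R := Γ(Y, V)) (RingHom.ker (evHom x U hxU))
  haveI := hU.isLocalization_basicOpen g
  let e₀ : Localization.Away g ≃ₐ[Γ(X, U)] Γ(X, X.basicOpen g) := IsLocalization.algEquiv (Submonoid.powers g) _ _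
  have hle : X.basicOpen g ≤ f ⁻¹ᵁ V := (X.basicOpen_le g).trans hUV
  letI : Algebra Γ(Y, V) Γ(X, X.basicOpen g) := (f.appLE V (X.basicOpen g) hle).hom.toAlgebra
  let e : Localization.Away g ≃ₐ[Γ(Y, V)] Γ(X, X.basicOpen g) :=
    AlgEquiv.ofRingEquiv (f := e₀.toRingEquiv) fun a => by
      show e₀ (algebraMap Γ(Y, V) (Localization.Away g) a) = (f.appLE V (X.basicOpen g) hle) a
      rw [IsScalarTower.algebraMap_apply Γ(Y, V) Γ(X, U) (Localization.Away g), e₀.commutes]
      show (f.appLE V U hUV ≫ X.presheaf.map (homOfLE (X.basicOpen_le g)).op) a = _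
      rw [Scheme.Hom.appLE_map]
  haveI : Algebra.IsStandardEtale Γ(Y, V) Γ(X, X.basicOpen g) := Algebra.IsStandardEtale.of_equiv e
  exact ⟨V, hV, _, hU.basicOpen g, hle, (mem_basicOpen_iff x hxU g).mpr hgQ,
    Algebra.IsStandardEtale.nonempty_standardEtalePresentation⟩

theorem surjective_anStalk [Etale f] (x : Pts X) : Function.Surjective (anStalk f x) := by
  obtain ⟨V, hV, D, hD, hle, hxD, ⟨P⟩⟩ := exists_standard_chart f x
  letI : Algebra Γ(Y, V) Γ(X, D) := (f.appLE V D hle).hom.toAlgebra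
  have hxV : (Pts.map f x).pt ∈ V := by rw [Pts.pt_map]; exact hle hxD
  obtain ⟨κ, hκ⟩ := exists_chart_on hD x hxD
  obtain ⟨κ', hκ'⟩ := exists_chart_on hV (Pts.map f x) hxV
  subst hκ
  subst hκ'
  have hmem : ∀ z : Pts X, z.pt ∈ κ.U → (Pts.map f z).pt ∈ κ'.U := fun z hz => by
    rw [Pts.pt_map]; exact hle hz
  have hev : ∀ (z : Pts X) (hz : z.pt ∈ κ.U) (a : Γ(Y, κ'.U)),
      z.ev κ.U hz (algebraMap Γ(Y, κ'.U) Γ(X, κ.U) a) = (Pts.map f z).ev κ'.U (hmem z hz) a := fun z hz a => by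
    rw [Pts.ev_map f z κ'.U (hmem z hz) a, ← AnPts.ev_res z hle hz (f.app κ'.U a)]
    rfl
  -- lift polynomials to the coordinate ring
  haveI : Nontrivial Γ(Y, κ'.U) := (evHom (Pts.map f x) κ'.U hxV).domain_nontrivial
  let ev' : MvPolynomial (Fin κ'.n) ℂ →+* Γ(Y, κ'.U) := MvPolynomial.eval₂Hom (cst κ'.U) κ'.s
  have hlifts : ∀ q : Polynomial Γ(Y, κ'.U), q ∈ Polynomial.lifts ev' := fun q =>
    (Polynomial.mem_lifts q).mpr (Polynomial.map_surjective ev' κ'.surj q)
  obtain ⟨h, hh, -, hhm⟩ := Polynomial.lifts_and_degree_eq_and_monic (hlifts P.f) P.monic_f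
  obtain ⟨g, hg⟩ := Polynomial.map_surjective ev' κ'.surj P.g
  have heval : ∀ (z : Pts X) (hz : z.pt ∈ κ.U) (q : Polynomial (MvPolynomial (Fin κ'.n) ℂ)),
      z.ev κ.U hz (Polynomial.aeval P.x (q.map ev')) =
        (q.map (MvPolynomial.eval (κ'.e (Pts.map f z)))).eval (z.ev κ.U hz P.x) := fun z hz q => by
    show evHom z κ.U hz (Polynomial.aeval P.x (q.map ev')) = _
    rw [Polynomial.aeval_def, Polynomial.hom_eval₂, Polynomial.eval₂_map, Polynomial.eval_map]
    congr 1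
    refine RingHom.ext fun Q => ?_
    show evHom z κ.U hz (algebraMap Γ(Y, κ'.U) Γ(X, κ.U) (ev' Q)) = _
    rw [← ev_eq, hev, κ'.ev_eval₂]
  let p₀ := κ'.e (Pts.map f x)
  let θ : Pts X → ℂ := fun z => by classical exact if hz : z.pt ∈ κ.U then z.ev κ.U hz P.x else 0
  have hθ : ∀ (z : Pts X) (hz : z.pt ∈ κ.U), θ z = z.ev κ.U hz P.x := fun z hz => dif_pos hz
  have hroot : ∀ (z : Pts X), z.pt ∈ κ.U → ((h.map (MvPolynomial.eval (κ'.e (Pts.map f z)))).IsRoot (θ z)) := by
    intro z hz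
    rw [Polynomial.IsRoot, hθ z hz, ← heval z hz, hh, P.hasMap.1]
    exact map_zero (evHom z κ.U hz)
  have hne : ∀ (z : Pts X), z.pt ∈ κ.U → (g.map (MvPolynomial.eval (κ'.e (Pts.map f z)))).eval (θ z) ≠ 0 := by
    intro z hz
    rw [hθ z hz, ← heval z hz, hg]
    exact (P.hasMap.2.map (evHom z κ.U hz)).ne_zero
  have hder : (h.map (MvPolynomial.eval p₀)).derivative.eval (θ x) ≠ 0 := by
    rw [Polynomial.derivative_map, hθ x κ.mem, ← heval x κ.mem, ← Polynomial.derivative_map, hh]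
    exact (P.hasMap.isUnit_derivative_f.map (evHom x κ.U κ.mem)).ne_zero
  have hcmap : ∀ q : Polynomial (MvPolynomial (Fin κ'.n) ℂ),
      Continuous fun w : (Fin κ'.n → ℂ) × ℂ => (q.map (MvPolynomial.eval w.1)).eval w.2 := fun q => by
    simp only [Polynomial.eval_map, Polynomial.eval₂_eq_sum_range]
    exact continuous_finsetSum _ fun j _ => ((MvPolynomial.continuous_eval _).comp continuous_fst).mul (continuous_snd.pow j)
  obtain ⟨W, B, ρ, hW, hB, hW0, hB0, hWB, hρ, hρB, huniq⟩ :=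
    AnEtale.exists_unique_root_nhds (fun z => h.map (MvPolynomial.eval z)) h.natDegree
      (fun z => hhm.natDegree_map _) (fun z => hhm.map _)
      (fun j => by simp only [Polynomial.coeff_map]; exact MvPolynomial.continuous_eval _)
      (hroot x κ.mem) hder
      (G := {w | (g.map (MvPolynomial.eval w.1)).eval w.2 ≠ 0 ∧ (h.map (MvPolynomial.eval w.1)).derivative.eval w.2 ≠ 0})
      ((isOpen_ne_fun (hcmap g) continuous_const).inter (isOpen_ne_fun (by simpa only [Polynomial.derivative_map] using hcmap h.derivative) continuous_const))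
      ⟨hne x κ.mem, hder⟩
  have hG2 : ∀ z ∈ W, (g.map (MvPolynomial.eval z)).eval (ρ z) ≠ 0 ∧
      (h.map (MvPolynomial.eval z)).derivative.eval (ρ z) ≠ 0 := fun z hz =>
    hWB (show (z, ρ z) ∈ W ×ˢ B from ⟨hz, (hρB z hz).1⟩)
  have hρd : DifferentiableOn ℂ ρ W := fun z hz => by
    have hc : ContinuousAt ρ z := hρ.continuousAt (hW.mem_nhds hz)
    have hr : ∀ᶠ w in 𝓝 z, (h.map (MvPolynomial.eval w)).IsRoot (ρ w) :=
      Filter.mem_of_superset (hW.mem_nhds hz) fun w hw => (hρB w hw).2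
    exact (AnRootSet.differentiableAt_root h hc hr (hG2 z hz).2).differentiableWithinAt
  have hpoly : ∀ q : Polynomial (MvPolynomial (Fin κ'.n) ℂ),
      DifferentiableOn ℂ (fun z => (q.map (MvPolynomial.eval z)).eval (ρ z)) W := fun q => by
    simp only [Polynomial.eval_map, Polynomial.eval₂_eq_sum_range]
    exact DifferentiableOn.fun_sum fun j _ => ((AnHol.differentiable_eval _).differentiableOn).mul (hρd.fun_pow j)
  choose p k hpk using fun i => P.exists_mul_aeval_x_g_pow_eq_aeval_x (κ.s i)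
  choose p' hp' using fun i => Polynomial.map_surjective ev' κ'.surj (p i)
  let Φ : (Fin κ'.n → ℂ) → (Fin κ.n → ℂ) := fun z i =>
    ((p' i).map (MvPolynomial.eval z)).eval (ρ z) / (g.map (MvPolynomial.eval z)).eval (ρ z) ^ k i
  have hΦ : DifferentiableOn ℂ Φ W := differentiableOn_pi.mpr fun i => fun z hz =>
    (hpoly (p' i) z hz).mul (((hpoly g z hz).fun_pow (k i)).fun_inv (pow_ne_zero _ (hG2 z hz).1))
  -- the neighbourhood where the root is the coordinate
  let O : Set (Pts X) := {z | (Pts.map f z).pt ∈ κ'.U ∧ κ'.e (Pts.map f z) ∈ W} ∩ Pts.basicSet κ.U P.x B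
  have hO : IsOpen O := ((κ'.dom W hW).2.preimage (Pts.continuous_map f)).inter (Pts.isOpen_basicSet _ _ hB)
  have hxO : x ∈ O := ⟨⟨hxV, hW0⟩, κ.mem, hθ x κ.mem ▸ hB0⟩
  have hΦe : ∀ z ∈ O, Φ (κ'.e (Pts.map f z)) = κ.e z := by
    rintro z ⟨⟨hzV, hzW⟩, hzU, hzB⟩
    funext i
    have hρθ : ρ (κ'.e (Pts.map f z)) = θ z := (huniq _ hzW _ (by rw [hθ z hzU]; exact hzB) (hroot z hzU)).symm
    have h2 := congrArg (evHom z κ.U hzU) (hpk i)
    rw [map_mul, map_pow, ← hp' i, ← hg, ← ev_eq, ← ev_eq, ← ev_eq, heval, heval, ← hθ z hzU] at h2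
    simp only [Φ, hρθ]
    rw [div_eq_iff (pow_ne_zero _ (hne z hzU)), Chart.e_eq κ z hzU]
    exact h2.symm
  intro b
  obtain ⟨E, hE, G, hG, hp, rfl⟩ := κ.exists_rep b
  have hWE : IsOpen (W ∩ Φ ⁻¹' E) := hΦ.continuousOn.isOpen_inter_preimage hW hE
  have hp'' : κ'.e (Pts.map f x) ∈ W ∩ Φ ⁻¹' E := ⟨hW0, by rw [Set.mem_preimage, hΦe x hxO]; exact hp⟩
  have hGd : DifferentiableOn ℂ (fun z => G (Φ z)) (W ∩ Φ ⁻¹' E) :=
    hG.comp (hΦ.mono Set.inter_subset_left) fun z hz => hz.2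
  refine ⟨κ'.gm _ hWE (fun z => G (Φ z)) hGd hp'', ?_⟩
  refine (congrArg (fun k => k (κ'.sect _ hWE (fun z => G (Φ z)) hGd))
    (PresheafedSpace.stalkMap_germ (anMap f) (κ'.dom _ hWE) x ⟨hxV, hp''⟩)).trans ?_
  let O' : Opens (top X) := ⟨O, hO⟩ ⊓ κ.dom E hE ⊓ (Opens.map (topMap f)).obj (κ'.dom _ hWE)
  refine TopCat.Presheaf.germ_ext (holPresheaf X) O' ⟨⟨hxO, κ.mem, hp⟩, hxV, hp''⟩
    (homOfLE inf_le_right) (homOfLE (inf_le_left.trans inf_le_right)) ?_
  exact Subtype.ext (funext fun z => congrArg G (hΦe z.1 z.2.1.1))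

theorem injective_anStalk [Etale f] (x : Pts X) : Function.Injective (anStalk f x) := by
  haveI : LocallyOfFiniteType f := AnPts.locallyOfFiniteType_hom f
  have hlh : IsLocalHomeomorph (Pts.map f) := AnEtale.etaleLH X Y f
  intro a b hab
  obtain ⟨V, hV, s, rfl⟩ := TopCat.Presheaf.exists_germ_eq (holPresheaf Y) a
  obtain ⟨V', hV', t, rfl⟩ := TopCat.Presheaf.exists_germ_eq (holPresheaf Y) b
  have h1 : TopCat.Presheaf.germ (holPresheaf X) ((Opens.map (topMap f)).obj V) x hV (anMapApp f V s) =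
      TopCat.Presheaf.germ (holPresheaf X) ((Opens.map (topMap f)).obj V') x hV' (anMapApp f V' t) :=
    ((congrArg (fun k => k s) (PresheafedSpace.stalkMap_germ (anMap f) V x hV)).symm.trans hab).trans
      (congrArg (fun k => k t) (PresheafedSpace.stalkMap_germ (anMap f) V' x hV'))
  obtain ⟨W, hxW, i1, i2, hres⟩ := TopCat.Presheaf.germ_eq (holPresheaf X) x _ _ _ _ h1
  let W' : Opens (top Y) := ⟨Pts.map f '' W.1, hlh.isOpenMap _ W.2⟩
  have hW1 : W' ≤ V := by rintro _ ⟨z, hz, rfl⟩; exact i1.le hz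
  have hW2 : W' ≤ V' := by rintro _ ⟨z, hz, rfl⟩; exact i2.le hz
  refine TopCat.Presheaf.germ_ext (holPresheaf Y) W' ⟨x, hxW, rfl⟩ (homOfLE hW1) (homOfLE hW2) ?_
  refine Subtype.ext (funext ?_)
  rintro ⟨_, z, hz, rfl⟩
  exact congrFun (congrArg Subtype.val hres) ⟨z, hz⟩

end Standard

end Groth.Agent.H05EGA4.AnEtaleStalk
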