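import Mathlib

/-!
Hadamard's lemma for holomorphic functions of several variables.
-/

set_option autoImplicit false
set_option linter.style.haveILetI false

open Filter Topology MeasureTheory Metric Complex

noncomputable section

namespace Groth.Agent.H05EGA4.AnHadamard

variable {ι : Type*} [Fintype ι] [DecidableEq ι]

/-- The derivative of a bounded holomorphic function is bounded. -/
theorem norm_fderiv_le {G : (ι → ℂ) → ℂ} {z : ι → ℂ} {ρ M : ℝ} (hρ : 0 < ρ) (hM : 0 ≤ M)
    (hG : ∀ w ∈ closedBall z ρ, DifferentiableAt ℂ G w) (hb : ∀ w ∈ closedBall z ρ, ‖G w‖ ≤ M) :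
    ‖fderiv ℂ G z‖ ≤ M / ρ := by
  refine ContinuousLinearMap.opNorm_le_of_unit_norm (div_nonneg hM hρ.le) fun v hv => ?_
  let L : ℂ → (ι → ℂ) := fun s => z + s • v
  have hL : ∀ s ∈ closedBall (0 : ℂ) ρ, L s ∈ closedBall z ρ := fun s hs => by
    rw [mem_closedBall_zero_iff] at hs
    simpa [L, mem_closedBall, dist_eq_norm, norm_smul, hv] using hs
  have hd : HasDerivAt L v 0 := by
    simpa [L] using ((hasDerivAt_id (0 : ℂ)).smul_const v).const_add z
  have hz : L 0 = z := by simp [L]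
  have hcomp : deriv (G ∘ L) 0 = fderiv ℂ G z v := by
    have h := (hz ▸ (hG z (mem_closedBall_self hρ.le)).hasFDerivAt : HasFDerivAt G (fderiv ℂ G z) (L 0))
    exact (h.comp_hasDerivAt 0 hd).deriv
  rw [← hcomp]
  refine norm_deriv_le_of_forall_mem_sphere_norm_le hρ ?_ fun s hs => hb _ (hL s (sphere_subset_closedBall hs))
  refine DifferentiableOn.diffContOnCl ?_
  rw [closure_ball (0 : ℂ) hρ.ne']
  exact fun s hs => ((hG _ (hL s hs)).comp s (by fun_prop)).differentiableWithinAt

/-- Division by a coordinate. -/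
theorem exists_div_coord {r : ℝ} (hr : 0 < r) {G : (ι → ℂ) → ℂ} (hG : DifferentiableOn ℂ G (ball 0 r)) (i : ι) :
    ∃ r', 0 < r' ∧ r' ≤ r ∧ ∃ H : (ι → ℂ) → ℂ, DifferentiableOn ℂ H (ball 0 r') ∧
      ∀ z ∈ ball (0 : ι → ℂ) r', G z - G (Function.update z i 0) = z i * H z := by
  set R := r / 2 with hR
  have hR0 : 0 < R := half_pos hr
  let ξ : ℝ → ℂ := circleMap 0 R
  let u : (ι → ℂ) → ℂ → (ι → ℂ) := fun z x => Function.update z i x
  have hu : ∀ {z : ι → ℂ} {x : ℂ} {s : ℝ}, ‖z‖ ≤ s → ‖x‖ ≤ s → u z x ∈ closedBall (0 : ι → ℂ) s := by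
    intro z x s hz hx
    rw [mem_closedBall_zero_iff, pi_norm_le_iff_of_nonneg ((norm_nonneg z).trans hz)]
    intro j
    by_cases h : j = i
    · subst h; simpa [u] using hx
    · simpa [u, Function.update_of_ne h] using (norm_le_pi_norm z j).trans hz
  have hGat : ∀ w ∈ closedBall (0 : ι → ℂ) (3 * r / 4), DifferentiableAt ℂ G w := fun w hw =>
    hG.differentiableAt (isOpen_ball.mem_nhds (closedBall_subset_ball (by linarith) hw))
  obtain ⟨M, hM⟩ := (isCompact_closedBall (0 : ι → ℂ) (3 * r / 4)).exists_bound_of_continuousOn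
    fun w hw => (hGat w hw).continuousAt.continuousWithinAt
  have hM0 : 0 ≤ M := (norm_nonneg _).trans (hM 0 (mem_closedBall_self (by linarith)))
  have hfd : ∀ w ∈ closedBall (0 : ι → ℂ) R, ‖fderiv ℂ G w‖ ≤ M / (r / 4) := fun w hw => by
    have hsub : closedBall w (r / 4) ⊆ closedBall (0 : ι → ℂ) (3 * r / 4) :=
      closedBall_subset_closedBall' (by rw [mem_closedBall] at hw; linarith)
    exact norm_fderiv_le (by linarith) hM0 (fun v hv => hGat v (hsub hv)) fun v hv => hM v (hsub hv)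
  let k : (ι → ℂ) → ℝ → ℂ := fun z t => (2 * (Real.pi : ℂ) * I)⁻¹ * (deriv ξ t / (ξ t * (ξ t - z i)))
  let F : (ι → ℂ) → ℝ → ℂ := fun z t => k z t * G (u z (ξ t))
  let Lu : (ι → ℂ) →L[ℂ] (ι → ℂ) :=
    ContinuousLinearMap.id ℂ _ - (ContinuousLinearMap.single ℂ (fun _ => ℂ) i).comp (ContinuousLinearMap.proj i)
  have hud : ∀ (z : ι → ℂ) x, HasFDerivAt (fun z => u z x) Lu z := fun z x => by
    have h : (fun z => u z x) = fun z => Lu z + Pi.single i x := by
      funext z j
      by_cases h : j = i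
      · subst h; simp [u, Lu]
      · simp [u, Lu, Function.update_of_ne h, Pi.single_eq_of_ne h]
    rw [h]
    exact Lu.hasFDerivAt.add_const _
  let k' : (ι → ℂ) → ℝ → ℂ := fun z t => (2 * (Real.pi : ℂ) * I)⁻¹ * (deriv ξ t / (ξ t * (ξ t - z i) ^ 2))
  let F' : (ι → ℂ) → ℝ → ((ι → ℂ) →L[ℂ] ℂ) := fun z t =>
    k z t • (fderiv ℂ G (u z (ξ t))).comp Lu + (k' z t * G (u z (ξ t))) • ContinuousLinearMap.proj i
  have hξ : ∀ t, ‖ξ t‖ = R := fun t => by simp [ξ, circleMap, abs_of_pos hR0]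
  have hξc : Continuous ξ := continuous_circleMap 0 R
  have hξd : Continuous (deriv ξ) := by
    rw [show deriv ξ = fun t => circleMap 0 R t * I from funext fun t => deriv_circleMap 0 R t]
    exact hξc.mul continuous_const
  have hdne : ∀ z ∈ ball (0 : ι → ℂ) (r / 4), ∀ t, ξ t ≠ 0 ∧ ξ t - z i ≠ 0 ∧ r / 4 ≤ ‖ξ t - z i‖ := by
    intro z hz t
    rw [mem_ball_zero_iff] at hz
    have h1 : r / 4 ≤ ‖ξ t - z i‖ := by
      have h2 := norm_sub_norm_le (ξ t) (z i)
      have h3 := norm_le_pi_norm z i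
      rw [hξ] at h2
      linarith
    exact ⟨norm_pos_iff.mp (hξ t ▸ hR0), norm_pos_iff.mp (lt_of_lt_of_le (by linarith) h1), h1⟩
  have humem : ∀ z ∈ ball (0 : ι → ℂ) (r / 4), ∀ t, u z (ξ t) ∈ closedBall (0 : ι → ℂ) R := fun z hz t =>
    hu (by rw [mem_ball_zero_iff] at hz; linarith) (hξ t).le
  have hRle : R ≤ 3 * r / 4 := by linarith
  have hkc : ∀ z ∈ ball (0 : ι → ℂ) (r / 4), Continuous (k z) := fun z hz =>
    continuous_const.mul (hξd.div (hξc.mul (hξc.sub continuous_const)) fun t => mul_ne_zero (hdne z hz t).1 (hdne z hz t).2.1)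
  have huc : ∀ z : ι → ℂ, Continuous fun t => u z (ξ t) := fun z => continuous_const.update i hξc
  have hGc : ∀ z ∈ ball (0 : ι → ℂ) (r / 4), Continuous fun t => G (u z (ξ t)) := fun z hz =>
    continuous_iff_continuousAt.mpr fun t =>
      (hGat _ (closedBall_subset_closedBall hRle (humem z hz t))).continuousAt.comp (f := fun t => u z (ξ t)) (huc z).continuousAt
  have hFc : ∀ z ∈ ball (0 : ι → ℂ) (r / 4), Continuous (F z) := fun z hz => (hkc z hz).mul (hGc z hz)
  let H : (ι → ℂ) → ℂ := fun z => ∫ t in Set.Ioc (0 : ℝ) (2 * Real.pi), F z t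
  have hd : ∀ z ∈ ball (0 : ι → ℂ) (r / 4), DifferentiableAt ℂ H z := by
    intro z₀ hz₀
    haveI : IsFiniteMeasure (volume.restrict (Set.Ioc (0 : ℝ) (2 * Real.pi))) :=
      isFiniteMeasure_restrict.mpr measure_Ioc_lt_top.ne
    refine (hasFDerivAt_integral_of_dominated_of_fderiv_le (F' := F') (bound := fun _ =>
      ‖(2 * (Real.pi : ℂ) * I)⁻¹‖ * (R / (R * (r / 4))) * (M / (r / 4) * ‖Lu‖) +
        ‖(2 * (Real.pi : ℂ) * I)⁻¹‖ * (R / (R * (r / 4) ^ 2)) * M * ‖ContinuousLinearMap.proj (R := ℂ) (φ := fun _ : ι => ℂ) i‖)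
      (isOpen_ball.mem_nhds hz₀) ?_ ?_ ?_ ?_ (integrable_const _) ?_).differentiableAt
    · filter_upwards [isOpen_ball.mem_nhds hz₀] with z hz using (hFc z hz).aestronglyMeasurable
    · exact (hFc z₀ hz₀).integrableOn_Ioc
    · refine AEStronglyMeasurable.add ?_ ?_
      · refine (hkc z₀ hz₀).aestronglyMeasurable.smul ?_
        borelize ((ι → ℂ) →L[ℂ] ℂ)
        have hm : Measurable fun t => fderiv ℂ G (u z₀ (ξ t)) := (measurable_fderiv ℂ G).comp (huc z₀).measurable
        haveI : SecondCountableTopology ((ι → ℂ) →L[ℂ] ℂ) := inferInstance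
        have hm' : AEStronglyMeasurable (fun t => fderiv ℂ G (u z₀ (ξ t)))
            (volume.restrict (Set.Ioc (0 : ℝ) (2 * Real.pi))) := hm.stronglyMeasurable.aestronglyMeasurable
        have hcl : Continuous fun A : (ι → ℂ) →L[ℂ] ℂ => A.comp Lu :=
          (ContinuousLinearMap.compL ℂ (ι → ℂ) (ι → ℂ) ℂ).flip Lu |>.continuous
        exact hcl.comp_aestronglyMeasurable hm'
      · have hk'G : Continuous fun t => k' z₀ t * G (u z₀ (ξ t)) := (continuous_const.mul (hξd.div (hξc.mul ((hξc.sub continuous_const).pow 2))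
          fun t => mul_ne_zero (hdne z₀ hz₀ t).1 (pow_ne_zero 2 (hdne z₀ hz₀ t).2.1))).mul (hGc z₀ hz₀)
        exact (hk'G.smul (f := fun t => k' z₀ t * G (u z₀ (ξ t))) continuous_const).aestronglyMeasurable
    · refine Eventually.of_forall fun t z hz => ?_
      have hdξ : ‖deriv ξ t‖ = R := by
        rw [deriv_circleMap, norm_mul, norm_I, mul_one]
        exact hξ t
      have hl := (hdne z hz t).2.2
      refine (norm_add_le _ _).trans (add_le_add ?_ ?_)
      · rw [norm_smul]
        refine mul_le_mul ?_ ((ContinuousLinearMap.opNorm_comp_le _ _).trans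
          (mul_le_mul_of_nonneg_right (hfd _ (humem z hz t)) (norm_nonneg _))) (norm_nonneg _) (by positivity)
        show ‖(2 * (Real.pi : ℂ) * I)⁻¹ * _‖ ≤ _
        rw [norm_mul, norm_div, norm_mul (ξ t), hdξ, hξ]
        gcongr
      · rw [norm_smul, norm_mul]
        refine mul_le_mul_of_nonneg_right (mul_le_mul ?_ (hM _ (closedBall_subset_closedBall hRle (humem z hz t)))
          (norm_nonneg _) (by positivity)) (norm_nonneg _)
        show ‖(2 * (Real.pi : ℂ) * I)⁻¹ * _‖ ≤ _
        rw [norm_mul, norm_div, norm_mul (ξ t), norm_pow, hdξ, hξ]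
        gcongr
    · refine Eventually.of_forall fun t z hz => ?_
      have h1 : HasFDerivAt (fun z => G (u z (ξ t))) ((fderiv ℂ G (u z (ξ t))).comp Lu) z :=
        (hGat _ (closedBall_subset_closedBall hRle (humem z hz t))).hasFDerivAt.comp (f := fun z => u z (ξ t)) z (hud z (ξ t))
      have hp : HasFDerivAt (fun z : ι → ℂ => ξ t - z i) (-ContinuousLinearMap.proj (R := ℂ) (φ := fun _ : ι => ℂ) i) z :=
        HasFDerivAt.const_sub (ContinuousLinearMap.proj (R := ℂ) (φ := fun _ : ι => ℂ) i).hasFDerivAt (ξ t)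
      have hne := (hdne z hz t).2.1
      have h2 : HasFDerivAt (fun z => k z t) (k' z t • ContinuousLinearMap.proj (R := ℂ) (φ := fun _ : ι => ℂ) i) z := by
        have h3 := (((hasDerivAt_inv hne).comp_hasFDerivAt z hp).const_mul ((2 * (Real.pi : ℂ) * I)⁻¹ * (deriv ξ t / ξ t)))
        refine (h3.congr_fderiv ?_).congr_of_eventuallyEq (Eventually.of_forall fun w => ?_)
        · ext v
          simp [k', div_eq_mul_inv]
          ring
        · simp [k, div_eq_mul_inv]
          ring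
      refine (h2.mul h1).congr_fderiv ?_
      ext v
      simp [F']
      ring
  refine ⟨r / 4, by linarith, by linarith, H, fun z hz => (hd z hz).differentiableWithinAt, fun z hz => ?_⟩
  let g : ℂ → ℂ := fun x => G (u z x)
  have hz' : ‖z‖ < r / 4 := mem_ball_zero_iff.mp hz
  have hgd : DifferentiableOn ℂ g (closedBall (0 : ℂ) R) := fun x hx => by
    have hmem : u z x ∈ closedBall (0 : ι → ℂ) R := hu (by linarith) (mem_closedBall_zero_iff.mp hx)
    exact ((hGat _ (closedBall_subset_closedBall hRle hmem)).comp (f := fun x => u z x) x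
      (hasFDerivAt_update (𝕜 := ℂ) z x).differentiableAt).differentiableWithinAt
  have hzi : z i ∈ ball (0 : ℂ) R := by
    rw [mem_ball_zero_iff]
    linarith [norm_le_pi_norm z i]
  have c1 := hgd.circleIntegral_sub_inv_smul hzi
  have c2 := hgd.circleIntegral_sub_inv_smul (mem_ball_self hR0 : (0 : ℂ) ∈ ball (0 : ℂ) R)
  have hH : z i * H z = (2 * (Real.pi : ℂ) * I)⁻¹ *
      ((∮ x in C(0, R), (x - z i)⁻¹ • g x) - ∮ x in C(0, R), (x - 0)⁻¹ • g x) := by
    have hi : ∀ w ∈ ball (0 : ℂ) R, CircleIntegrable (fun x => (x - w)⁻¹ • g x) 0 R := fun w hw =>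
      ContinuousOn.circleIntegrable hR0.le (((continuousOn_id.sub continuousOn_const).inv₀ fun x hx h0 => by
        rw [mem_sphere_zero_iff_norm] at hx
        have h0' : x = w := sub_eq_zero.mp h0
        rw [mem_ball_zero_iff, ← h0', hx] at hw
        exact lt_irrefl R hw).smul (hgd.continuousOn.mono sphere_subset_closedBall))
    rw [← circleIntegral.integral_sub (hi _ hzi) (hi _ (mem_ball_self hR0))]
    simp only [circleIntegral, H, intervalIntegral.integral_of_le Real.two_pi_pos.le]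
    rw [← integral_const_mul, ← integral_const_mul]
    refine integral_congr_ae (Eventually.of_forall fun t => ?_)
    obtain ⟨h0, h1, -⟩ := hdne z hz t
    simp only [F, k, g, smul_eq_mul, sub_zero]
    show z i * ((2 * (Real.pi : ℂ) * I)⁻¹ * (deriv ξ t / (ξ t * (ξ t - z i))) * G (u z (ξ t))) =
      (2 * (Real.pi : ℂ) * I)⁻¹ * (deriv ξ t * ((ξ t - z i)⁻¹ * G (u z (ξ t)) - (ξ t)⁻¹ * G (u z (ξ t))))
    field_simp
    ring
  rw [hH, c1, c2, smul_eq_mul, smul_eq_mul, ← mul_sub, inv_mul_cancel_left₀ Complex.two_pi_I_ne_zero]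
  simp [g, u]

/-- Hadamard's lemma. -/
theorem exists_sum_coord {r : ℝ} (hr : 0 < r) {G : (ι → ℂ) → ℂ} (hG : DifferentiableOn ℂ G (ball 0 r)) :
    ∃ r', 0 < r' ∧ r' ≤ r ∧ ∃ H : ι → (ι → ℂ) → ℂ, (∀ i, DifferentiableOn ℂ (H i) (ball 0 r')) ∧
      ∀ z ∈ ball (0 : ι → ℂ) r', G z = G 0 + ∑ i, z i * H i z := by
  suffices h : ∀ S : Finset ι, ∃ r', 0 < r' ∧ r' ≤ r ∧ ∃ H : ι → (ι → ℂ) → ℂ,
      (∀ i, DifferentiableOn ℂ (H i) (ball 0 r')) ∧
      ∀ z ∈ ball (0 : ι → ℂ) r', G z = G (fun j => if j ∈ S then 0 else z j) + ∑ i ∈ S, z i * H i z by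
    obtain ⟨r', h1, h2, H, h3, h4⟩ := h Finset.univ
    exact ⟨r', h1, h2, H, h3, fun z hz => by simpa [Pi.zero_def] using h4 z hz⟩
  intro S
  induction S using Finset.induction with
  | empty => exact ⟨r, hr, le_rfl, fun _ _ => 0, fun _ => differentiableOn_const 0, fun z _ => by simp⟩
  | insert i S hi ih =>
    obtain ⟨r₁, hr₁, hr₁', H, hHd, hHe⟩ := ih
    let p : (ι → ℂ) → (ι → ℂ) := fun z j => if j ∈ S then 0 else z j
    have hpd : Differentiable ℂ p := differentiable_pi.mpr fun j => by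
      by_cases hj : j ∈ S
      · simp only [p, hj, if_true]; exact differentiable_const 0
      · simp only [p, hj, if_false]; exact differentiable_apply j
    have hpm : ∀ {s : ℝ}, ∀ z ∈ ball (0 : ι → ℂ) s, p z ∈ ball (0 : ι → ℂ) s := fun z hz => by
      rw [mem_ball_zero_iff] at hz ⊢
      refine lt_of_le_of_lt ((pi_norm_le_iff_of_nonneg (norm_nonneg z)).mpr fun j => ?_) hz
      by_cases hj : j ∈ S <;> simp [p, hj, norm_le_pi_norm z j]
    obtain ⟨r₂, hr₂, hr₂', K, hKd, hKe⟩ :=
      exists_div_coord hr₁ ((hG.mono (ball_subset_ball hr₁')).comp hpd.differentiableOn fun z hz => hpm z hz) i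
    refine ⟨r₂, hr₂, hr₂'.trans hr₁', Function.update H i K, fun j => ?_, fun z hz => ?_⟩
    · by_cases hj : j = i
      · subst hj; simpa using hKd
      · simpa [Function.update_of_ne hj] using (hHd j).mono (ball_subset_ball hr₂')
    · rw [Finset.sum_insert hi, Function.update_self, hHe z (ball_subset_ball hr₂' hz), ← hKe z hz]
      have he : p (Function.update z i 0) = fun j => if j ∈ insert i S then 0 else z j := by
        funext j
        by_cases hj : j = i
        · subst hj; simp [p]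
        · simp [p, Finset.mem_insert, hj, Function.update_of_ne hj]
      have hsum : ∑ j ∈ S, z j * Function.update H i K j z = ∑ j ∈ S, z j * H j z :=
        Finset.sum_congr rfl fun j hj => by rw [Function.update_of_ne (ne_of_mem_of_not_mem hj hi)]
      rw [hsum]
      simp only [Function.comp_apply, he]
      show G (p z) + _ = _
      ring

end Groth.Agent.H05EGA4.AnHadamard
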