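import Groth.Prelude.Def_AnPts
import Mathlib

/-!
Basic properties of the space of `ℂ`-points of a scheme over `ℂ`.
-/

set_option autoImplicit false
set_option linter.style.haveILetI false
set_option linter.unusedSectionVars false

open AlgebraicGeometry CategoryTheory TopologicalSpace Topology Opposite An

noncomputable section

namespace Groth.Agent.H05EGA4.AnPts

variable {X Y : Scheme.{0}} [X.Over SC] [Y.Over SC]

/-- Evaluation at a point, as a ring homomorphism. -/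
def evHom (x : Pts X) (U : X.Opens) (h : x.pt ∈ U) : Γ(X, U) →+* ℂ :=
  (Scheme.ΓSpecIso (CommRingCat.of ℂ)).hom.hom.comp (x.1.appLE U ⊤ (Pts.top_le_preimage x h)).hom

theorem ev_eq (x : Pts X) (U : X.Opens) (h : x.pt ∈ U) (f : Γ(X, U)) : x.ev U h f = evHom x U h f := rfl

theorem ev_res (x : Pts X) {U V : X.Opens} (hVU : V ≤ U) (hV : x.pt ∈ V) (f : Γ(X, U)) :
    x.ev V hV (X.presheaf.map (homOfLE hVU).op f) = x.ev U (hVU hV) f := by
  show (Scheme.ΓSpecIso (CommRingCat.of ℂ)).hom ((X.presheaf.map (homOfLE hVU).op ≫ x.1.appLE V ⊤ _) f) = _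
  rw [Scheme.Hom.map_appLE]
  rfl

theorem mem_basicOpen_iff (x : Pts X) {U : X.Opens} (h : x.pt ∈ U) (g : Γ(X, U)) :
    x.pt ∈ X.basicOpen g ↔ x.ev U h g ≠ 0 := by
  set t : Γ(SC, ⊤) := x.1.appLE U ⊤ (Pts.top_le_preimage x h) g with ht
  have h1 : (x.pt ∈ X.basicOpen g) ↔ cpt ∈ SC.basicOpen t := by
    show cpt ∈ x.1 ⁻¹ᵁ X.basicOpen g ↔ _
    rw [Scheme.preimage_basicOpen, ht]
    simp only [Scheme.Hom.appLE, CommRingCat.comp_apply, Scheme.basicOpen_res]
    simp
  rw [h1, show x.ev U h g = (Scheme.ΓSpecIso (CommRingCat.of ℂ)).hom t from rfl]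
  constructor
  · intro hc h0
    have h' : t = 0 := (ConcreteCategory.bijective_of_isIso (Scheme.ΓSpecIso (CommRingCat.of ℂ)).hom).1 (h0.trans (map_zero _).symm)
    rw [h', Scheme.basicOpen_zero] at hc
    exact hc
  · intro h0
    have hu : IsUnit t := by
      have h2 := (isUnit_iff_ne_zero.mpr h0).map (Scheme.ΓSpecIso (CommRingCat.of ℂ)).inv.hom
      rwa [← CommRingCat.comp_apply, Iso.hom_inv_id] at h2
    rw [SC.basicOpen_of_isUnit hu]
    trivial

theorem evTop_eq (x : Pts X) (f : Γ(X, ⊤)) :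
    x.evTop f = (Scheme.ΓSpecIso (CommRingCat.of ℂ)).hom (x.1.appTop f) := by
  show (Scheme.ΓSpecIso (CommRingCat.of ℂ)).hom (x.1.appLE ⊤ ⊤ _ f) = _
  rw [Scheme.Hom.appTop, Scheme.Hom.app_eq_appLE]
  rfl

theorem evTop_strHom (x : Pts X) (c : ℂ) : x.evTop (strHom X c) = c := by
  rw [evTop_eq]
  show (Scheme.ΓSpecIso (CommRingCat.of ℂ)).hom (((X ↘ SC).appTop ≫ x.1.appTop) ((Scheme.ΓSpecIso (CommRingCat.of ℂ)).inv c)) = c
  rw [← Scheme.Hom.comp_appTop, x.2]
  exact (Scheme.ΓSpecIso (CommRingCat.of ℂ)).commRingCatIsoToRingEquiv.apply_symm_apply c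

theorem continuous_evTop (f : Γ(X, ⊤)) : Continuous fun x : Pts X => x.evTop f := by
  refine continuous_def.mpr fun V hV => ?_
  convert Pts.isOpen_basicSet ⊤ f hV using 1
  ext x
  exact ⟨fun h => ⟨trivial, h⟩, fun ⟨_, h⟩ => h⟩

theorem isInducing_of_forall {T : Type*} [TopologicalSpace T] (e : Pts X → T) (he : Continuous e)
    (h : ∀ (U : X.Opens) (f : Γ(X, U)) (V : Set ℂ), IsOpen V → ∀ x ∈ Pts.basicSet U f V,
      ∃ W : Set T, IsOpen W ∧ e x ∈ W ∧ e ⁻¹' W ⊆ Pts.basicSet U f V) : IsInducing e := by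
  refine ⟨le_antisymm he.le_induced (le_generateFrom ?_)⟩
  rintro _ ⟨U, f, V, hV, rfl⟩
  refine isOpen_induced_iff.mpr ⟨⋃₀ {W | IsOpen W ∧ e ⁻¹' W ⊆ Pts.basicSet U f V}, isOpen_sUnion fun W hW => hW.1, ?_⟩
  refine Set.Subset.antisymm ?_ fun x hx => ?_
  · rintro x ⟨W, hW, hx⟩
    exact hW.2 hx
  · obtain ⟨W, h1, h2, h3⟩ := h U f V hV x hx
    exact ⟨W, ⟨h1, h3⟩, h2⟩

/-- Inducing maps surjective on stalks give inducing maps on points. -/
theorem isInducing_map (f : X ⟶ Y) [f.IsOver SC] [SurjectiveOnStalks f] (hf : IsInducing f) :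
    IsInducing (Pts.map f) := by
  refine isInducing_of_forall _ (Pts.continuous_map f) fun V g W hW x hx => ?_
  obtain ⟨hxV, hxW⟩ := hx
  obtain ⟨t, ht⟩ := f.stalkMap_surjective x.pt (X.presheaf.germ V x.pt hxV g)
  obtain ⟨U, hxU, h, hh⟩ := Y.presheaf.exists_germ_eq t
  rw [← hh, Scheme.Hom.germ_stalkMap_apply] at ht
  obtain ⟨W', hxW', i1, i2, hres⟩ := TopCat.Presheaf.germ_eq X.presheaf x.pt _ _ _ _ ht
  obtain ⟨U', hU', hU''⟩ := hf.isOpen_iff.mp W'.2
  let U3 : Y.Opens := U ⊓ ⟨U', hU'⟩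
  have hmem : ∀ y : Pts X, (Pts.map f y).pt ∈ U3 ↔ f y.pt ∈ U ∧ y.pt ∈ W' := fun y => by
    rw [Pts.pt_map]
    show _ ∧ _ ↔ _
    rw [← SetLike.mem_coe (p := W'), show (W' : Set X) = f ⁻¹' U' from hU''.symm]
    rfl
  have hev : ∀ (y : Pts X) (hy : (Pts.map f y).pt ∈ U3),
      ∃ hyV : y.pt ∈ V, (Pts.map f y).ev U3 hy (Y.presheaf.map (homOfLE inf_le_left).op h) = y.ev V hyV g := by
    intro y hy
    obtain ⟨hyU, hyW⟩ := (hmem y).mp hy
    refine ⟨i2.le hyW, ?_⟩
    rw [ev_res (Pts.map f y) inf_le_left hy h, Pts.ev_map]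
    exact ((ev_res y i1.le hyW (f.app U h)).symm.trans (congrArg (y.ev W' hyW) hres)).trans
      (ev_res y i2.le hyW g)
  refine ⟨Pts.basicSet U3 (Y.presheaf.map (homOfLE inf_le_left).op h) W, Pts.isOpen_basicSet _ _ hW, ?_, ?_⟩
  · have hy : (Pts.map f x).pt ∈ U3 := (hmem x).mpr ⟨by rw [← Pts.pt_map]; rw [Pts.pt_map]; exact hxU, hxW'⟩
    obtain ⟨_, he⟩ := hev x hy
    exact ⟨hy, he ▸ hxW⟩
  · rintro y ⟨hy, hyW⟩
    obtain ⟨hyV, he⟩ := hev y hy
    exact ⟨hyV, he ▸ hyW⟩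

section LFT

variable [LocallyOfFiniteType (X ↘ SC)]

theorem pt_injective : Function.Injective (Pts.pt : Pts X → X) := fun x y h =>
  Subtype.ext (ext_of_apply_closedPoint_eq (X ↘ SC) x.2 y.2 (by
    rw [eq_cpt (IsLocalRing.closedPoint ℂ)]
    exact h))

theorem isClosed_pt (x : Pts X) : IsClosed ({x.pt} : Set X) := by
  have h := ((pointEquivClosedPoint (X ↘ SC)) ⟨x.1, x.2⟩).2
  rw [mem_closedPoints_iff] at h
  show IsClosed ({x.1 cpt} : Set X)
  rw [← eq_cpt (IsLocalRing.closedPoint ℂ)]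
  exact h

theorem exists_pts {p : X} (hp : IsClosed ({p} : Set X)) : ∃ x : Pts X, x.pt = p :=
  ⟨⟨pointOfClosedPoint (X ↘ SC) p hp, pointOfClosedPoint_comp _ p hp⟩, pointOfClosedPoint_apply _ p hp _⟩

theorem exists_pts_mem {S : Set X} (hS : IsLocallyClosed S) (hne : S.Nonempty) : ∃ x : Pts X, x.pt ∈ S := by
  haveI : JacobsonSpace X := LocallyOfFiniteType.jacobsonSpace (X ↘ SC)
  obtain ⟨p, hpS, hp⟩ := nonempty_inter_closedPoints hne hS
  obtain ⟨x, rfl⟩ := exists_pts (mem_closedPoints_iff.mp hp)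
  exact ⟨x, hpS⟩

theorem map_injective_of_injective (f : X ⟶ Y) [f.IsOver SC] (hf : Function.Injective f) :
    Function.Injective (Pts.map f) := fun x y h => pt_injective (hf (by rw [← Pts.pt_map, ← Pts.pt_map, h]))

variable [LocallyOfFiniteType (Y ↘ SC)]

theorem range_map (f : X ⟶ Y) [f.IsOver SC] (hf : Function.Injective f) :
    Set.range (Pts.map f) = Pts.pt ⁻¹' Set.range f := by
  refine Set.Subset.antisymm ?_ fun y hy => ?_
  · rintro _ ⟨x, rfl⟩
    exact ⟨x.pt, (Pts.pt_map f x).symm⟩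
  · obtain ⟨p, hp⟩ := hy
    have hcl : IsClosed ({p} : Set X) := by
      have h := (isClosed_pt y).preimage f.continuous
      convert h using 1
      ext q
      simp only [Set.mem_preimage, Set.mem_singleton_iff, ← hp, hf.eq_iff]
    obtain ⟨x, rfl⟩ := exists_pts hcl
    exact ⟨x, pt_injective (by rw [Pts.pt_map, hp])⟩

theorem isEmbedding_map (f : X ⟶ Y) [f.IsOver SC] [IsPreimmersion f] : IsEmbedding (Pts.map f) :=
  ⟨isInducing_map f f.isEmbedding.isInducing, map_injective_of_injective f f.isEmbedding.injective⟩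

theorem isOpenEmbedding_map (f : X ⟶ Y) [f.IsOver SC] [IsOpenImmersion f] : IsOpenEmbedding (Pts.map f) :=
  ⟨isEmbedding_map f, by
    rw [range_map f f.isOpenEmbedding.injective]
    exact f.isOpenEmbedding.isOpen_range.preimage Pts.continuous_pt⟩

theorem isClosedEmbedding_map (f : X ⟶ Y) [f.IsOver SC] [IsClosedImmersion f] : IsClosedEmbedding (Pts.map f) :=
  ⟨isEmbedding_map f, by
    rw [range_map f f.isClosedEmbedding.injective]
    exact f.isClosedEmbedding.isClosed_range.preimage Pts.continuous_pt⟩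

end LFT

section Affine

variable [IsAffine X]

theorem exists_pts_of_hom (φ : Γ(X, ⊤) →+* ℂ) (hφ : ∀ c, φ (strHom X c) = c) :
    ∃ x : Pts X, ∀ f, x.evTop f = φ f := by
  let x₀ : SC ⟶ X := Spec.map (CommRingCat.ofHom φ) ≫ X.isoSpec.inv
  have hx : x₀.appTop = CommRingCat.ofHom φ ≫ (Scheme.ΓSpecIso (CommRingCat.of ℂ)).inv := by
    rw [Scheme.Hom.comp_appTop, show X.isoSpec.inv.appTop = (Scheme.ΓSpecIso Γ(X, ⊤)).inv from by
      rw [← cancel_mono (Scheme.ΓSpecIso Γ(X, ⊤)).hom, Iso.inv_hom_id, ← Scheme.toSpecΓ_appTop, ← Scheme.Hom.comp_appTop,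
        Scheme.toSpecΓ_isoSpec_inv, Scheme.Hom.id_appTop]]
    exact (Scheme.ΓSpecIso_inv_naturality (CommRingCat.ofHom φ)).symm
  refine ⟨⟨x₀, ext_of_isAffine ?_⟩, fun f => ?_⟩
  · rw [Scheme.Hom.comp_appTop, hx, Scheme.Hom.id_appTop]
    ext t
    show (Scheme.ΓSpecIso (CommRingCat.of ℂ)).inv (φ ((X ↘ SC).appTop t)) = t
    conv_lhs => rw [← (Scheme.ΓSpecIso (CommRingCat.of ℂ)).commRingCatIsoToRingEquiv.symm_apply_apply t]
    refine Eq.trans (congrArg (Scheme.ΓSpecIso (CommRingCat.of ℂ)).inv (hφ _)) ?_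
    exact (Scheme.ΓSpecIso (CommRingCat.of ℂ)).commRingCatIsoToRingEquiv.symm_apply_apply t
  · rw [evTop_eq]
    show (Scheme.ΓSpecIso (CommRingCat.of ℂ)).hom (x₀.appTop f) = _
    rw [hx]
    exact (Scheme.ΓSpecIso (CommRingCat.of ℂ)).commRingCatIsoToRingEquiv.apply_symm_apply (φ f)

theorem pts_ext {x y : Pts X} (h : ∀ f, x.evTop f = y.evTop f) : x = y := by
  refine Subtype.ext (ext_of_isAffine ?_)
  ext f
  apply (ConcreteCategory.bijective_of_isIso (Scheme.ΓSpecIso (CommRingCat.of ℂ)).hom).1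
  rw [← evTop_eq, ← evTop_eq, h]

variable {ι : Type*} (s : ι → Γ(X, ⊤))

theorem evTop_eval₂ (x : Pts X) (P : MvPolynomial ι ℂ) :
    x.evTop (MvPolynomial.eval₂Hom (strHom X) s P) = MvPolynomial.eval (fun i => x.evTop (s i)) P := by
  have h : (evHom x ⊤ (Opens.mem_top _)).comp (MvPolynomial.eval₂Hom (strHom X) s) =
      MvPolynomial.eval (fun i => x.evTop (s i)) :=
    MvPolynomial.ringHom_ext (fun c => by
        rw [RingHom.comp_apply, MvPolynomial.eval₂Hom_C, MvPolynomial.eval_C]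
        exact evTop_strHom x c)
      (fun i => by
        rw [RingHom.comp_apply, MvPolynomial.eval₂Hom_X', MvPolynomial.eval_X]
        rfl)
  exact RingHom.congr_fun h P

theorem isClosedEmbedding_evTop (hs : Function.Surjective (MvPolynomial.eval₂Hom (strHom X) s)) :
    IsClosedEmbedding (fun (x : Pts X) (i : ι) => x.evTop (s i)) := by
  set e := fun (x : Pts X) (i : ι) => x.evTop (s i) with he
  set Φ := MvPolynomial.eval₂Hom (strHom X) s
  have hcont : Continuous e := continuous_pi fun i => continuous_evTop (s i)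
  refine ⟨⟨isInducing_of_forall e hcont fun U f V hV x hx => ?_, fun x y h => pts_ext fun f => ?_⟩, ?_⟩
  · obtain ⟨hxU, hxV⟩ := hx
    obtain ⟨g, hgU, hxg⟩ := (isAffineOpen_top X).exists_basicOpen_le ⟨x.pt, hxU⟩ (Opens.mem_top _)
    haveI := (isAffineOpen_top X).isLocalization_basicOpen g
    obtain ⟨n, a, ha⟩ := IsLocalization.Away.surj g (X.presheaf.map (homOfLE hgU).op f)
    obtain ⟨P, hP⟩ := hs a
    obtain ⟨Q, hQ⟩ := hs g
    let D : Set (ι → ℂ) := {z | MvPolynomial.eval z Q ≠ 0}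
    let r : (ι → ℂ) → ℂ := fun z => MvPolynomial.eval z P / MvPolynomial.eval z Q ^ n
    have hD : IsOpen D := isOpen_ne_fun (MvPolynomial.continuous_eval Q) continuous_const
    have hr : ContinuousOn r D := (MvPolynomial.continuous_eval P).continuousOn.div
      ((MvPolynomial.continuous_eval Q).pow n).continuousOn fun z hz => pow_ne_zero n hz
    have hev : ∀ y : Pts X, e y ∈ D → ∃ hy : y.pt ∈ U, y.ev U hy f = r (e y) := by
      intro y hy
      have hq : y.evTop g ≠ 0 := by rw [← hQ, evTop_eval₂]; exact hy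
      have hyg : y.pt ∈ X.basicOpen g := (mem_basicOpen_iff y _ g).mpr hq
      refine ⟨hgU hyg, ?_⟩
      have h1 := congrArg (evHom y (X.basicOpen g) hyg) ha
      have hres : ∀ b : Γ(X, ⊤), evHom y (X.basicOpen g) hyg (algebraMap Γ(X, ⊤) Γ(X, X.basicOpen g) b) = y.evTop b :=
        fun b => ev_res y (X.basicOpen_le g) hyg b
      rw [map_mul, map_pow, hres, hres, ← ev_eq, ev_res, ← hP, ← hQ, evTop_eval₂, evTop_eval₂] at h1
      exact eq_div_of_mul_eq (pow_ne_zero n hy) h1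
    have hxD : e x ∈ D := by
      show MvPolynomial.eval (fun i => x.evTop (s i)) Q ≠ 0
      rw [← evTop_eval₂, show MvPolynomial.eval₂Hom (strHom X) s Q = g from hQ]
      exact (mem_basicOpen_iff x _ g).mp hxg
    refine ⟨D ∩ r ⁻¹' V, hr.isOpen_inter_preimage hD hV, ⟨hxD, ?_⟩, fun y hy => ?_⟩
    · obtain ⟨_, h⟩ := hev x hxD
      show r (e x) ∈ V
      rw [← h]
      exact hxV
    · obtain ⟨hyU, h⟩ := hev y hy.1
      exact ⟨hyU, h ▸ hy.2⟩
  · obtain ⟨P, rfl⟩ := hs f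
    rw [evTop_eval₂, evTop_eval₂, show (fun i => x.evTop (s i)) = fun i => y.evTop (s i) from h]
  · have hrange : Set.range e = ⋂ (P : MvPolynomial ι ℂ) (_ : Φ P = 0), {z | MvPolynomial.eval z P = 0} := by
      refine Set.Subset.antisymm ?_ fun z hz => ?_
      · rintro _ ⟨x, rfl⟩
        simp only [Set.mem_iInter]
        intro P hP
        show MvPolynomial.eval (fun i => x.evTop (s i)) P = 0
        rw [← evTop_eval₂, show MvPolynomial.eval₂Hom (strHom X) s P = 0 from hP]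
        exact map_zero (evHom x ⊤ (Opens.mem_top _))
      · simp only [Set.mem_iInter] at hz
        let φ := (RingHom.liftOfSurjective Φ hs) ⟨MvPolynomial.eval z, fun P hP => hz P hP⟩
        have hφ : ∀ P, φ (Φ P) = MvPolynomial.eval z P := fun P => RingHom.liftOfRightInverse_comp_apply _ _ _ _ P
        obtain ⟨x, hx⟩ := exists_pts_of_hom φ fun c => by
          rw [← MvPolynomial.eval₂Hom_C (strHom X) s c]
          exact (hφ _).trans (MvPolynomial.eval_C _)
        refine ⟨x, funext fun i => ?_⟩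
        show x.evTop (s i) = z i
        rw [hx, ← MvPolynomial.eval₂Hom_X' (strHom X) s i]
        exact (hφ _).trans (MvPolynomial.eval_X _)
    rw [hrange]
    exact isClosed_iInter fun P => isClosed_iInter fun _ => isClosed_eq (MvPolynomial.continuous_eval P) continuous_const

theorem exists_generators [LocallyOfFiniteType (X ↘ SC)] :
    ∃ (n : ℕ) (s : Fin n → Γ(X, ⊤)), Function.Surjective (MvPolynomial.eval₂Hom (strHom X) s) := by
  letI : Algebra ℂ Γ(X, ⊤) := (strHom X).toAlgebra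
  have hft : (strHom X).FiniteType :=
    ((HasRingHomProperty.appTop (P := @LocallyOfFiniteType) (X ↘ SC) inferInstance).comp
      (RingHom.FiniteType.of_surjective _ (ConcreteCategory.bijective_of_isIso (Scheme.ΓSpecIso (CommRingCat.of ℂ)).inv).2))
  haveI : Algebra.FiniteType ℂ Γ(X, ⊤) := hft
  obtain ⟨n, f, hf⟩ := Algebra.FiniteType.iff_quotient_mvPolynomial''.mp (inferInstance : Algebra.FiniteType ℂ Γ(X, ⊤))
  refine ⟨n, fun i => f (MvPolynomial.X i), ?_⟩
  have : (MvPolynomial.eval₂Hom (strHom X) fun i => f (MvPolynomial.X i)) = f.toRingHom :=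
    MvPolynomial.ringHom_ext (fun c => by rw [MvPolynomial.eval₂Hom_C]; exact (f.commutes c).symm)
      (fun i => by rw [MvPolynomial.eval₂Hom_X']; rfl)
  rw [this]
  exact hf

end Affine

end Groth.Agent.H05EGA4.AnPts
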