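import Groth.Prelude.Def_AnHol
import Groth.Agent.H05EGA4.An.Pts
import Mathlib

/-!
Holomorphic functions on the points of affine space.
-/

set_option autoImplicit false
set_option linter.style.haveILetI false

open AlgebraicGeometry CategoryTheory TopologicalSpace Topology Opposite An

noncomputable section

namespace Groth.Agent.H05EGA4.AnHol

open AnPts

theorem differentiable_eval {ι : Type*} [Fintype ι] (P : MvPolynomial ι ℂ) :
    Differentiable ℂ fun z : ι → ℂ => MvPolynomial.eval z P := by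
  induction P using MvPolynomial.induction_on with
  | C a => simp only [MvPolynomial.eval_C]; exact differentiable_const a
  | add p q hp hq => simp only [map_add]; exact hp.add hq
  | mul_X p i hp => simp only [map_mul, MvPolynomial.eval_X]; exact hp.mul (differentiable_apply i)

variable {X : Scheme.{0}} [X.Over SC] [IsAffine X] {ι : Type*} [Fintype ι] {s : ι → Γ(X, ⊤)}

/-- Sections are, locally on the points, rational functions of generators. -/
theorem exists_local_rational (hs : Function.Surjective (MvPolynomial.eval₂Hom (strHom X) s))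
    (U : X.Opens) (f : Γ(X, U)) (x : Pts X) (hx : x.pt ∈ U) :
    ∃ (D : Set (ι → ℂ)) (r : (ι → ℂ) → ℂ), IsOpen D ∧ DifferentiableOn ℂ r D ∧ (fun i => x.evTop (s i)) ∈ D ∧
      ∀ y : Pts X, (fun i => y.evTop (s i)) ∈ D → ∀ hy : y.pt ∈ U, y.ev U hy f = r (fun i => y.evTop (s i)) := by
  obtain ⟨g, hgU, hxg⟩ := (isAffineOpen_top X).exists_basicOpen_le ⟨x.pt, hx⟩ (Opens.mem_top _)
  haveI := (isAffineOpen_top X).isLocalization_basicOpen g
  obtain ⟨n, a, ha⟩ := IsLocalization.Away.surj g (X.presheaf.map (homOfLE hgU).op f)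
  obtain ⟨P, hP⟩ := hs a
  obtain ⟨Q, hQ⟩ := hs g
  refine ⟨{z | MvPolynomial.eval z Q ≠ 0}, fun z => MvPolynomial.eval z P / MvPolynomial.eval z Q ^ n,
    isOpen_ne_fun (MvPolynomial.continuous_eval Q) continuous_const,
    fun z hz => DifferentiableWithinAt.mul ((differentiable_eval P).differentiableAt.differentiableWithinAt)
      (((differentiable_eval Q).differentiableAt.differentiableWithinAt.fun_pow n).fun_inv (pow_ne_zero n hz)),
    ?_, fun y hy hyU => ?_⟩
  · show MvPolynomial.eval (fun i => x.evTop (s i)) Q ≠ 0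
    rw [← evTop_eval₂, hQ]
    exact (mem_basicOpen_iff x _ g).mp hxg
  · have hq : y.evTop g ≠ 0 := by rw [← hQ, evTop_eval₂]; exact hy
    have hyg : y.pt ∈ X.basicOpen g := (mem_basicOpen_iff y _ g).mpr hq
    have h1 := congrArg (evHom y (X.basicOpen g) hyg) ha
    have hres : ∀ b : Γ(X, ⊤), evHom y (X.basicOpen g) hyg (algebraMap Γ(X, ⊤) Γ(X, X.basicOpen g) b) = y.evTop b :=
      fun b => AnPts.ev_res y (X.basicOpen_le g) hyg b
    rw [map_mul, map_pow, hres, hres, ← ev_eq, AnPts.ev_res, ← hP, ← hQ, evTop_eval₂, evTop_eval₂] at h1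
    exact eq_div_of_mul_eq (pow_ne_zero n hy) h1

/-- Functions in the chart algebra are, locally, differentiable functions of generators. -/
theorem exists_local_differentiable (hs : Function.Surjective (MvPolynomial.eval₂Hom (strHom X) s))
    {V : Opens (top X)} {f : V → ℂ} (hf : f ∈ chartAlg V) (x₀ : V) :
    ∃ (D : Set (ι → ℂ)) (r : (ι → ℂ) → ℂ), IsOpen D ∧ DifferentiableOn ℂ r D ∧
      (fun i => Pts.evTop x₀.1 (s i)) ∈ D ∧
      ∀ y : V, (fun i => Pts.evTop y.1 (s i)) ∈ D → f y = r (fun i => Pts.evTop y.1 (s i)) := by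
  induction hf using Algebra.adjoin_induction with
  | mem g hg =>
    obtain ⟨W, hW, n, a, V', G, hV', hG, h⟩ := hg
    choose D r hD hr hx hy using fun j => exists_local_rational hs W (a j) x₀.1 (hW x₀)
    have hR : DifferentiableOn ℂ (fun z j => r j z) (⋂ j, D j) :=
      differentiableOn_pi.mpr fun j => (hr j).mono (Set.iInter_subset _ j)
    refine ⟨(⋂ j, D j) ∩ (fun z j => r j z) ⁻¹' V', fun z => G fun j => r j z,
      hR.continuousOn.isOpen_inter_preimage (isOpen_iInter_of_finite hD) hV',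
      hG.comp (hR.mono Set.inter_subset_left) fun z hz => hz.2, ⟨Set.mem_iInter.mpr hx, ?_⟩, fun y hyD => ?_⟩
    · show (fun j => r j fun i => Pts.evTop x₀.1 (s i)) ∈ V'
      rw [show (fun j => r j fun i => Pts.evTop x₀.1 (s i)) = fun j => Pts.ev x₀.1 W (hW x₀) (a j) from
        funext fun j => (hy j x₀.1 (hx j) _).symm]
      exact (h x₀).1
    · rw [(h y).2]
      exact congrArg G (funext fun j => hy j y.1 (Set.mem_iInter.mp hyD.1 j) _)
  | algebraMap c => exact ⟨Set.univ, fun _ => c, isOpen_univ, differentiableOn_const c, trivial, fun _ _ => rfl⟩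
  | add p q _ _ hp hq =>
    obtain ⟨D, r, hD, hr, hx, hy⟩ := hp
    obtain ⟨D', r', hD', hr', hx', hy'⟩ := hq
    exact ⟨D ∩ D', fun z => r z + r' z, hD.inter hD', (hr.mono Set.inter_subset_left).add (hr'.mono Set.inter_subset_right),
      ⟨hx, hx'⟩, fun y h => congrArg₂ (· + ·) (hy y h.1) (hy' y h.2)⟩
  | mul p q _ _ hp hq =>
    obtain ⟨D, r, hD, hr, hx, hy⟩ := hp
    obtain ⟨D', r', hD', hr', hx', hy'⟩ := hq
    exact ⟨D ∩ D', fun z => r z * r' z, hD.inter hD', (hr.mono Set.inter_subset_left).mul (hr'.mono Set.inter_subset_right),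
      ⟨hx, hx'⟩, fun y h => congrArg₂ (· * ·) (hy y h.1) (hy' y h.2)⟩

theorem bijective_coord (n : ℕ) :
    Function.Bijective (MvPolynomial.eval₂Hom (strHom (𝔸(Fin n; SC))) (AffineSpace.coord SC)) := by
  have h := AffineSpace.SpecIso_hom_appTop (n := Fin n) (CommRingCat.of ℂ)
  have h1 : CommRingCat.ofHom (MvPolynomial.eval₂Hom (strHom (𝔸(Fin n; SC))) (AffineSpace.coord SC)) =
      (Scheme.ΓSpecIso _).inv ≫ (AffineSpace.SpecIso (Fin n) (CommRingCat.of ℂ)).hom.appTop := by
    rw [h, Iso.inv_hom_id_assoc]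
    rfl
  haveI hi : IsIso (AffineSpace.SpecIso (Fin n) (CommRingCat.of ℂ)).hom.appTop :=
    inferInstanceAs (IsIso (Scheme.Γ.map (AffineSpace.SpecIso (Fin n) (CommRingCat.of ℂ)).hom.op))
  haveI := IsIso.comp_isIso' (inferInstance : IsIso (Scheme.ΓSpecIso _).inv) hi
  have h2 := ConcreteCategory.bijective_of_isIso
    ((Scheme.ΓSpecIso _).inv ≫ (AffineSpace.SpecIso (Fin n) (CommRingCat.of ℂ)).hom.appTop)
  rw [← h1] at h2
  exact h2

theorem isHomeomorph_coord (n : ℕ) :
    IsHomeomorph fun (x : Pts (𝔸(Fin n; SC))) (i : Fin n) => x.evTop (AffineSpace.coord SC i) := by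
  refine isHomeomorph_iff_isEmbedding_surjective.mpr ⟨(isClosedEmbedding_evTop _ (bijective_coord n).2).isEmbedding,
    fun z => ?_⟩
  let e := RingEquiv.ofBijective _ (bijective_coord n)
  obtain ⟨x, hx⟩ := exists_pts_of_hom ((MvPolynomial.eval z).comp e.symm.toRingHom) fun c => by
    have h : e (MvPolynomial.C c) = strHom _ c := MvPolynomial.eval₂Hom_C _ _ _
    simp [← h]
  refine ⟨x, funext fun i => ?_⟩
  have h : e (MvPolynomial.X i) = AffineSpace.coord SC i := MvPolynomial.eval₂Hom_X' _ _ _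
  simp [hx, ← h]

theorem holomorphic_affineSpace_iff (n : ℕ) (U : Opens (Pts (𝔸(Fin n; SC)))) (g : U → ℂ) :
    (holPred (𝔸(Fin n; SC))).pred g ↔
      ∃ G : (Fin n → ℂ) → ℂ,
        DifferentiableOn ℂ G ((fun (x : Pts (𝔸(Fin n; SC))) (i : Fin n) =>
          x.evTop (AffineSpace.coord SC i)) '' (U : Set (Pts (𝔸(Fin n; SC))))) ∧
        ∀ x : U, g x = G (fun i => (x : Pts (𝔸(Fin n; SC))).evTop (AffineSpace.coord SC i)) := by
  set e := fun (x : Pts (𝔸(Fin n; SC))) (i : Fin n) => x.evTop (AffineSpace.coord SC i) with he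
  have hom := isHomeomorph_coord n
  constructor
  · intro hg
    have hinj : Function.Injective fun x : U => e x := hom.injective.comp Subtype.val_injective
    refine ⟨Function.extend (fun x : U => e x) g 0, ?_, fun x => (hinj.extend_apply g 0 x).symm⟩
    rintro _ ⟨x, hx, rfl⟩
    obtain ⟨V, hxV, i, hV⟩ := hg ⟨x, hx⟩
    obtain ⟨D, r, hD, hr, hxD, hy⟩ := exists_local_differentiable (bijective_coord n).2 hV ⟨x, hxV⟩
    have hN : e '' V.1 ∩ D ∈ 𝓝 (e x) :=
      ((hom.isOpenMap _ V.2).inter hD).mem_nhds ⟨⟨x, hxV, rfl⟩, hxD⟩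
    refine DifferentiableAt.differentiableWithinAt (((hr _ hxD).differentiableAt (hD.mem_nhds hxD)).congr_of_eventuallyEq ?_)
    filter_upwards [hN]
    rintro z ⟨⟨y, hyV, rfl⟩, hyD⟩
    exact (hinj.extend_apply g 0 (i ⟨y, hyV⟩)).trans (hy ⟨y, hyV⟩ hyD)
  · rintro ⟨G, hG, h⟩
    refine holPred_of_chartAlg (Algebra.subset_adjoin ?_)
    exact ⟨⊤, fun x => Opens.mem_top _, n, AffineSpace.coord SC, e '' (U : Set (Pts (𝔸(Fin n; SC)))), G,
      hom.isOpenMap _ U.2, hG, fun x => ⟨⟨x.1, x.2, rfl⟩, h x⟩⟩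

end Groth.Agent.H05EGA4.AnHol
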