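import Groth.Prelude.Def_AnHol
import Groth.Agent.H05EGA4.An.Pts
import Groth.Agent.H05EGA4.An.Hol
import Groth.Agent.H05EGA4.An.Hadamard
import Groth.Agent.H05EGA4.An.AlgOrder
import Mathlib

/-!
The local rings of the sheaf of holomorphic functions on the complex points.
-/

set_option autoImplicit false
set_option linter.style.haveILetI false
set_option linter.unusedSectionVars false

open AlgebraicGeometry CategoryTheory CategoryTheory.Limits TopologicalSpace Topology Opposite An Filter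

noncomputable section

namespace Groth.Agent.H05EGA4.AnGerm

open AnPts

variable {X : Scheme.{0}} [X.Over SC] [LocallyOfFiniteType (X ↘ SC)]

/-- The constants in the sections over an open set. -/
def cst (U : X.Opens) : ℂ →+* Γ(X, U) := (X.presheaf.map (homOfLE le_top).op).hom.comp (strHom X)

theorem ev_cst (y : Pts X) (U : X.Opens) (hy : y.pt ∈ U) (c : ℂ) : y.ev U hy (cst U c) = c :=
  (AnPts.ev_res y le_top hy (strHom X c)).trans (evTop_strHom y c)

/-- An affine chart at a point. -/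
structure Chart (x : Pts X) where
  U : X.Opens
  affine : IsAffineOpen U
  mem : x.pt ∈ U
  n : ℕ
  s : Fin n → Γ(X, U)
  surj : Function.Surjective (MvPolynomial.eval₂Hom (cst U) s)
  nhds : ∀ V : Set (Pts X), IsOpen V → x ∈ V → ∃ δ > (0 : ℝ), ∀ (y : Pts X) (hy : y.pt ∈ U),
    ‖(fun i => y.ev U hy (s i)) - fun i => x.ev U mem (s i)‖ < δ → y ∈ V
  hom : ∀ ψ : Γ(X, U) →+* ℂ, (∀ c, ψ (cst U c) = c) → ∃ (y : Pts X) (hy : y.pt ∈ U), ∀ f, y.ev U hy f = ψ f

theorem exists_chart_on {U : X.Opens} (hU : IsAffineOpen U) (x : Pts X) (hx : x.pt ∈ U) :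
    ∃ c : Chart x, c.U = U := by
  letI : U.toScheme.Over SC := ⟨U.ι ≫ X ↘ SC⟩
  haveI : U.ι.IsOver SC := ⟨rfl⟩
  haveI : LocallyOfFiniteType (U.toScheme ↘ SC) := inferInstanceAs (LocallyOfFiniteType (U.ι ≫ X ↘ SC))
  haveI : IsAffine U.toScheme := hU
  have hle : (⊤ : U.toScheme.Opens) ≤ U.ι ⁻¹ᵁ U := by rw [U.ι_preimage_self]
  let ρ : Γ(X, U) →+* Γ(U.toScheme, ⊤) := (U.ι.appLE U ⊤ hle).hom
  haveI hiso : IsIso (U.ι.appLE U ⊤ hle) := by
    rw [Scheme.Opens.ι_appLE]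
    have : (U.ι ''ᵁ ⊤) = U := U.ι_image_top
    refine @Functor.map_isIso _ _ _ _ _ _ _ _ ?_
    exact ⟨⟨(homOfLE this.ge).op, Subsingleton.elim _ _, Subsingleton.elim _ _⟩⟩
  have hρ : Function.Bijective ρ := ConcreteCategory.bijective_of_isIso (U.ι.appLE U ⊤ hle)
  have hpt : ∀ y' : Pts U.toScheme, (Pts.map U.ι y').pt ∈ U := fun y' => by
    rw [Pts.pt_map]; exact y'.pt.2
  have hev : ∀ (y' : Pts U.toScheme) (f : Γ(X, U)), (Pts.map U.ι y').ev U (hpt y') f = y'.evTop (ρ f) := fun y' f => by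
    show (Scheme.ΓSpecIso (CommRingCat.of ℂ)).hom ((y'.1 ≫ U.ι).appLE U ⊤ _ f) =
      (Scheme.ΓSpecIso (CommRingCat.of ℂ)).hom (y'.1.appLE ⊤ ⊤ _ (U.ι.appLE U ⊤ hle f))
    rw [← Scheme.Hom.appLE_comp_appLE]
    rfl
  have hcst : ∀ c, ρ (cst U c) = strHom U.toScheme c := fun c => by
    show (X.presheaf.map (homOfLE le_top).op ≫ U.ι.appLE U ⊤ hle) (strHom X c) = _
    rw [Scheme.Hom.map_appLE]
    show _ = ((U.ι ≫ (X ↘ SC)).appTop) _
    rw [Scheme.Hom.comp_appTop, CommRingCat.comp_apply]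
    simp [strHom, Scheme.Hom.appTop, Scheme.Hom.app_eq_appLE]
  obtain ⟨n, t, ht⟩ := exists_generators (X := U.toScheme)
  choose s hs using fun i => hρ.2 (t i)
  have hrange : ∀ y : Pts X, y.pt ∈ U → ∃ y' : Pts U.toScheme, Pts.map U.ι y' = y := fun y hy => by
    have h := range_map U.ι U.ι.isOpenEmbedding.injective
    rw [Scheme.Opens.range_ι] at h
    exact h.ge hy
  obtain ⟨x', rfl⟩ := hrange x hx
  have he : ∀ y' : Pts U.toScheme, (fun i => (Pts.map U.ι y').ev U (hpt y') (s i)) = fun i => y'.evTop (t i) :=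
    fun y' => funext fun i => by rw [hev, hs]
  refine ⟨{ U := U, affine := hU, mem := hx, n := n, s := s, surj := fun f => ?_, nhds := fun V hV hxV => ?_,
            hom := fun ψ hψ => ?_ }, rfl⟩
  · obtain ⟨P, hP⟩ := ht (ρ f)
    refine ⟨P, hρ.1 ?_⟩
    rw [← hP, ← RingHom.comp_apply]
    congr 1
    exact MvPolynomial.ringHom_ext (fun c => by simp [hcst]) fun i => by simp [hs]
  · obtain ⟨W, hW, hWV⟩ := (isClosedEmbedding_evTop t ht).isEmbedding.isInducing.isOpen_iff.mp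
      (hV.preimage (Pts.continuous_map U.ι))
    have hxW : x' ∈ (fun (z : Pts U.toScheme) (i : Fin n) => z.evTop (t i)) ⁻¹' W := hWV.symm ▸ hxV
    obtain ⟨δ, hδ, hball⟩ := Metric.isOpen_iff.mp hW _ hxW
    refine ⟨δ, hδ, fun y hy hyd => ?_⟩
    obtain ⟨y', rfl⟩ := hrange y hy
    have h1 : y' ∈ (fun (z : Pts U.toScheme) (i : Fin n) => z.evTop (t i)) ⁻¹' W := hball (by
      rw [Metric.mem_ball, dist_eq_norm]
      show ‖(fun i => y'.evTop (t i)) - fun i => x'.evTop (t i)‖ < δ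
      rw [← he, ← he]
      exact hyd)
    exact hWV.le h1
  · let e := RingEquiv.ofBijective ρ hρ
    obtain ⟨y', hy'⟩ := exists_pts_of_hom (X := U.toScheme) (ψ.comp e.symm.toRingHom) fun c => by
      rw [← hcst, RingHom.comp_apply]
      exact (congrArg ψ (e.symm_apply_apply (cst U c))).trans (hψ c)
    exact ⟨_, hpt y', fun f => (hev y' f).trans ((hy' _).trans (congrArg ψ (e.symm_apply_apply f)))⟩

theorem exists_chart (x : Pts X) : Nonempty (Chart x) := by
  obtain ⟨U, hU, hx, -⟩ := exists_isAffineOpen_mem_and_subset (x := x.pt) (U := (⊤ : X.Opens)) trivial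
  obtain ⟨c, -⟩ := exists_chart_on hU x hx
  exact ⟨c⟩

variable {x : Pts X} (κ : Chart x)

namespace Chart

/-- The coordinates of a point. -/
def e (y : Pts X) : Fin κ.n → ℂ := fun i => by
  classical exact if h : y.pt ∈ κ.U then y.ev κ.U h (κ.s i) else 0

theorem e_eq (y : Pts X) (h : y.pt ∈ κ.U) : κ.e y = fun i => y.ev κ.U h (κ.s i) := funext fun i => dif_pos h

theorem ev_eval₂ (y : Pts X) (h : y.pt ∈ κ.U) (P : MvPolynomial (Fin κ.n) ℂ) :
    y.ev κ.U h (MvPolynomial.eval₂Hom (cst κ.U) κ.s P) = MvPolynomial.eval (κ.e y) P := by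
  have hh : (evHom y κ.U h).comp (MvPolynomial.eval₂Hom (cst κ.U) κ.s) = MvPolynomial.eval (κ.e y) :=
    MvPolynomial.ringHom_ext (fun c => by
        rw [RingHom.comp_apply, MvPolynomial.eval₂Hom_C, MvPolynomial.eval_C]
        exact ev_cst y κ.U h c)
      (fun i => by
        rw [RingHom.comp_apply, MvPolynomial.eval₂Hom_X', MvPolynomial.eval_X, e_eq κ y h]
        rfl)
  exact RingHom.congr_fun hh P

/-- Sections are, locally on the points, rational functions of the coordinates. -/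
theorem exists_local_rational (W : X.Opens) (f : Γ(X, W)) (x₀ : Pts X) (hx₀ : x₀.pt ∈ W) (hxU : x₀.pt ∈ κ.U) :
    ∃ (D : Set (Fin κ.n → ℂ)) (r : (Fin κ.n → ℂ) → ℂ), IsOpen D ∧ DifferentiableOn ℂ r D ∧ κ.e x₀ ∈ D ∧
      ∀ y : Pts X, y.pt ∈ κ.U → κ.e y ∈ D → ∀ hy : y.pt ∈ W, y.ev W hy f = r (κ.e y) := by
  obtain ⟨g, hgW, hxg⟩ := κ.affine.exists_basicOpen_le ⟨x₀.pt, hx₀⟩ hxU
  haveI := κ.affine.isLocalization_basicOpen g
  obtain ⟨m, a, ha⟩ := IsLocalization.Away.surj g (X.presheaf.map (homOfLE hgW).op f)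
  obtain ⟨P, hP⟩ := κ.surj a
  obtain ⟨Q, hQ⟩ := κ.surj g
  refine ⟨{z | MvPolynomial.eval z Q ≠ 0}, fun z => MvPolynomial.eval z P / MvPolynomial.eval z Q ^ m,
    isOpen_ne_fun (MvPolynomial.continuous_eval Q) continuous_const,
    fun z hz => DifferentiableWithinAt.mul ((AnHol.differentiable_eval P).differentiableAt.differentiableWithinAt)
      (((AnHol.differentiable_eval Q).differentiableAt.differentiableWithinAt.fun_pow m).fun_inv (pow_ne_zero m hz)),
    ?_, fun y hyU hy hyW => ?_⟩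
  · show MvPolynomial.eval (κ.e x₀) Q ≠ 0
    rw [← ev_eval₂ κ x₀ hxU, hQ]
    exact (mem_basicOpen_iff x₀ hxU g).mp hxg
  · have hq : y.ev κ.U hyU g ≠ 0 := by rw [← hQ, ev_eval₂]; exact hy
    have hyg : y.pt ∈ X.basicOpen g := (mem_basicOpen_iff y hyU g).mpr hq
    have h1 := congrArg (evHom y (X.basicOpen g) hyg) ha
    have hres : ∀ b : Γ(X, κ.U), evHom y (X.basicOpen g) hyg (algebraMap Γ(X, κ.U) Γ(X, X.basicOpen g) b) = y.ev κ.U hyU b :=
      fun b => AnPts.ev_res y (X.basicOpen_le g) hyg b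
    rw [map_mul, map_pow, hres, hres, ← ev_eq, AnPts.ev_res, ← hP, ← hQ, ev_eval₂, ev_eval₂] at h1
    exact eq_div_of_mul_eq (pow_ne_zero m hy) h1

/-- Functions in the chart algebra are, locally, differentiable functions of the coordinates. -/
theorem exists_local_differentiable {V : Opens (top X)} {f : V → ℂ} (hf : f ∈ chartAlg V) (x₀ : V)
    (hxU : Pts.pt x₀.1 ∈ κ.U) :
    ∃ (D : Set (Fin κ.n → ℂ)) (r : (Fin κ.n → ℂ) → ℂ), IsOpen D ∧ DifferentiableOn ℂ r D ∧ κ.e x₀.1 ∈ D ∧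
      ∀ y : V, Pts.pt y.1 ∈ κ.U → κ.e y.1 ∈ D → f y = r (κ.e y.1) := by
  induction hf using Algebra.adjoin_induction with
  | mem g hg =>
    obtain ⟨W, hW, m, a, V', G, hV', hG, h⟩ := hg
    choose D r hD hr hx hy using fun j => exists_local_rational κ W (a j) x₀.1 (hW x₀) hxU
    have hR : DifferentiableOn ℂ (fun z j => r j z) (⋂ j, D j) :=
      differentiableOn_pi.mpr fun j => (hr j).mono (Set.iInter_subset _ j)
    refine ⟨(⋂ j, D j) ∩ (fun z j => r j z) ⁻¹' V', fun z => G fun j => r j z,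
      hR.continuousOn.isOpen_inter_preimage (isOpen_iInter_of_finite hD) hV',
      hG.comp (hR.mono Set.inter_subset_left) fun z hz => hz.2, ⟨Set.mem_iInter.mpr hx, ?_⟩, fun y hyU hyD => ?_⟩
    · show (fun j => r j (κ.e x₀.1)) ∈ V'
      rw [show (fun j => r j (κ.e x₀.1)) = fun j => Pts.ev x₀.1 W (hW x₀) (a j) from
        funext fun j => (hy j x₀.1 hxU (hx j) _).symm]
      exact (h x₀).1
    · rw [(h y).2]
      exact congrArg G (funext fun j => hy j y.1 hyU (Set.mem_iInter.mp hyD.1 j) _)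
  | algebraMap c => exact ⟨Set.univ, fun _ => c, isOpen_univ, differentiableOn_const c, trivial, fun _ _ _ => rfl⟩
  | add p q _ _ hp hq =>
    obtain ⟨D, r, hD, hr, hx, hy⟩ := hp
    obtain ⟨D', r', hD', hr', hx', hy'⟩ := hq
    exact ⟨D ∩ D', fun z => r z + r' z, hD.inter hD', (hr.mono Set.inter_subset_left).add (hr'.mono Set.inter_subset_right),
      ⟨hx, hx'⟩, fun y hU h => congrArg₂ (· + ·) (hy y hU h.1) (hy' y hU h.2)⟩
  | mul p q _ _ hp hq =>
    obtain ⟨D, r, hD, hr, hx, hy⟩ := hp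
    obtain ⟨D', r', hD', hr', hx', hy'⟩ := hq
    exact ⟨D ∩ D', fun z => r z * r' z, hD.inter hD', (hr.mono Set.inter_subset_left).mul (hr'.mono Set.inter_subset_right),
      ⟨hx, hx'⟩, fun y hU h => congrArg₂ (· * ·) (hy y hU h.1) (hy' y hU h.2)⟩

/-- The open set where the coordinates lie in `D`. -/
def dom (D : Set (Fin κ.n → ℂ)) (hD : IsOpen D) : Opens (top X) :=
  ⟨{y | Pts.pt y ∈ κ.U ∧ κ.e y ∈ D}, by
    refine isOpen_iff_forall_mem_open.mpr fun y ⟨hy, hyD⟩ => ?_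
    obtain ⟨u, hu, hsub⟩ := isOpen_pi_iff'.mp hD _ hyD
    refine ⟨Pts.pt ⁻¹' (κ.U : Set X) ∩ ⋂ i, Pts.basicSet κ.U (κ.s i) (u i), ?_,
      (Pts.isOpen_preimage_pt κ.U).inter (isOpen_iInter_of_finite fun i => Pts.isOpen_basicSet _ _ (hu i).1),
      hy, Set.mem_iInter.mpr fun i => ⟨hy, by have := (hu i).2; rwa [e_eq κ y hy] at this⟩⟩
    rintro z ⟨hz, hzu⟩
    refine ⟨hz, hsub fun i _ => ?_⟩
    obtain ⟨_, h⟩ := Set.mem_iInter.mp hzu i
    rw [e_eq κ z hz]
    exact h⟩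

theorem isChartFun_comp {D : Set (Fin κ.n → ℂ)} (hD : IsOpen D) {G : (Fin κ.n → ℂ) → ℂ} (hG : DifferentiableOn ℂ G D)
    {V : Opens (top X)} (hV : V ≤ κ.dom D hD) : IsChartFun V fun y => G (κ.e y.1) :=
  ⟨κ.U, fun y => (hV y.2).1, κ.n, κ.s, D, G, hD, hG, fun y =>
    ⟨e_eq κ y.1 (hV y.2).1 ▸ (hV y.2).2, congrArg G (e_eq κ y.1 (hV y.2).1)⟩⟩

/-- A holomorphic function of the coordinates, as a section. -/
def sect (D : Set (Fin κ.n → ℂ)) (hD : IsOpen D) (G : (Fin κ.n → ℂ) → ℂ) (hG : DifferentiableOn ℂ G D) :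
    (holPresheaf X).obj (op (κ.dom D hD)) :=
  ⟨fun y => G (κ.e y.1), holPred_of_chartAlg (Algebra.subset_adjoin (isChartFun_comp κ hD hG le_rfl))⟩

/-- The germ at the point of a holomorphic function of the coordinates. -/
def gm (D : Set (Fin κ.n → ℂ)) (hD : IsOpen D) (G : (Fin κ.n → ℂ) → ℂ) (hG : DifferentiableOn ℂ G D)
    (hp : κ.e x ∈ D) : (anSpace X).presheaf.stalk x :=
  TopCat.Presheaf.germ (holPresheaf X) (κ.dom D hD) x ⟨κ.mem, hp⟩ (κ.sect D hD G hG)

theorem gm_congr {D D' : Set (Fin κ.n → ℂ)} {hD : IsOpen D} {hD' : IsOpen D'} {G G' : (Fin κ.n → ℂ) → ℂ}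
    {hG : DifferentiableOn ℂ G D} {hG' : DifferentiableOn ℂ G' D'} {hp : κ.e x ∈ D} {hp' : κ.e x ∈ D'}
    (h : ∀ᶠ z in 𝓝 (κ.e x), G z = G' z) : κ.gm D hD G hG hp = κ.gm D' hD' G' hG' hp' := by
  obtain ⟨E, hE, hEo, hpE⟩ := eventually_nhds_iff.mp h
  let W := κ.dom (D ∩ D' ∩ E) ((hD.inter hD').inter hEo)
  have hW : W ≤ κ.dom D hD := fun y hy => ⟨hy.1, hy.2.1.1⟩
  have hW' : W ≤ κ.dom D' hD' := fun y hy => ⟨hy.1, hy.2.1.2⟩
  refine TopCat.Presheaf.germ_ext (holPresheaf X) W ⟨κ.mem, ⟨hp, hp'⟩, hpE⟩ (homOfLE hW) (homOfLE hW') ?_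
  exact Subtype.ext (funext fun y => hE _ y.2.2.2)

/-- Every germ is a holomorphic function of the coordinates. -/
theorem exists_rep (b : (anSpace X).presheaf.stalk x) : ∃ D hD G hG hp, b = κ.gm D hD G hG hp := by
  obtain ⟨V, hxV, f, rfl⟩ := TopCat.Presheaf.exists_germ_eq (holPresheaf X) b
  obtain ⟨V', hxV', i, hf⟩ := f.2 ⟨x, hxV⟩
  obtain ⟨D, r, hD, hr, hxD, hy⟩ := κ.exists_local_differentiable hf ⟨x, hxV'⟩ κ.mem
  refine ⟨D, hD, r, hr, hxD, TopCat.Presheaf.germ_ext (holPresheaf X) (V' ⊓ κ.dom D hD) ⟨hxV', κ.mem, hxD⟩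
    (homOfLE inf_le_left ≫ i) (homOfLE inf_le_right) (Subtype.ext (funext fun y => ?_))⟩
  exact hy ⟨y.1, y.2.1⟩ y.2.2.1 y.2.2.2

theorem gm_add {D D' : Set (Fin κ.n → ℂ)} (hD : IsOpen D) (hD' : IsOpen D') {G G' : (Fin κ.n → ℂ) → ℂ}
    (hG : DifferentiableOn ℂ G D) (hG' : DifferentiableOn ℂ G' D') (hp : κ.e x ∈ D) (hp' : κ.e x ∈ D') :
    κ.gm D hD G hG hp + κ.gm D' hD' G' hG' hp' = κ.gm (D ∩ D') (hD.inter hD') (G + G')
      ((hG.mono Set.inter_subset_left).add (hG'.mono Set.inter_subset_right)) ⟨hp, hp'⟩ := by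
  rw [show κ.gm D hD G hG hp = κ.gm (D ∩ D') (hD.inter hD') G (hG.mono Set.inter_subset_left) ⟨hp, hp'⟩ from
      gm_congr κ (Eventually.of_forall fun z => rfl),
    show κ.gm D' hD' G' hG' hp' = κ.gm (D ∩ D') (hD.inter hD') G' (hG'.mono Set.inter_subset_right) ⟨hp, hp'⟩ from
      gm_congr κ (Eventually.of_forall fun z => rfl)]
  exact (map_add _ _ _).symm

theorem gm_mul {D D' : Set (Fin κ.n → ℂ)} (hD : IsOpen D) (hD' : IsOpen D') {G G' : (Fin κ.n → ℂ) → ℂ}
    (hG : DifferentiableOn ℂ G D) (hG' : DifferentiableOn ℂ G' D') (hp : κ.e x ∈ D) (hp' : κ.e x ∈ D') :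
    κ.gm D hD G hG hp * κ.gm D' hD' G' hG' hp' = κ.gm (D ∩ D') (hD.inter hD') (G * G')
      ((hG.mono Set.inter_subset_left).mul (hG'.mono Set.inter_subset_right)) ⟨hp, hp'⟩ := by
  rw [show κ.gm D hD G hG hp = κ.gm (D ∩ D') (hD.inter hD') G (hG.mono Set.inter_subset_left) ⟨hp, hp'⟩ from
      gm_congr κ (Eventually.of_forall fun z => rfl),
    show κ.gm D' hD' G' hG' hp' = κ.gm (D ∩ D') (hD.inter hD') G' (hG'.mono Set.inter_subset_right) ⟨hp, hp'⟩ from
      gm_congr κ (Eventually.of_forall fun z => rfl)]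
  exact (map_mul _ _ _).symm

end Chart

/-- The value of a germ at the point. -/
def evalO (x : Pts X) : (anSpace X).presheaf.stalk x →+* ℂ :=
  (colimit.desc ((OpenNhds.inclusion (X := top X) x).op ⋙ holPresheaf X)
    { pt := CommRingCat.of ℂ
      ι := { app := fun V => CommRingCat.ofHom
              { toFun := fun f => f.1 ⟨x, V.unop.2⟩
                map_one' := rfl
                map_mul' := fun _ _ => rfl
                map_zero' := rfl
                map_add' := fun _ _ => rfl }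
             naturality := fun _ _ _ => rfl } }).hom

theorem evalO_germ (x : Pts X) (V : Opens (top X)) (hx : x ∈ V) (f : (holPresheaf X).obj (op V)) :
    evalO x (TopCat.Presheaf.germ (holPresheaf X) V x hx f) = f.1 ⟨x, hx⟩ := by
  show (TopCat.Presheaf.germ (holPresheaf X) V x hx ≫ colimit.desc ((OpenNhds.inclusion (X := top X) x).op ⋙ holPresheaf X) _) f = _
  erw [colimit.ι_desc]
  rfl

/-- The map on stalks of the comparison morphism. -/
abbrev φ (x : Pts X) : X.presheaf.stalk x.pt →+* (anSpace X).presheaf.stalk x :=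
  (PresheafedSpace.Hom.stalkMap (anToScheme X) x).hom

theorem φ_germ (x : Pts X) (W : X.Opens) (hW : x.pt ∈ W) (f : Γ(X, W)) :
    φ x (X.presheaf.germ W x.pt hW f) =
      TopCat.Presheaf.germ (holPresheaf X) ((baseF X).obj W) x hW (toHolApp W f) :=
  congrArg (fun k => k f) (PresheafedSpace.stalkMap_germ (anToScheme X) W x hW)

theorem evalO_φ_germ (x : Pts X) (W : X.Opens) (hW : x.pt ∈ W) (f : Γ(X, W)) :
    evalO x (φ x (X.presheaf.germ W x.pt hW f)) = x.ev W hW f := by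
  rw [φ_germ, evalO_germ]
  rfl

theorem mem_maximalIdeal_germ_iff (x : Pts X) (W : X.Opens) (hW : x.pt ∈ W) (f : Γ(X, W)) :
    X.presheaf.germ W x.pt hW f ∈ IsLocalRing.maximalIdeal (X.presheaf.stalk x.pt) ↔ x.ev W hW f = 0 := by
  rw [IsLocalRing.mem_maximalIdeal, mem_nonunits_iff, ← not_iff_not, not_not,
    ← Scheme.mem_basicOpen X f x.pt hW]
  exact mem_basicOpen_iff x hW f

namespace Chart

/-- The algebraic germ of a section over the chart. -/
abbrev alg (f : Γ(X, κ.U)) : X.presheaf.stalk x.pt := X.presheaf.germ κ.U x.pt κ.mem f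

/-- The holomorphic germ of a polynomial in the coordinates. -/
theorem φ_alg_eval₂ (P : MvPolynomial (Fin κ.n) ℂ) :
    φ x (κ.alg (MvPolynomial.eval₂Hom (cst κ.U) κ.s P)) =
      κ.gm Set.univ isOpen_univ (fun z => MvPolynomial.eval z P) (AnHol.differentiable_eval P).differentiableOn trivial := by
  rw [φ_germ]
  let W := κ.dom Set.univ isOpen_univ
  have hW : W ≤ (baseF X).obj κ.U := fun y hy => hy.1
  refine TopCat.Presheaf.germ_ext (holPresheaf X) W ⟨κ.mem, trivial⟩ (homOfLE hW) (𝟙 _) ?_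
  exact Subtype.ext (funext fun y => ev_eval₂ κ y.1 y.2.1 P)

theorem evalO_gm {D : Set (Fin κ.n → ℂ)} (hD : IsOpen D) {G : (Fin κ.n → ℂ) → ℂ} (hG : DifferentiableOn ℂ G D)
    (hp : κ.e x ∈ D) : evalO x (κ.gm D hD G hG hp) = G (κ.e x) :=
  evalO_germ x _ _ _

include κ in
theorem isUnit_of_evalO_ne_zero (b : (anSpace X).presheaf.stalk x) (h : evalO x b ≠ 0) : IsUnit b := by
  obtain ⟨D, hD, G, hG, hp, rfl⟩ := κ.exists_rep b
  rw [evalO_gm] at h
  have hD' : IsOpen (D ∩ {z | G z ≠ 0}) := hG.continuousOn.isOpen_inter_preimage hD isOpen_ne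
  have hinv : DifferentiableOn ℂ (fun z => (G z)⁻¹) (D ∩ {z | G z ≠ 0}) :=
    (hG.mono Set.inter_subset_left).fun_inv fun z hz => hz.2
  refine IsUnit.of_mul_eq_one (κ.gm (D ∩ {z | G z ≠ 0}) hD' (fun z => (G z)⁻¹) hinv ⟨hp, h⟩) ?_
  rw [gm_mul]
  have h1 : (1 : (anSpace X).presheaf.stalk x) =
      κ.gm Set.univ isOpen_univ (fun _ => 1) (differentiableOn_const 1) trivial :=
    (map_one (TopCat.Presheaf.germ (holPresheaf X) (κ.dom Set.univ isOpen_univ) x ⟨κ.mem, trivial⟩).hom).symm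
  rw [h1]
  refine gm_congr κ ?_
  filter_upwards [hD'.mem_nhds ⟨hp, h⟩] with z hz
  exact mul_inv_cancel₀ hz.2

include κ in
theorem map_maximalIdeal_eq :
    (IsLocalRing.maximalIdeal (X.presheaf.stalk x.pt)).map (φ x) = RingHom.ker (evalO x) := by
  refine le_antisymm (Ideal.map_le_iff_le_comap.mpr fun a ha => ?_) fun b hb => ?_
  · obtain ⟨W, hW, f, rfl⟩ := X.presheaf.exists_germ_eq a
    show evalO x _ = 0
    rw [evalO_φ_germ]
    exact (mem_maximalIdeal_germ_iff x W hW f).mp ha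
  · obtain ⟨D, hD, G, hG, hp, rfl⟩ := κ.exists_rep b
    have hb0 : G (κ.e x) = 0 := (evalO_gm κ hD hG hp).symm.trans hb
    obtain ⟨r, hr, hrD⟩ := Metric.isOpen_iff.mp hD _ hp
    have hG₀ : DifferentiableOn ℂ (fun w => G (κ.e x + w)) (Metric.ball 0 r) :=
      hG.comp (differentiable_id.const_add _).differentiableOn fun w hw => hrD (by simpa using hw)
    obtain ⟨r', hr', hr'r, H, hH, hsum⟩ := AnHadamard.exists_sum_coord hr hG₀
    have hH' : ∀ i, DifferentiableOn ℂ (fun z => H i (z - κ.e x)) (Metric.ball (κ.e x) r') := fun i =>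
      (hH i).comp (differentiable_id.sub_const _).differentiableOn fun z hz => by
        simpa [dist_eq_norm] using hz
    have hp' : κ.e x ∈ Metric.ball (κ.e x) r' := Metric.mem_ball_self hr'
    let P : Fin κ.n → MvPolynomial (Fin κ.n) ℂ := fun i => MvPolynomial.X i - MvPolynomial.C (κ.e x i)
    have key : ∀ S : Finset (Fin κ.n), ∃ (D' : Set (Fin κ.n → ℂ)) (hD' : IsOpen D') (G' : _)
        (hG' : DifferentiableOn ℂ G' D') (hp'' : κ.e x ∈ D'),
        (∀ z, G' z = ∑ i ∈ S, (z i - κ.e x i) * H i (z - κ.e x)) ∧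
        κ.gm D' hD' G' hG' hp'' ∈ (IsLocalRing.maximalIdeal (X.presheaf.stalk x.pt)).map (φ x) := by
      classical
      intro S
      induction S using Finset.induction_on with
      | empty =>
        refine ⟨Set.univ, isOpen_univ, fun _ => 0, differentiableOn_const 0, trivial, fun z => by simp, ?_⟩
        rw [show κ.gm Set.univ isOpen_univ (fun _ => 0) (differentiableOn_const 0) trivial = 0 from map_zero _]
        exact zero_mem _
      | insert i S hi ih =>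
        obtain ⟨D', hD', G', hG', hp'', hGz, hmem⟩ := ih
        have hm : φ x (κ.alg (MvPolynomial.eval₂Hom (cst κ.U) κ.s (P i))) *
            κ.gm _ Metric.isOpen_ball _ (hH' i) hp' ∈ (IsLocalRing.maximalIdeal (X.presheaf.stalk x.pt)).map (φ x) := by
          refine Ideal.mul_mem_right _ _ (Ideal.mem_map_of_mem _ ?_)
          rw [mem_maximalIdeal_germ_iff, ev_eval₂]
          simp [P]
        rw [φ_alg_eval₂, gm_mul] at hm
        have h2 := add_mem hm hmem
        rw [gm_add] at h2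
        refine ⟨_, _, _, _, _, fun z => ?_, h2⟩
        simp [P, Finset.sum_insert hi, hGz]
    obtain ⟨D', hD', G', hG', hp'', hGz, hmem⟩ := key Finset.univ
    convert hmem using 1
    refine gm_congr κ ?_
    filter_upwards [Metric.ball_mem_nhds _ hr'] with z hz
    have h3 := hsum (z - κ.e x) (by simpa [dist_eq_norm] using hz)
    simp only [add_sub_cancel, add_zero, hb0, zero_add] at h3
    rw [h3, hGz]
    rfl

include κ in
theorem ker_evalO_isMaximal : (RingHom.ker (evalO x)).IsMaximal :=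
  RingHom.ker_isMaximal_of_surjective _ fun c => ⟨φ x (κ.alg (cst κ.U c)), by rw [evalO_φ_germ, ev_cst]⟩

include κ in
theorem eq_ker_of_isMaximal {I : Ideal ((anSpace X).presheaf.stalk x)} (hI : I.IsMaximal) :
    I = RingHom.ker (evalO x) :=
  hI.eq_of_le (ker_evalO_isMaximal κ).ne_top fun b hb => by
    by_contra h
    exact hI.ne_top (Ideal.eq_top_of_isUnit_mem _ hb (κ.isUnit_of_evalO_ne_zero b h))

include κ in
theorem exists_approx (n : ℕ) : ∀ (N : ℕ) (d : (anSpace X).presheaf.stalk x),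
    d ∈ ((IsLocalRing.maximalIdeal (X.presheaf.stalk x.pt)).map (φ x)) ^ n →
      ∃ a ∈ IsLocalRing.maximalIdeal (X.presheaf.stalk x.pt) ^ n,
        φ x a - d ∈ ((IsLocalRing.maximalIdeal (X.presheaf.stalk x.pt)).map (φ x)) ^ N := by
  set M := (IsLocalRing.maximalIdeal (X.presheaf.stalk x.pt)).map (φ x) with hM
  have hconst : ∀ r, ∃ c : X.presheaf.stalk x.pt, r - φ x c ∈ M := fun r => by
    refine ⟨κ.alg (cst κ.U (evalO x r)), ?_⟩
    rw [hM, map_maximalIdeal_eq κ, RingHom.mem_ker, map_sub, evalO_φ_germ, ev_cst, sub_self]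
  have step : ∀ (k : ℕ) (d : (anSpace X).presheaf.stalk x), d ∈ M ^ k →
      ∃ a ∈ IsLocalRing.maximalIdeal (X.presheaf.stalk x.pt) ^ k, φ x a - d ∈ M ^ (k + 1) := by
    intro k d hd
    rw [hM, ← Ideal.map_pow] at hd
    induction hd using Submodule.span_induction with
    | mem y hy =>
      obtain ⟨a, ha, rfl⟩ := hy
      exact ⟨a, ha, by rw [sub_self]; exact zero_mem _⟩
    | zero => exact ⟨0, zero_mem _, by simp⟩
    | add y z _ _ hy hz =>
      obtain ⟨a, ha, hay⟩ := hy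
      obtain ⟨b, hb, hbz⟩ := hz
      exact ⟨a + b, add_mem ha hb, by rw [map_add, add_sub_add_comm]; exact add_mem hay hbz⟩
    | smul r y hy' hy =>
      obtain ⟨a, ha, hay⟩ := hy
      obtain ⟨c, hc⟩ := hconst r
      refine ⟨c * a, Ideal.mul_mem_left _ _ ha, ?_⟩
      have hyM : y ∈ M ^ k := by rw [hM, ← Ideal.map_pow]; exact hy'
      rw [smul_eq_mul, map_mul, show φ x c * φ x a - r * y = φ x c * (φ x a - y) - (r - φ x c) * y by ring]
      refine sub_mem (Ideal.mul_mem_left _ _ hay) ?_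
      rw [pow_succ']
      exact Ideal.mul_mem_mul hc hyM
  intro N
  induction N with
  | zero => exact fun d _ => ⟨0, zero_mem _, by simp⟩
  | succ N ih =>
    intro d hd
    rcases le_or_gt (N + 1) n with hle | hlt
    · exact ⟨0, zero_mem _, by rw [map_zero, zero_sub, neg_mem_iff]; exact Ideal.pow_le_pow_right hle hd⟩
    · obtain ⟨a, ha, had⟩ := ih d hd
      obtain ⟨b, hb, hbd⟩ := step N _ had
      refine ⟨a - b, sub_mem ha (Ideal.pow_le_pow_right (Nat.lt_succ_iff.mp hlt) hb), ?_⟩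
      rw [map_sub, show φ x a - φ x b - d = -(φ x b - (φ x a - d)) by ring, neg_mem_iff]
      exact hbd

/-- Germs vanishing to order `N` at the point are bounded by the corresponding power of the distance. -/
theorem exists_bound_of_mem_pow (N : ℕ) (b : (anSpace X).presheaf.stalk x)
    (hb : b ∈ ((IsLocalRing.maximalIdeal (X.presheaf.stalk x.pt)).map (φ x)) ^ N) :
    ∃ D hD G hG hp, b = κ.gm D hD G hG hp ∧ ∃ C : ℝ, ∀ z ∈ D, ‖G z‖ ≤ C * ‖z - κ.e x‖ ^ N := by
  induction N generalizing b with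
  | zero =>
    obtain ⟨D, hD, G, hG, hp, rfl⟩ := κ.exists_rep b
    have hD' : IsOpen (D ∩ G ⁻¹' Metric.ball 0 (‖G (κ.e x)‖ + 1)) :=
      hG.continuousOn.isOpen_inter_preimage hD Metric.isOpen_ball
    refine ⟨_, hD', G, hG.mono Set.inter_subset_left, ⟨hp, by simp⟩, gm_congr κ (Eventually.of_forall fun _ => rfl),
      ‖G (κ.e x)‖ + 1, fun z hz => ?_⟩
    rw [pow_zero, mul_one]
    exact (mem_ball_zero_iff.mp hz.2).le
  | succ N ih =>
    rw [pow_succ] at hb
    induction hb using Submodule.mul_induction_on' with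
    | mem_mul_mem m hm r hr =>
      obtain ⟨D, hD, G, hG, hp, rfl, C, hC⟩ := ih m hm
      rw [map_maximalIdeal_eq κ] at hr
      obtain ⟨D', hD', G', hG', hp', rfl⟩ := κ.exists_rep r
      have h0 : G' (κ.e x) = 0 := (evalO_gm κ hD' hG' hp').symm.trans hr
      obtain ⟨C', hC'⟩ := ((hG'.differentiableAt (hD'.mem_nhds hp')).hasFDerivAt.isBigO_sub).bound
      obtain ⟨E, hE, hEo, hpE⟩ := eventually_nhds_iff.mp hC'
      refine ⟨D ∩ D' ∩ E, (hD.inter hD').inter hEo, G * G', (((hG.mono Set.inter_subset_left).mul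
        (hG'.mono Set.inter_subset_right)).mono Set.inter_subset_left), ⟨⟨hp, hp'⟩, hpE⟩, ?_, C * C', fun z hz => ?_⟩
      · rw [gm_mul]
        exact gm_congr κ (Eventually.of_forall fun _ => rfl)
      · have h1 := hE z hz.2
        rw [h0, sub_zero] at h1
        rw [Pi.mul_apply, norm_mul, pow_succ]
        calc ‖G z‖ * ‖G' z‖ ≤ C * ‖z - κ.e x‖ ^ N * (C' * ‖z - κ.e x‖) :=
              mul_le_mul (hC z hz.1.1) h1 (norm_nonneg _) ((norm_nonneg _).trans (hC z hz.1.1))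
          _ = C * C' * (‖z - κ.e x‖ ^ N * ‖z - κ.e x‖) := by ring
    | add y _ z _ hy hz =>
      obtain ⟨D, hD, G, hG, hp, rfl, C, hC⟩ := hy
      obtain ⟨D', hD', G', hG', hp', rfl, C', hC'⟩ := hz
      refine ⟨_, _, _, _, _, gm_add κ hD hD' hG hG' hp hp', C + C', fun z hz => ?_⟩
      rw [add_mul]
      exact (norm_add_le _ _).trans (add_le_add (hC z hz.1) (hC' z hz.2))

include κ in
theorem exists_pow_le [IsReduced X] (n : ℕ) : ∃ N : ℕ, ∀ a : X.presheaf.stalk x.pt,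
    φ x a ∈ ((IsLocalRing.maximalIdeal (X.presheaf.stalk x.pt)).map (φ x)) ^ N →
      a ∈ IsLocalRing.maximalIdeal (X.presheaf.stalk x.pt) ^ n := by
  letI : Algebra ℂ Γ(X, κ.U) := (cst κ.U).toAlgebra
  haveI : IsReduced Γ(X, κ.U) := IsReduced.component_reduced κ.U
  have hs : Function.Surjective (MvPolynomial.aeval (R := ℂ) κ.s) := fun f => by
    obtain ⟨P, hP⟩ := κ.surj f
    exact ⟨P, hP⟩
  haveI : Algebra.FiniteType ℂ Γ(X, κ.U) := Algebra.FiniteType.of_surjective _ hs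
  let φ₀ : Γ(X, κ.U) →ₐ[ℂ] ℂ := ⟨evHom x κ.U κ.mem, fun c => ev_cst x κ.U κ.mem c⟩
  obtain ⟨N, hN⟩ := AnOrder.exists_order_reduced κ.s hs φ₀ n
  refine ⟨N, fun a ha => ?_⟩
  letI := TopCat.Presheaf.algebra_section_stalk X.presheaf ⟨x.pt, κ.mem⟩
  haveI : IsLocalization.AtPrime (X.presheaf.stalk x.pt) (κ.affine.primeIdealOf ⟨x.pt, κ.mem⟩).asIdeal :=
    κ.affine.isLocalization_stalk ⟨x.pt, κ.mem⟩
  obtain ⟨⟨f, u⟩, hfu⟩ := IsLocalization.surj (κ.affine.primeIdealOf ⟨x.pt, κ.mem⟩).asIdeal.primeCompl a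
  have hunit : IsUnit (algebraMap Γ(X, κ.U) (X.presheaf.stalk x.pt) u) := IsLocalization.map_units _ u
  have hf : φ x (κ.alg f) ∈ ((IsLocalRing.maximalIdeal (X.presheaf.stalk x.pt)).map (φ x)) ^ N := by
    rw [show κ.alg f = a * algebraMap Γ(X, κ.U) (X.presheaf.stalk x.pt) u from hfu.symm, map_mul]
    exact Ideal.mul_mem_right _ _ ha
  obtain ⟨Q, hQ⟩ := κ.surj f
  obtain ⟨D, hD, G, hG, hp, hbG, C, hC⟩ := κ.exists_bound_of_mem_pow N _ hf
  rw [← hQ, φ_alg_eval₂] at hbG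
  obtain ⟨V, hxV, i1, i2, hres⟩ := TopCat.Presheaf.germ_eq (holPresheaf X) x _ _ _ _ hbG
  have heq : ∀ y ∈ V, MvPolynomial.eval (κ.e y) Q = G (κ.e y) := fun y hy =>
    congrFun (congrArg Subtype.val hres) ⟨y, hy⟩
  obtain ⟨δ, hδ, hnb⟩ := κ.nhds V.1 V.2 hxV
  have hmem : f ∈ RingHom.ker φ₀.toRingHom ^ n := by
    refine hN f ⟨C, δ, hδ, fun ψ hψ => ?_⟩
    obtain ⟨y, hy, hyψ⟩ := κ.hom ψ.toRingHom fun c => ψ.commutes c
    have h1 : κ.e y = fun i => ψ (κ.s i) := (e_eq κ y hy).trans (funext fun i => hyψ _)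
    have h2 : κ.e x = fun i => φ₀ (κ.s i) := e_eq κ x κ.mem
    have hyV : y ∈ V := hnb y hy (by rw [← e_eq κ y hy, ← e_eq κ x κ.mem, h1, h2]; exact hψ)
    have hval : ψ f = G (κ.e y) := by
      rw [← heq y hyV, ← ev_eval₂ κ y hy, hQ, hyψ]
      rfl
    rw [hval, ← h1, ← h2]
    exact hC _ (i2.le hyV).2
  have h3 : κ.alg f ∈ IsLocalRing.maximalIdeal (X.presheaf.stalk x.pt) ^ n := by
    have h4 := Ideal.mem_map_of_mem (X.presheaf.germ κ.U x.pt κ.mem).hom hmem
    rw [Ideal.map_pow] at h4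
    have hle : (RingHom.ker φ₀.toRingHom).map (X.presheaf.germ κ.U x.pt κ.mem).hom ≤
        IsLocalRing.maximalIdeal (X.presheaf.stalk x.pt) := by
      rw [Ideal.map_le_iff_le_comap]
      exact fun g hg => (mem_maximalIdeal_germ_iff x κ.U κ.mem g).mpr hg
    exact Ideal.pow_right_mono hle n h4
  rw [show κ.alg f = a * algebraMap Γ(X, κ.U) (X.presheaf.stalk x.pt) u from hfu.symm] at h3
  exact (Ideal.mul_unit_mem_iff_mem _ hunit).mp h3

end Chart

end Groth.Agent.H05EGA4.AnGerm
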