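import Groth.Agent.H05EGA4.An.AlgDensity
import Mathlib

/-!
Holomorphic functions of polynomial growth on the complement of a hypersurface are polynomials; consequently the
root set of an irreducible monic polynomial is connected away from its discriminant.
-/

set_option autoImplicit false
set_option linter.style.haveILetI false

open Filter Topology Polynomial

noncomputable section

namespace Groth.Agent.H05EGA4.AnGrowth

open Groth.Agent.H05EGA4.AlgDensity

/-- An entire function of polynomial growth is a polynomial. -/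
theorem exists_polynomial_of_entire {f : ℂ → ℂ} (hf : Differentiable ℂ f) (N : ℕ) {C : ℝ}
    (h : ∀ z, ‖f z‖ ≤ C * (1 + ‖z‖) ^ N) : ∃ p : ℂ[X], p.natDegree ≤ N ∧ ∀ z, f z = p.eval z := by
  induction N generalizing f C with
  | zero =>
    refine ⟨Polynomial.C (f 0), (natDegree_C _).le, fun z => ?_⟩
    rw [eval_C]
    refine hf.apply_eq_apply_of_bounded (isBounded_iff_forall_norm_le.mpr ⟨C, ?_⟩) z 0
    rintro _ ⟨w, rfl⟩
    simpa using h w
  | succ N ih =>
    have hg : Differentiable ℂ (dslope f 0) :=
      differentiableOn_univ.mp ((Complex.differentiableOn_dslope Filter.univ_mem).mpr hf.differentiableOn)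
    have hmul : ∀ z, z * dslope f 0 z = f z - f 0 := fun z => by simpa using sub_smul_dslope f 0 z
    obtain ⟨M, hM⟩ := (isCompact_closedBall (0 : ℂ) 1).exists_bound_of_continuousOn hg.continuous.continuousOn
    have hC : 0 ≤ C := by simpa using (norm_nonneg _).trans (h 0)
    obtain ⟨p, hp, hpe⟩ := ih hg (C := max M (2 * C + ‖f 0‖ * 2)) fun z => by
      have h1 : (1 : ℝ) ≤ (1 + ‖z‖) ^ N := one_le_pow₀ (le_add_of_nonneg_right (norm_nonneg _))
      rcases le_or_gt ‖z‖ 1 with hz | hz
      · exact ((hM z (mem_closedBall_zero_iff.mpr hz)).trans (le_max_left _ _)).trans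
          (le_mul_of_one_le_right ((norm_nonneg _).trans ((hM 0 (by simp)).trans (le_max_left _ _))) h1)
      · refine le_trans ?_ (mul_le_mul_of_nonneg_right (le_max_right _ _) (zero_le_one.trans h1))
        refine le_of_mul_le_mul_left ?_ (zero_lt_one.trans hz)
        rw [← norm_mul, hmul]
        refine (norm_sub_le _ _).trans ((add_le_add (h z) le_rfl).trans ?_)
        rw [pow_succ]
        nlinarith [mul_le_mul_of_nonneg_left hz.le (mul_nonneg hC (zero_le_one.trans h1)),
          mul_le_mul h1 hz.le zero_le_one (zero_le_one.trans h1), norm_nonneg (f 0)]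
    refine ⟨Polynomial.C (f 0) + X * p, natDegree_add_le_of_degree_le (by simp) ((natDegree_mul_le).trans
      (by rw [natDegree_X]; omega)), fun z => ?_⟩
    rw [eval_add, eval_C, eval_mul, eval_X, ← hpe, hmul]
    ring

/-- A holomorphic function of polynomial growth on the complement of finitely many points is a polynomial. -/
theorem exists_polynomial_of_punctured {f : ℂ → ℂ} {s : Set ℂ} (hs : s.Finite) (hf : DifferentiableOn ℂ f sᶜ)
    (N : ℕ) {C : ℝ} (h : ∀ z ∉ s, ‖f z‖ ≤ C * (1 + ‖z‖) ^ N) :
    ∃ p : ℂ[X], p.natDegree ≤ N ∧ ∀ z ∉ s, f z = p.eval z := by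
  let F : ℂ → ℂ := fun z => limUnder (𝓝[≠] z) f
  have ho : IsOpen sᶜ := hs.isClosed.isOpen_compl
  have heq : ∀ z ∉ s, F z = f z := fun z hz =>
    (((hf z hz).differentiableAt (ho.mem_nhds hz)).continuousAt.mono_left nhdsWithin_le_nhds).limUnder_eq
  have hF : Differentiable ℂ F := by
    intro z
    have hU : IsOpen (s \ {z})ᶜ := (hs.subset Set.diff_subset).isClosed.isOpen_compl
    have hzU : z ∈ (s \ {z})ᶜ := fun hh => hh.2 rfl
    obtain ⟨R, hR, hball⟩ := Metric.isOpen_iff.mp hU z hzU
    have hout : ∀ w ∈ Metric.closedBall z (R / 2) \ {z}, w ∉ s := fun w hw hws =>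
      hball (Metric.closedBall_subset_ball (half_lt_self hR) hw.1) ⟨hws, hw.2⟩
    have hbd : BddAbove (norm ∘ f '' (Metric.closedBall z (R / 2) \ {z})) := by
      refine ⟨|C| * (1 + (‖z‖ + R)) ^ N, ?_⟩
      rintro _ ⟨w, hw, rfl⟩
      refine (h w (hout w hw)).trans (mul_le_mul (le_abs_self C) (pow_le_pow_left₀
        (add_nonneg zero_le_one (norm_nonneg _)) (add_le_add le_rfl ?_) N)
        (pow_nonneg (add_nonneg zero_le_one (norm_nonneg _)) N) (abs_nonneg C))
      have := hw.1
      rw [Metric.mem_closedBall, dist_eq_norm] at this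
      linarith [norm_le_norm_add_norm_sub' w z]
    have hd := Complex.differentiableOn_update_limUnder_of_bddAbove (Metric.closedBall_mem_nhds z (half_pos hR))
      (hf.mono fun w hw => hout w hw) hbd
    refine ((hd.differentiableAt (Metric.closedBall_mem_nhds z (half_pos hR))).congr_of_eventuallyEq ?_)
    filter_upwards [Metric.closedBall_mem_nhds z (half_pos hR)] with w hw
    by_cases hwz : w = z
    · subst hwz; rw [Function.update_self]
    · rw [Function.update_of_ne hwz, heq w (hout w ⟨hw, hwz⟩)]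
  have hdense : Dense sᶜ := hs.countable.dense_compl ℝ
  obtain ⟨p, hp, hpe⟩ := exists_polynomial_of_entire hF N (C := C) fun z =>
    (isClosed_le hF.continuous.norm ((continuous_const.add continuous_norm).pow N |>.const_mul C)).closure_subset_iff.mpr
      (fun w hw => by show ‖F w‖ ≤ _; rw [heq w hw]; exact h w hw) (hdense z)
  exact ⟨p, hp, fun z hz => (heq z hz).symm.trans (hpe z)⟩

theorem exists_bound_eval {ι : Type*} [Fintype ι] (P : MvPolynomial ι ℂ) :
    ∃ (C : ℝ) (N : ℕ), 0 ≤ C ∧ ∀ z : ι → ℂ, ‖MvPolynomial.eval z P‖ ≤ C * (1 + ‖z‖) ^ N := by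
  induction P using MvPolynomial.induction_on with
  | C a => exact ⟨‖a‖, 0, norm_nonneg _, fun z => by simp⟩
  | add p q hp hq =>
    obtain ⟨C, N, hC, h⟩ := hp
    obtain ⟨C', N', hC', h'⟩ := hq
    refine ⟨C + C', N + N', add_nonneg hC hC', fun z => ?_⟩
    have h1 : (1 : ℝ) ≤ 1 + ‖z‖ := le_add_of_nonneg_right (norm_nonneg _)
    rw [map_add, add_mul]
    exact (norm_add_le _ _).trans (add_le_add
      ((h z).trans (mul_le_mul_of_nonneg_left (pow_le_pow_right₀ h1 (Nat.le_add_right _ _)) hC))
      ((h' z).trans (mul_le_mul_of_nonneg_left (pow_le_pow_right₀ h1 (Nat.le_add_left _ _)) hC')))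
  | mul_X p i hp =>
    obtain ⟨C, N, hC, h⟩ := hp
    refine ⟨C, N + 1, hC, fun z => ?_⟩
    rw [map_mul, MvPolynomial.eval_X, norm_mul, pow_succ, ← mul_assoc]
    exact mul_le_mul (h z) ((norm_le_pi_norm z i).trans (le_add_of_nonneg_left zero_le_one)) (norm_nonneg _)
      (mul_nonneg hC (pow_nonneg (add_nonneg zero_le_one (norm_nonneg _)) N))

theorem differentiable_eval {ι : Type*} [Fintype ι] (P : MvPolynomial ι ℂ) :
    Differentiable ℂ fun z : ι → ℂ => MvPolynomial.eval z P := by
  induction P using MvPolynomial.induction_on with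
  | C a => simp only [MvPolynomial.eval_C]; exact differentiable_const a
  | add p q hp hq => simp only [map_add]; exact hp.add hq
  | mul_X p i hp => simp only [map_mul, MvPolynomial.eval_X]; exact hp.mul (differentiable_apply i)

theorem isOpen_ne_zero {ι : Type*} (D : MvPolynomial ι ℂ) : IsOpen {z : ι → ℂ | MvPolynomial.eval z D ≠ 0} :=
  isOpen_ne_fun (MvPolynomial.continuous_eval D) continuous_const

theorem eq_zero_of_eval {ι : Type*} {D P : MvPolynomial ι ℂ} (hD : D ≠ 0)
    (h : ∀ z, MvPolynomial.eval z D ≠ 0 → MvPolynomial.eval z P = 0) : P = 0 := by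
  refine (mul_eq_zero.mp (MvPolynomial.funext fun z => ?_ : P * D = 0)).resolve_right hD
  rw [map_mul, map_zero]
  by_cases hz : MvPolynomial.eval z D = 0
  · rw [hz, mul_zero]
  · rw [h z hz, zero_mul]

/-- A holomorphic function of polynomial growth on the complement of a hypersurface is a polynomial. -/
theorem exists_mvPolynomial {n : ℕ} (D : MvPolynomial (Fin n) ℂ) (hD : D ≠ 0) (f : (Fin n → ℂ) → ℂ)
    (hf : DifferentiableOn ℂ f {z | MvPolynomial.eval z D ≠ 0}) (N : ℕ) {C : ℝ} (hC : 0 ≤ C)
    (h : ∀ z, MvPolynomial.eval z D ≠ 0 → ‖f z‖ ≤ C * (1 + ‖z‖) ^ N) :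
    ∃ P : MvPolynomial (Fin n) ℂ, ∀ z, MvPolynomial.eval z D ≠ 0 → f z = MvPolynomial.eval z P := by
  induction n generalizing C with
  | zero => exact ⟨MvPolynomial.C (f 0), fun z _ => by rw [MvPolynomial.eval_C, Subsingleton.elim z 0]⟩
  | succ n ih =>
    set q := MvPolynomial.finSuccEquiv ℂ n D with hqdef
    have hq : q ≠ 0 := fun h0 => hD ((MvPolynomial.finSuccEquiv ℂ n).injective (h0.trans (map_zero _).symm))
    have hev : ∀ (t : ℂ) (z : Fin n → ℂ),
        MvPolynomial.eval (Fin.cons t z : Fin (n + 1) → ℂ) D = (q.map (MvPolynomial.eval z)).eval t :=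
      fun t z => MvPolynomial.eval_eq_eval_mv_eval' z t D
    obtain ⟨t, ht, hinj⟩ : ∃ t : Fin (N + 1) → ℂ, (∀ j, q.eval (MvPolynomial.C (t j)) ≠ 0) ∧ Function.Injective t := by
      have hfin : {t : ℂ | q.IsRoot (MvPolynomial.C t)}.Finite :=
        (finite_setOf_isRoot hq).preimage (MvPolynomial.C_injective _ _).injOn
      obtain ⟨s, hs, hcard⟩ := hfin.infinite_compl.exists_subset_card_eq (N + 1)
      refine ⟨fun j => (s.equivFinOfCardEq hcard).symm j, fun j => hs ((s.equivFinOfCardEq hcard).symm j).2,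
        Subtype.val_injective.comp (s.equivFinOfCardEq hcard).symm.injective⟩
    let D' : MvPolynomial (Fin n) ℂ := ∏ j, q.eval (MvPolynomial.C (t j))
    have hD' : D' ≠ 0 := Finset.prod_ne_zero_iff.mpr fun j _ => ht j
    have hmem : ∀ j z, MvPolynomial.eval z D' ≠ 0 →
        MvPolynomial.eval (Fin.cons (t j) z : Fin (n + 1) → ℂ) D ≠ 0 := fun j z hz => by
      have h2 : MvPolynomial.eval z (q.eval (MvPolynomial.C (t j))) = (q.map (MvPolynomial.eval z)).eval (t j) := by
        rw [← Polynomial.eval₂_at_apply, ← Polynomial.eval_map, MvPolynomial.eval_C]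
      rw [hev, ← h2]
      rw [map_prod] at hz
      exact Finset.prod_ne_zero_iff.mp hz j (Finset.mem_univ j)
    have hcons : ∀ t : ℂ, Differentiable ℂ fun z : Fin n → ℂ => (Fin.cons t z : Fin (n + 1) → ℂ) := fun t => by
      refine differentiable_pi.mpr fun i => ?_
      induction i using Fin.cases with
      | zero => simp only [Fin.cons_zero]; exact differentiable_const t
      | succ i => simp only [Fin.cons_succ]; exact differentiable_apply i
    have hnorm : ∀ (t : ℂ) (z : Fin n → ℂ), 1 + ‖(Fin.cons t z : Fin (n + 1) → ℂ)‖ ≤ (1 + ‖t‖) * (1 + ‖z‖) := by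
      intro t z
      have h3 : ‖(Fin.cons t z : Fin (n + 1) → ℂ)‖ ≤ ‖t‖ + ‖z‖ := by
        refine (pi_norm_le_iff_of_nonneg (add_nonneg (norm_nonneg _) (norm_nonneg _))).mpr fun i => ?_
        induction i using Fin.cases with
        | zero => simpa only [Fin.cons_zero] using le_add_of_nonneg_right (norm_nonneg _)
        | succ i => rw [Fin.cons_succ]; exact (norm_le_pi_norm z i).trans (le_add_of_nonneg_left (norm_nonneg _))
      nlinarith [norm_nonneg t, norm_nonneg z]
    have hgrowth : ∀ (t : ℂ) (z : Fin n → ℂ), MvPolynomial.eval (Fin.cons t z : Fin (n + 1) → ℂ) D ≠ 0 →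
        ‖f (Fin.cons t z : Fin (n + 1) → ℂ)‖ ≤ C * (1 + ‖t‖) ^ N * (1 + ‖z‖) ^ N := fun t z hz => by
      refine (h _ hz).trans ?_
      rw [mul_assoc, ← mul_pow]
      exact mul_le_mul_of_nonneg_left (pow_le_pow_left₀ (add_nonneg zero_le_one (norm_nonneg _)) (hnorm t z) N) hC
    have hG : ∀ j, ∃ G : MvPolynomial (Fin n) ℂ, ∀ z, MvPolynomial.eval z D' ≠ 0 →
        f (Fin.cons (t j) z : Fin (n + 1) → ℂ) = MvPolynomial.eval z G := fun j =>
      ih D' hD' (fun z => f (Fin.cons (t j) z)) (hf.comp (hcons _).differentiableOn fun z hz => hmem j z hz)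
        (mul_nonneg hC (pow_nonneg (add_nonneg zero_le_one (norm_nonneg _)) N))
        fun z hz => hgrowth _ z (hmem j z hz)
    choose G hG using hG
    let P : MvPolynomial (Fin (n + 1)) ℂ := ∑ j,
      Polynomial.aeval (MvPolynomial.X 0) (Lagrange.basis Finset.univ t j) * MvPolynomial.rename Fin.succ (G j)
    have hP : ∀ (s : ℂ) (z : Fin n → ℂ), MvPolynomial.eval (Fin.cons s z : Fin (n + 1) → ℂ) P =
        ∑ j, (Lagrange.basis Finset.univ t j).eval s * MvPolynomial.eval z (G j) := fun s z => by
      simp only [P, map_sum, map_mul, MvPolynomial.eval_rename]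
      refine Finset.sum_congr rfl fun j _ => ?_
      congr 1
      have := Polynomial.aeval_algHom_apply (MvPolynomial.aeval (Fin.cons s z : Fin (n + 1) → ℂ))
        (MvPolynomial.X 0) (Lagrange.basis Finset.univ t j)
      simpa [MvPolynomial.aeval_eq_eval] using this.symm
    refine ⟨P, fun x hx => ?_⟩
    have hgood : ∀ (s : ℂ) (z : Fin n → ℂ), MvPolynomial.eval (Fin.cons s z : Fin (n + 1) → ℂ) D ≠ 0 →
        MvPolynomial.eval z D' ≠ 0 → f (Fin.cons s z : Fin (n + 1) → ℂ) = MvPolynomial.eval (Fin.cons s z : Fin (n + 1) → ℂ) P := by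
      intro s z hs hz
      have hline : q.map (MvPolynomial.eval z) ≠ 0 := fun h0 => hmem 0 z hz (by rw [hev, h0, Polynomial.eval_zero])
      have hd : Differentiable ℂ fun s : ℂ => (Fin.cons s z : Fin (n + 1) → ℂ) := by
        refine differentiable_pi.mpr fun i => ?_
        induction i using Fin.cases with
        | zero => simp only [Fin.cons_zero]; exact differentiable_id
        | succ i => simp only [Fin.cons_succ]; exact differentiable_const _
      obtain ⟨p, hp, hpe⟩ := exists_polynomial_of_punctured (finite_setOf_isRoot hline)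
        (f := fun s => f (Fin.cons s z)) (hf.comp hd.differentiableOn fun s hs => by
          show MvPolynomial.eval (Fin.cons s z : Fin (n + 1) → ℂ) D ≠ 0
          rw [hev]; exact hs) N (C := C * (1 + ‖z‖) ^ N) fun s hs => by
          refine (hgrowth s z (by rw [hev]; exact hs)).trans ?_
          rw [mul_right_comm]
      have hinterp : p = Lagrange.interpolate Finset.univ t (fun j => MvPolynomial.eval z (G j)) :=
        Lagrange.eq_interpolate_of_eval_eq _ hinj.injOn
          (lt_of_le_of_lt Polynomial.degree_le_natDegree (by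
            rw [Finset.card_univ, Fintype.card_fin]; exact_mod_cast Nat.lt_succ_of_le hp))
          fun j _ => by rw [← hG j z hz]; exact (hpe _ fun hh => hmem j z hz ((hev _ z).trans hh)).symm
      rw [hP, hpe s (fun hh => hs ((hev _ z).trans hh)), hinterp, Lagrange.interpolate_apply, Polynomial.eval_finsetSum]
      exact Finset.sum_congr rfl fun j _ => by rw [Polynomial.eval_mul, Polynomial.eval_C, mul_comm]
    have hne : D * MvPolynomial.rename Fin.succ D' ≠ 0 := mul_ne_zero hD fun h0 =>
      hD' (MvPolynomial.rename_injective _ (Fin.succ_injective n) (h0.trans (map_zero _).symm))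
    obtain ⟨u, hu, hune⟩ := exists_seq_ne_zero _ hne x
    have hcf : Tendsto (fun k => f (u k)) atTop (𝓝 (f x)) :=
      (((hf x hx).differentiableAt ((isOpen_ne_zero D).mem_nhds hx)).continuousAt.tendsto).comp hu
    refine tendsto_nhds_unique hcf ((((MvPolynomial.continuous_eval P).tendsto x).comp hu).congr fun k => ?_)
    have h4 := hune k
    rw [map_mul, MvPolynomial.eval_rename, mul_ne_zero_iff] at h4
    show MvPolynomial.eval (u k) P = f (u k)
    rw [← Fin.cons_self_tail (u k)]
    exact (hgood (u k 0) (Fin.tail (u k)) (by rw [Fin.cons_self_tail]; exact h4.1) h4.2).symm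

/-- The complement of a hypersurface in affine space is connected. -/
theorem isPreconnected_ne_zero {n : ℕ} (D : MvPolynomial (Fin n) ℂ) :
    IsPreconnected {z : Fin n → ℂ | MvPolynomial.eval z D ≠ 0} := by
  refine isPreconnected_of_forall_pair fun z hz w hw => ?_
  let line : ℂ → (Fin n → ℂ) := fun s i => z i + (w i - z i) * s
  let q : ℂ[X] := MvPolynomial.aeval (fun i => C (z i) + C (w i - z i) * X) D
  have hq : ∀ s, q.eval s = MvPolynomial.eval (line s) D := fun s => by
    show Polynomial.aeval s (MvPolynomial.aeval _ D) = _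
    rw [← AlgHom.comp_apply, MvPolynomial.comp_aeval, MvPolynomial.aeval_eq_eval]
    simp [line]
  have h0 : line 0 = z := funext fun i => by simp [line]
  have h1 : line 1 = w := funext fun i => by simp [line]
  have hq0 : q ≠ 0 := fun h => hz (by rw [← h0, ← hq, h, eval_zero])
  have hrank : 1 < Module.rank ℝ ℂ := by rw [Complex.rank_real_complex]; norm_num
  have hc := ((finite_setOf_isRoot hq0).countable.isPathConnected_compl_of_one_lt_rank hrank).isConnected.isPreconnected
  refine ⟨line '' {s | q.IsRoot s}ᶜ, ?_, ⟨0, ?_, h0⟩, ⟨1, ?_, h1⟩, hc.image _ (by fun_prop)⟩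
  · rintro _ ⟨s, hs, rfl⟩
    exact fun h => hs ((hq s).trans h)
  · exact fun h => hz (by rw [← h0, ← hq]; exact h)
  · exact fun h => hw (by rw [← h1, ← hq]; exact h)

end Groth.Agent.H05EGA4.AnGrowth
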