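import Groth.Agent.H05EGA4.An.Connected
import Groth.Agent.H05EGA4.An.Etale
import Groth.Agent.H05EGA4.An.Pullback
import Mathlib

/-!
Continuous lifts through etale separated morphisms on complex points come from morphisms of schemes.
-/

set_option autoImplicit false
set_option linter.style.haveILetI false
set_option linter.unusedSectionVars false

open AlgebraicGeometry CategoryTheory CategoryTheory.Limits TopologicalSpace Topology An

noncomputable section

namespace Groth.Agent.H05EGA4.AnLifts

open Groth.Agent.H05EGA4.AnPts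

variable {X Y S : Scheme.{0}} [X.Over SC] [Y.Over SC] [S.Over SC]
  [LocallyOfFiniteType (X ↘ SC)] [LocallyOfFiniteType (Y ↘ SC)] [LocallyOfFiniteType (S ↘ SC)]

theorem exists_opens_of_isClopen {C : Set (Pts X)} (hC : IsClopen C) :
    ∃ T : X.Opens, IsClosed (T : Set X) ∧ (Pts.pt ⁻¹' (T : Set X) : Set (Pts X)) = C :=
  ⟨⟨_, AnConnected.isOpen_algPart X hC⟩,
    isOpen_compl_iff.mp (AnConnected.algPart_compl X hC ▸ AnConnected.isOpen_algPart X hC.compl),
    Set.ext fun x => AnConnected.mem_algPart_pt X x⟩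

theorem eq_univ_of_pts {T : Set X} (hT : IsOpen T) (h : ∀ x : Pts X, x.pt ∈ T) : T = Set.univ := by
  by_contra hne
  obtain ⟨x, hx⟩ := exists_pts_mem hT.isClosed_compl.isLocallyClosed (Set.nonempty_compl.mpr hne)
  exact hx (h x)

theorem isIso_of_bijective_map (q : X ⟶ S) [q.IsOver SC] [Etale q] (h : Function.Bijective (Pts.map q)) : IsIso q := by
  haveI : IsLocallyNoetherian S := LocallyOfFiniteType.isLocallyNoetherian (S ↘ SC)
  haveI : Surjective q := ⟨by
    rw [← Set.range_eq_univ]
    refine eq_univ_of_pts q.isOpenMap.isOpen_range fun y => ?_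
    obtain ⟨x, rfl⟩ := h.2 y
    exact ⟨x.pt, (Pts.pt_map q x).symm⟩⟩
  haveI := locallyOfFiniteType_pullback q q
  haveI : IsOpenImmersion (pullback.diagonal q) := inferInstance
  haveI : Surjective (pullback.diagonal q) := ⟨by
    rw [← Set.range_eq_univ]
    refine eq_univ_of_pts (pullback.diagonal q).isOpenEmbedding.isOpen_range fun z => ?_
    show z ∈ Pts.pt ⁻¹' Set.range (pullback.diagonal q)
    rw [← pair_preimage_diagonal]
    exact h.1 (pair q q z).2⟩
  haveI : Epi (pullback.diagonal q).base := (TopCat.epi_iff_surjective _).mpr (pullback.diagonal q).surjective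
  haveI : IsIso (pullback.diagonal q) := IsOpenImmersion.isIso _
  haveI : Mono q := (pullback.isIso_diagonal_iff q).mp inferInstance
  haveI := IsOpenImmersion.of_flat_of_mono q
  haveI : Epi q.base := (TopCat.epi_iff_surjective _).mpr q.surjective
  exact IsOpenImmersion.isIso q

theorem exists_lift (f : X ⟶ S) (g : Y ⟶ S) [f.IsOver SC] [g.IsOver SC] [Etale g] [IsSeparated g]
    (σ : Pts X → Pts Y) (hσ : Continuous σ) (hσf : ∀ x, Pts.map g (σ x) = Pts.map f x) :
    ∃ h : X ⟶ Y, h ≫ g = f ∧ ∀ x, (σ x).1 = x.1 ≫ h := by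
  haveI := locallyOfFiniteType_pullback f g
  set p₁ := pullback.fst f g
  set p₂ := pullback.snd f g
  have hc₁ : Continuous fun z : Pts (pullback f g) => σ (Pts.map p₁ z) := hσ.comp (Pts.continuous_map p₁)
  have hc₂ : Continuous fun z : Pts (pullback f g) => Pts.map p₂ z := Pts.continuous_map p₂
  have he : Pts.map g ∘ (fun z : Pts (pullback f g) => σ (Pts.map p₁ z)) = Pts.map g ∘ fun z => Pts.map p₂ z :=
    funext fun z => (hσf _).trans (Pts.map_pullback_condition f g z)
  have hsep : IsSeparatedMap (Pts.map g) := (AnPts.isSeparated_iff g).mp inferInstance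
  have hinj : IsLocallyInjective (Pts.map g) := (AnEtale.etaleLH Y S g).isLocallyInjective
  obtain ⟨T, -, hT⟩ := exists_opens_of_isClopen
    (C := {z : Pts (pullback f g) | σ (Pts.map p₁ z) = Pts.map p₂ z})
    ⟨hsep.isClosed_eqLocus hc₁ hc₂ he, hinj.isOpen_eqLocus hc₁ hc₂ he⟩
  letI : T.toScheme.Over SC := ⟨T.ι ≫ pullback f g ↘ SC⟩
  haveI : T.ι.IsOver SC := ⟨rfl⟩
  haveI : LocallyOfFiniteType (T.toScheme ↘ SC) := by
    change LocallyOfFiniteType (T.ι ≫ pullback f g ↘ SC); infer_instance
  haveI : Etale p₁ := MorphismProperty.pullback_fst (P := @Etale) f g inferInstance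
  haveI : (T.ι ≫ p₁).IsOver SC := ⟨by rw [Category.assoc, comp_over p₁]; rfl⟩
  have hbij : Function.Bijective (Pts.map (T.ι ≫ p₁)) := by
    have hmem : ∀ w : Pts T.toScheme, σ (Pts.map p₁ (Pts.map T.ι w)) = Pts.map p₂ (Pts.map T.ι w) := fun w => by
      have h1 : Pts.map T.ι w ∈ (Pts.pt ⁻¹' (T : Set ↥(pullback f g)) : Set (Pts (pullback f g))) := by
        rw [Set.mem_preimage, Pts.pt_map]
        exact (w.pt).2
      rw [hT] at h1
      exact h1
    constructor
    · intro w w' hw
      refine map_injective_of_injective T.ι T.ι.isOpenEmbedding.injective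
        ((pair_bijective f g).1 (Subtype.ext (Prod.ext ?_ ?_)))
      · exact Subtype.ext (((Category.assoc _ _ _).trans (congrArg Subtype.val hw)).trans (Category.assoc _ _ _).symm)
      · show Pts.map p₂ (Pts.map T.ι w) = Pts.map p₂ (Pts.map T.ι w')
        rw [← hmem w, ← hmem w']
        exact congrArg σ (Subtype.ext (((Category.assoc _ _ _).trans (congrArg Subtype.val hw)).trans (Category.assoc _ _ _).symm))
    · intro x
      obtain ⟨z, hz⟩ := (pair_bijective f g).2 ⟨(x, σ x), (hσf x).symm⟩
      have h1 : Pts.map p₁ z = x := congrArg (fun q => q.1.1) hz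
      have h2 : Pts.map p₂ z = σ x := congrArg (fun q => q.1.2) hz
      have h3 : z ∈ Set.range (Pts.map T.ι) := by
        rw [range_map' T.ι, Scheme.Opens.range_ι, hT]
        show σ (Pts.map p₁ z) = Pts.map p₂ z
        rw [h1, h2]
      obtain ⟨w, rfl⟩ := h3
      exact ⟨w, Subtype.ext ((Category.assoc _ _ _).symm.trans (congrArg Subtype.val h1))⟩
  haveI := isIso_of_bijective_map (T.ι ≫ p₁) hbij
  refine ⟨inv (T.ι ≫ p₁) ≫ T.ι ≫ p₂, ?_, fun x => ?_⟩
  · rw [Category.assoc, IsIso.inv_comp_eq, Category.assoc, ← pullback.condition, Category.assoc]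
  · obtain ⟨w, rfl⟩ := hbij.2 x
    show _ = (w.1 ≫ T.ι ≫ p₁) ≫ inv (T.ι ≫ p₁) ≫ T.ι ≫ p₂
    rw [Category.assoc, IsIso.hom_inv_id_assoc]
    have h1 : Pts.map T.ι w ∈ (Pts.pt ⁻¹' (T : Set ↥(pullback f g)) : Set (Pts (pullback f g))) := by
      rw [Set.mem_preimage, Pts.pt_map]
      exact (w.pt).2
    rw [hT] at h1
    refine Eq.trans ?_ ((congrArg Subtype.val h1).trans (Category.assoc _ _ _))
    exact congrArg (fun x => (σ x).1) (Subtype.ext (Category.assoc _ _ _).symm)

theorem hom_eq_of_pts (g : Y ⟶ S) [FormallyUnramified g] [LocallyOfFiniteType g] (a b : X ⟶ Y) (h : a ≫ g = b ≫ g)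
    (hpts : ∀ x : Pts X, x.1 ≫ a = x.1 ≫ b) : a = b := by
  let l : X ⟶ pullback g g := pullback.lift a b h
  have hrange : Set.range l ⊆ Set.range (pullback.diagonal g) := by
    intro q hq
    obtain ⟨p, rfl⟩ := hq
    have h2 := eq_univ_of_pts (T := l ⁻¹' Set.range (pullback.diagonal g))
      ((pullback.diagonal g).isOpenEmbedding.isOpen_range.preimage l.continuous) fun x => by
        refine ⟨(x.1 ≫ a) cpt, ?_⟩
        show (x.1 ≫ a ≫ pullback.diagonal g) cpt = (x.1 ≫ l) cpt
        rw [show x.1 ≫ a ≫ pullback.diagonal g = x.1 ≫ l from pullback.hom_ext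
          (by simp only [Category.assoc, pullback.diagonal_fst, Category.comp_id, l, pullback.lift_fst])
          (by simp only [Category.assoc, pullback.diagonal_snd, Category.comp_id, l, pullback.lift_snd, hpts])]
    exact (h2 ▸ Set.mem_univ p : p ∈ l ⁻¹' Set.range (pullback.diagonal g))
  have hl := IsOpenImmersion.lift_fac (pullback.diagonal g) l hrange
  set m := IsOpenImmersion.lift (pullback.diagonal g) l hrange
  calc a = l ≫ pullback.fst g g := (pullback.lift_fst _ _ _).symm
    _ = m := by rw [← hl, Category.assoc, pullback.diagonal_fst, Category.comp_id]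
    _ = l ≫ pullback.snd g g := by rw [← hl, Category.assoc, pullback.diagonal_snd, Category.comp_id]
    _ = b := pullback.lift_snd _ _ _

end Groth.Agent.H05EGA4.AnLifts
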