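import Groth.Agent.H05EGA4.An.Weierstrass
import Mathlib

/-!
The ring of germs of holomorphic functions at a point of `ℂⁿ` is Noetherian.
-/

set_option autoImplicit false
set_option linter.style.haveILetI false
set_option linter.unusedSectionVars false

open Filter Topology Metric Set

noncomputable section

namespace Groth.Agent.H05EGA4.AnNoetherian

variable (E : Type) [NormedAddCommGroup E] [NormedSpace ℂ E]

/-- Germs of holomorphic functions at the origin. -/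
def hol : Subring (Germ (𝓝 (0 : E)) ℂ) where
  carrier := {a | ∃ G : E → ℂ, (∀ᶠ z in 𝓝 0, DifferentiableAt ℂ G z) ∧ a = (G : Germ (𝓝 (0 : E)) ℂ)}
  mul_mem' := by
    rintro _ _ ⟨G, hG, rfl⟩ ⟨H, hH, rfl⟩
    exact ⟨G * H, hG.mp (hH.mono fun z h2 h1 => h1.mul h2), rfl⟩
  one_mem' := ⟨1, Eventually.of_forall fun z => differentiableAt_const 1, rfl⟩
  add_mem' := by
    rintro _ _ ⟨G, hG, rfl⟩ ⟨H, hH, rfl⟩
    exact ⟨G + H, hG.mp (hH.mono fun z h2 h1 => h1.add h2), rfl⟩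
  zero_mem' := ⟨0, Eventually.of_forall fun z => differentiableAt_const 0, rfl⟩
  neg_mem' := by
    rintro _ ⟨G, hG, rfl⟩
    exact ⟨-G, hG.mono fun z h => h.neg, rfl⟩

variable {E}

/-- The germ of a function. -/
def mk (G : E → ℂ) (hG : ∀ᶠ z in 𝓝 0, DifferentiableAt ℂ G z) : hol E := ⟨(G : Germ (𝓝 (0 : E)) ℂ), G, hG, rfl⟩

theorem exists_mk (a : hol E) : ∃ G hG, a = mk G hG := by
  obtain ⟨_, G, hG, rfl⟩ := a
  exact ⟨G, hG, rfl⟩

theorem mk_eq {G H : E → ℂ} {hG : ∀ᶠ z in 𝓝 0, DifferentiableAt ℂ G z} {hH : ∀ᶠ z in 𝓝 0, DifferentiableAt ℂ H z} :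
    mk G hG = mk H hH ↔ G =ᶠ[𝓝 0] H :=
  Subtype.ext_iff.trans Germ.coe_eq

variable {E' : Type} [NormedAddCommGroup E'] [NormedSpace ℂ E']

/-- Composition with a linear map. -/
def comap (A : E →L[ℂ] E') : hol E' →+* hol E where
  toFun a := ⟨a.1.compTendsto A (A.continuous.tendsto' 0 0 (map_zero A)), by
    obtain ⟨G, hG, ha⟩ := a.2
    refine ⟨G ∘ A, ?_, by rw [ha]; rfl⟩
    exact ((A.continuous.tendsto' 0 0 (map_zero A)).eventually hG).mono fun z hz => hz.comp z A.differentiableAt⟩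
  map_one' := rfl
  map_mul' a b := by
    obtain ⟨G, hG, rfl⟩ := exists_mk a
    obtain ⟨H, hH, rfl⟩ := exists_mk b
    rfl
  map_zero' := rfl
  map_add' a b := by
    obtain ⟨G, hG, rfl⟩ := exists_mk a
    obtain ⟨H, hH, rfl⟩ := exists_mk b
    rfl

/-- Transport along a linear equivalence. -/
def congr (e : E ≃L[ℂ] E') : hol E' ≃+* hol E :=
  RingEquiv.ofRingHom (comap (e : E →L[ℂ] E')) (comap (e.symm : E' →L[ℂ] E))
    (RingHom.ext fun a => by
      obtain ⟨G, hG, rfl⟩ := exists_mk a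
      exact Subtype.ext (congrArg Germ.ofFun (funext fun z => congrArg G (e.symm_apply_apply z))))
    (RingHom.ext fun a => by
      obtain ⟨G, hG, rfl⟩ := exists_mk a
      exact Subtype.ext (congrArg Germ.ofFun (funext fun z => congrArg G (e.apply_symm_apply z))))

theorem isNoetherianRing_of_subsingleton [Subsingleton E] : IsNoetherianRing (hol E) := by
  let c : ℂ →+* hol E :=
    { toFun := fun a => mk (fun _ => a) (Eventually.of_forall fun z => differentiableAt_const a)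
      map_one' := rfl, map_mul' := fun _ _ => rfl, map_zero' := rfl, map_add' := fun _ _ => rfl }
  refine isNoetherianRing_of_surjective ℂ _ c fun a => ?_
  obtain ⟨G, hG, rfl⟩ := exists_mk a
  exact ⟨G 0, (mk_eq (hG := Eventually.of_forall fun z => differentiableAt_const (G 0)) (hH := hG)).mpr
    (Eventually.of_forall fun z => congrArg G (Subsingleton.elim 0 z))⟩

/-- A nonzero germ has finite order along some transversal line. -/
theorem exists_regular_direction {m : ℕ} {G : (Fin m → ℂ) × ℂ → ℂ}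
    (hG : ∀ᶠ z in 𝓝 0, DifferentiableAt ℂ G z) (hne : ¬ G =ᶠ[𝓝 0] 0) :
    ∃ A : ((Fin m → ℂ) × ℂ) ≃L[ℂ] ((Fin m → ℂ) × ℂ), ∃ (d : ℕ) (u : ℂ → ℂ), ContinuousAt u 0 ∧ u 0 ≠ 0 ∧
      ∀ᶠ t in 𝓝 (0 : ℂ), G (A (0, t)) = t ^ d * u t := by
  obtain ⟨r, hr, hrd⟩ := Metric.eventually_nhds_iff_ball.mp hG
  obtain ⟨z₀, hz₀, hz₀0⟩ : ∃ z₀ ∈ ball (0 : (Fin m → ℂ) × ℂ) r, G z₀ ≠ 0 := by
    by_contra hall
    simp only [not_exists, not_and, not_not] at hall
    exact hne (eventually_of_mem (ball_mem_nhds 0 hr) hall)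
  obtain ⟨v, hv, hv0, hv2⟩ : ∃ v ∈ ball (0 : (Fin m → ℂ) × ℂ) r, G v ≠ 0 ∧ v.2 ≠ 0 := by
    by_cases h2 : z₀.2 = 0
    · have hev : ∀ᶠ s in 𝓝[≠] (0 : ℂ), (z₀ + (0, s)) ∈ ball (0 : (Fin m → ℂ) × ℂ) r ∧ G (z₀ + (0, s)) ≠ 0 ∧ s ≠ 0 := by
        have hc : Tendsto (fun s : ℂ => z₀ + ((0 : Fin m → ℂ), s)) (𝓝 0) (𝓝 z₀) :=
          (continuous_const.add (continuous_const.prodMk continuous_id)).tendsto' 0 z₀ (by simp)
        filter_upwards [(hc.eventually (isOpen_ball.mem_nhds hz₀)).filter_mono nhdsWithin_le_nhds,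
          (hc.eventually ((hrd z₀ hz₀).continuousAt.eventually_ne hz₀0)).filter_mono nhdsWithin_le_nhds,
          self_mem_nhdsWithin] with s h1 h2 h3 using ⟨h1, h2, h3⟩
      obtain ⟨s, h1, h3, h4⟩ := hev.exists
      exact ⟨_, h1, h3, by simpa [h2] using h4⟩
    · exact ⟨z₀, hz₀, hz₀0, h2⟩
  let A₀ : ((Fin m → ℂ) × ℂ) ≃ₗ[ℂ] ((Fin m → ℂ) × ℂ) :=
    { toFun := fun w => (w.1 + w.2 • v.1, w.2 * v.2)
      invFun := fun w => (w.1 - (w.2 / v.2) • v.1, w.2 / v.2)
      map_add' := fun a b => by ext <;> simp <;> ring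
      map_smul' := fun c a => by ext <;> simp <;> ring
      left_inv := fun w => by ext <;> simp [hv2]
      right_inv := fun w => by ext <;> simp [hv2] }
  have hA : ∀ t : ℂ, A₀ (0, t) = t • v := fun t => by ext <;> simp [A₀]
  let h : ℂ → ℂ := fun t => G (t • v)
  have hvr : ‖v‖ < r := mem_ball_zero_iff.mp hv
  obtain ⟨ρ, hρ1, hρr⟩ : ∃ ρ : ℝ, 1 < ρ ∧ ρ * ‖v‖ < r := by
    have hc : Tendsto (fun ρ : ℝ => ρ * ‖v‖) (𝓝[>] 1) (𝓝 ‖v‖) :=
      ((continuous_id.mul continuous_const).tendsto' 1 ‖v‖ (one_mul _)).mono_left nhdsWithin_le_nhds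
    exact (eventually_mem_nhdsWithin.and (hc.eventually (Iio_mem_nhds hvr))).exists
  have hin : ∀ t ∈ ball (0 : ℂ) ρ, t • v ∈ ball (0 : (Fin m → ℂ) × ℂ) r := fun t ht => by
    rw [mem_ball_zero_iff, norm_smul]
    exact lt_of_le_of_lt (mul_le_mul_of_nonneg_right (mem_ball_zero_iff.mp ht).le (norm_nonneg _)) hρr
  have hd : DifferentiableOn ℂ h (ball 0 ρ) := fun t ht =>
    ((hrd _ (hin t ht)).comp t (f := fun t : ℂ => t • v) (differentiableAt_id.smul_const v)).differentiableWithinAt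
  have han : AnalyticOnNhd ℂ h (ball 0 ρ) := hd.analyticOnNhd isOpen_ball
  have h0m : (0 : ℂ) ∈ ball (0 : ℂ) ρ := mem_ball_self (by linarith)
  obtain ⟨d, u, hu, hu0, hev⟩ := (han 0 h0m).exists_eventuallyEq_pow_smul_nonzero_iff.mpr fun hz => by
    have h1 := han.eqOn_zero_of_preconnected_of_eventuallyEq_zero (convex_ball 0 ρ).isPreconnected h0m hz
      (show (1 : ℂ) ∈ ball (0 : ℂ) ρ by simpa using hρ1)
    exact hv0 (by simpa [h] using h1)
  refine ⟨A₀.toContinuousLinearEquiv, d, u, hu.continuousAt, hu0, ?_⟩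
  filter_upwards [hev] with t ht
  show G (A₀ (0, t)) = _
  rw [hA]
  simpa [h] using ht

theorem isNoetherianRing_succ {m : ℕ} [IsNoetherianRing (hol (Fin m → ℂ))] : IsNoetherianRing (hol ((Fin m → ℂ) × ℂ)) := by
  refine isNoetherianRing_iff_ideal_fg _ |>.mpr fun I => ?_
  by_cases hI : I = ⊥
  · rw [hI]; exact Submodule.fg_bot
  obtain ⟨a, haI, ha0⟩ := Submodule.exists_mem_ne_zero_of_ne_bot hI
  obtain ⟨G, hG, rfl⟩ := exists_mk a
  have hne : ¬ G =ᶠ[𝓝 0] 0 := fun h => ha0 ((mk_eq (hH := Eventually.of_forall fun z => differentiableAt_const 0)).mpr h)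
  obtain ⟨A, d, u, hu, hu0, hud⟩ := exists_regular_direction hG hne
  let T := congr A
  suffices hfg : (I.map T.toRingHom).FG by
    obtain ⟨s, hs⟩ := hfg
    classical
    refine ⟨s.image T.symm, ?_⟩
    rw [Finset.coe_image]
    show Ideal.span (T.symm.toRingHom '' (s : Set (hol ((Fin m → ℂ) × ℂ)))) = I
    rw [← Ideal.map_span, show Ideal.span (s : Set (hol ((Fin m → ℂ) × ℂ))) = I.map T.toRingHom from hs, Ideal.map_map]
    convert Ideal.map_id I
    exact RingHom.ext fun x => T.symm_apply_apply x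
  set F : hol ((Fin m → ℂ) × ℂ) := T (mk G hG) with hF
  have hFI : F ∈ I.map T.toRingHom := Ideal.mem_map_of_mem _ haI
  have hGA : ∀ᶠ z in 𝓝 (0 : (Fin m → ℂ) × ℂ), DifferentiableAt ℂ (G ∘ A) z :=
    ((A.continuous.tendsto' 0 0 (map_zero A)).eventually hG).mono fun z hz => hz.comp z A.differentiableAt
  let π : hol (Fin m → ℂ) →+* hol ((Fin m → ℂ) × ℂ) := comap (ContinuousLinearMap.fst ℂ (Fin m → ℂ) ℂ)
  let τ : hol ((Fin m → ℂ) × ℂ) := mk Prod.snd (Eventually.of_forall fun z => differentiableAt_snd)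
  have hdiv : ∀ g, ∃ b : Fin d → hol (Fin m → ℂ), g - ∑ i, π (b i) * τ ^ (i : ℕ) ∈ Ideal.span {F} := by
    intro g
    obtain ⟨g, hg, rfl⟩ := exists_mk g
    obtain ⟨r, hr, hrd⟩ := Metric.eventually_nhds_iff_ball.mp (hg.and hGA)
    have hb : ball (0 : Fin m → ℂ) r ×ˢ ball (0 : ℂ) r = ball (0 : (Fin m → ℂ) × ℂ) r := ball_prod_same _ _ _
    obtain ⟨ε, hε, q, hq, b, hbd, heq⟩ := AnWeierstrass.weierstrass_division (d := d) hr hr
      (f := G ∘ A) (fun w hw => (hrd w (hb ▸ hw)).2.differentiableWithinAt) hu hu0 hud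
      (g := g) (fun w hw => (hrd w (hb ▸ hw)).1.differentiableWithinAt)
    have hqe : ∀ᶠ z in 𝓝 (0 : (Fin m → ℂ) × ℂ), DifferentiableAt ℂ q z :=
      eventually_of_mem ((isOpen_ball.prod isOpen_ball).mem_nhds ⟨mem_ball_self hε, mem_ball_self hε⟩)
        fun z hz => hq.differentiableAt ((isOpen_ball.prod isOpen_ball).mem_nhds hz)
    have hbe : ∀ i, ∀ᶠ z in 𝓝 (0 : Fin m → ℂ), DifferentiableAt ℂ (b i) z := fun i =>
      eventually_of_mem (ball_mem_nhds 0 hε) fun z hz => (hbd i).differentiableAt (isOpen_ball.mem_nhds hz)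
    refine ⟨fun i => mk (b i) (hbe i), Ideal.mem_span_singleton'.mpr ⟨mk q hqe, ?_⟩⟩
    have hsum : ∀ S : Finset (Fin d), ((∑ i ∈ S, π (mk (b i) (hbe i)) * τ ^ (i : ℕ) : hol ((Fin m → ℂ) × ℂ)) :
        Germ (𝓝 (0 : (Fin m → ℂ) × ℂ)) ℂ) =
          (((fun w => ∑ i ∈ S, b i w.1 * w.2 ^ (i : ℕ)) : (Fin m → ℂ) × ℂ → ℂ) : Germ _ ℂ) := by
      intro S
      induction S using Finset.induction_on with
      | empty => simp only [Finset.sum_empty]; rfl
      | insert i S hi ih =>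
        simp only [Finset.sum_insert hi]
        rw [Subring.coe_add, ih, Subring.coe_mul, Subring.coe_pow]
        rfl
    refine eq_sub_iff_add_eq.mpr (Subtype.ext ?_)
    rw [Subring.coe_add, hsum Finset.univ]
    refine Germ.coe_eq.mpr ?_
    filter_upwards [(isOpen_ball.prod isOpen_ball).mem_nhds
      (show ((0 : Fin m → ℂ), (0 : ℂ)) ∈ ball (0 : Fin m → ℂ) ε ×ˢ ball (0 : ℂ) ε from ⟨mem_ball_self hε, mem_ball_self hε⟩)] with w hw
    exact (heq w.1 hw.1 w.2 hw.2).symm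
  let mkF := Ideal.Quotient.mk (Ideal.span {F})
  letI : Algebra (hol (Fin m → ℂ)) (hol ((Fin m → ℂ) × ℂ) ⧸ Ideal.span {F}) := (mkF.comp π).toAlgebra
  haveI : Module.Finite (hol (Fin m → ℂ)) (hol ((Fin m → ℂ) × ℂ) ⧸ Ideal.span {F}) := by
    classical
    refine ⟨⟨Finset.univ.image fun i : Fin d => mkF (τ ^ (i : ℕ)), eq_top_iff.mpr fun x _ => ?_⟩⟩
    obtain ⟨g, rfl⟩ := Ideal.Quotient.mk_surjective x
    obtain ⟨b, hb⟩ := hdiv g
    rw [← Ideal.Quotient.eq.mpr (show g - ∑ i, π (b i) * τ ^ (i : ℕ) ∈ Ideal.span {F} from hb) |>.symm, map_sum]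
    refine Submodule.sum_mem _ fun i _ => ?_
    rw [map_mul, show mkF (π (b i)) * mkF (τ ^ (i : ℕ)) = b i • mkF (τ ^ (i : ℕ)) from (Algebra.smul_def _ _).symm]
    exact Submodule.smul_mem _ _ (Submodule.subset_span (Finset.mem_coe.mpr (Finset.mem_image.mpr ⟨i, Finset.mem_univ _, rfl⟩)))
  haveI : IsNoetherianRing (hol ((Fin m → ℂ) × ℂ) ⧸ Ideal.span {F}) := IsNoetherianRing.of_finite (hol (Fin m → ℂ)) _
  obtain ⟨s, hs⟩ := IsNoetherian.noetherian ((I.map T.toRingHom).map mkF)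
  classical
  choose! l hl hls using fun y (hy : y ∈ s) => (Ideal.mem_map_iff_of_surjective mkF Ideal.Quotient.mk_surjective).mp
    (show y ∈ (I.map T.toRingHom).map mkF from hs ▸ Submodule.subset_span hy)
  refine ⟨insert F (s.image l), le_antisymm ?_ fun x hx => ?_⟩
  · rw [Submodule.span_le, Finset.coe_insert, Finset.coe_image, Set.insert_subset_iff]
    exact ⟨hFI, by rintro _ ⟨y, hy, rfl⟩; exact hl y hy⟩
  · have h1 : mkF x ∈ (Ideal.span (↑(s.image l) : Set (hol ((Fin m → ℂ) × ℂ)))).map mkF := by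
      rw [Ideal.map_span, Finset.coe_image, Set.image_image, Set.image_congr fun y hy => hls y hy, Set.image_id']
      exact hs.ge (Ideal.mem_map_of_mem mkF hx)
    obtain ⟨y, hy, hyx⟩ := (Ideal.mem_map_iff_of_surjective mkF Ideal.Quotient.mk_surjective).mp h1
    rw [Finset.coe_insert]
    show x ∈ Submodule.span _ (insert F (↑(s.image l) : Set (hol ((Fin m → ℂ) × ℂ))))
    rw [Submodule.span_insert]
    rw [show x = (x - y) + y by ring]
    exact add_mem (Submodule.mem_sup_left (Ideal.Quotient.eq.mp hyx.symm)) (Submodule.mem_sup_right hy)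

theorem isNoetherianRing_hol (n : ℕ) : IsNoetherianRing (hol (Fin n → ℂ)) := by
  induction n with
  | zero => exact isNoetherianRing_of_subsingleton
  | succ m ih =>
    haveI := ih
    haveI := isNoetherianRing_succ (m := m)
    let e₀ : (Fin (m + 1) → ℂ) ≃ₗ[ℂ] (Fin m → ℂ) × ℂ :=
      { toFun := fun w => (Fin.tail w, w 0)
        invFun := fun p => Fin.cons p.2 p.1
        map_add' := fun _ _ => rfl
        map_smul' := fun _ _ => rfl
        left_inv := fun w => Fin.cons_self_tail w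
        right_inv := fun p => by simp }
    exact isNoetherianRing_of_ringEquiv _ (congr e₀.toContinuousLinearEquiv)

end Groth.Agent.H05EGA4.AnNoetherian
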