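import Groth.Agent.H05EGA4.An.Pullback
import Groth.Agent.H11Val.Criteria
import Mathlib

/-!
Proper morphisms and proper maps of spaces of `ℂ`-points.
-/

set_option autoImplicit false
set_option linter.style.haveILetI false
set_option linter.unusedSectionVars false

open AlgebraicGeometry CategoryTheory TopologicalSpace Topology Filter An

noncomputable section

namespace Groth.Agent.H05EGA4.AnPts

section Eval

variable {Z : Scheme.{0}}

/-- Evaluation of sections at a point with values in a ring. -/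
def evR {R : CommRingCat.{0}} (m : Spec R ⟶ Z) (W : Z.Opens) (h : ⊤ ≤ m ⁻¹ᵁ W) : Γ(Z, W) →+* R :=
  (m.appLE W ⊤ h ≫ (Scheme.ΓSpecIso R).hom).hom

theorem evR_res {R : CommRingCat.{0}} (m : Spec R ⟶ Z) {U V : Z.Opens} (hVU : V ≤ U) (hU : ⊤ ≤ m ⁻¹ᵁ U)
    (hV : ⊤ ≤ m ⁻¹ᵁ V) (f : Γ(Z, U)) :
    evR m V hV (Z.presheaf.map (homOfLE hVU).op f) = evR m U hU f := by
  show (Z.presheaf.map (homOfLE hVU).op ≫ m.appLE V ⊤ hV ≫ (Scheme.ΓSpecIso R).hom) f = _
  rw [Scheme.Hom.map_appLE_assoc]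
  rfl

theorem evR_congr {R : CommRingCat.{0}} {m m' : Spec R ⟶ Z} (hm : m = m') (W : Z.Opens) (h : ⊤ ≤ m ⁻¹ᵁ W)
    (h' : ⊤ ≤ m' ⁻¹ᵁ W) : evR m W h = evR m' W h' := by
  subst hm; rfl

theorem evR_comp {R S : CommRingCat.{0}} (θ : R ⟶ S) (m : Spec R ⟶ Z) (W : Z.Opens) (h : ⊤ ≤ m ⁻¹ᵁ W)
    (h' : ⊤ ≤ (Spec.map θ ≫ m) ⁻¹ᵁ W) :
    evR (Spec.map θ ≫ m) W h' = θ.hom.comp (evR m W h) := by
  have h1 : (Spec.map θ ≫ m).appLE W ⊤ h' = m.appLE W ⊤ h ≫ (Spec.map θ).appTop := by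
    rw [show (Spec.map θ).appTop = (Spec.map θ).appLE ⊤ ⊤ le_top from (Scheme.Hom.app_eq_appLE _), Scheme.Hom.appLE_comp_appLE]
  show ((Spec.map θ ≫ m).appLE W ⊤ h' ≫ (Scheme.ΓSpecIso S).hom).hom =
    ((m.appLE W ⊤ h ≫ (Scheme.ΓSpecIso R).hom) ≫ θ).hom
  rw [h1, Category.assoc, Category.assoc, Scheme.ΓSpecIso_naturality]

theorem preimage_fromSpec {U : Z.Opens} (hU : IsAffineOpen U) {S : CommRingCat.{0}} (φ : Γ(Z, U) ⟶ S) :
    ⊤ ≤ (Spec.map φ ≫ hU.fromSpec) ⁻¹ᵁ U := by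
  rw [Scheme.Hom.comp_preimage, hU.fromSpec_preimage_self]
  simp

theorem evR_fromSpec {U : Z.Opens} (hU : IsAffineOpen U) {S : CommRingCat.{0}} (φ : Γ(Z, U) ⟶ S) :
    evR (Spec.map φ ≫ hU.fromSpec) U (preimage_fromSpec hU φ) = φ.hom := by
  have h : ⊤ ≤ hU.fromSpec ⁻¹ᵁ U := hU.fromSpec_preimage_self.ge
  rw [evR_comp φ hU.fromSpec U h]
  have h1 : hU.fromSpec.appLE U ⊤ h ≫ (Scheme.ΓSpecIso Γ(Z, U)).hom = 𝟙 _ := by
    rw [Scheme.Hom.appLE, hU.fromSpec_app_self, Category.assoc, Category.assoc, ← Functor.map_comp_assoc,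
      Subsingleton.elim (_ ≫ _ : Opposite.op (⊤ : (Spec Γ(Z, U)).Opens) ⟶ Opposite.op (⊤ : (Spec Γ(Z, U)).Opens)) (𝟙 _),
      CategoryTheory.Functor.map_id, Category.id_comp, Iso.inv_hom_id]
  rw [show evR hU.fromSpec U h = RingHom.id _ from congrArg (fun q => CommRingCat.Hom.hom q) h1, RingHom.comp_id]

theorem top_le_of_closedPoint {R : Type} [CommRing R] [IsLocalRing R] (m : Spec (CommRingCat.of R) ⟶ Z) (W : Z.Opens)
    (h : m (IsLocalRing.closedPoint R) ∈ W) : ⊤ ≤ m ⁻¹ᵁ W :=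
  fun p _ => ((IsLocalRing.specializes_closedPoint p).map m.continuous).mem_open W.2 h

end Eval

variable {X Y : Scheme.{0}} [X.Over SC] [Y.Over SC] [LocallyOfFiniteType (X ↘ SC)] [LocallyOfFiniteType (Y ↘ SC)]

open Classical in
/-- Evaluation extended by zero. -/
def evZ (U : X.Opens) (a : Γ(X, U)) (x : Pts X) : ℂ := if h : x.pt ∈ U then x.ev U h a else 0

theorem evZ_of_mem {U : X.Opens} (a : Γ(X, U)) {x : Pts X} (h : x.pt ∈ U) : evZ U a x = x.ev U h a := dif_pos h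

theorem eq_fromSpec {U : X.Opens} (hU : IsAffineOpen U) (x : Pts X) (h : x.pt ∈ U) :
    x.1 = Spec.map (CommRingCat.ofHom (evHom x U h)) ≫ hU.fromSpec := by
  have h1 := IsAffineOpen.SpecMap_appLE_fromSpec x.1 hU (isAffineOpen_top SC) (Pts.top_le_preimage x h)
  rw [IsAffineOpen.fromSpec_top, Scheme.isoSpec_Spec_inv] at h1
  have h2 : CommRingCat.ofHom (evHom x U h) = x.1.appLE U ⊤ (Pts.top_le_preimage x h) ≫ (Scheme.ΓSpecIso (CommRingCat.of ℂ)).hom := rfl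
  rw [h2, Spec.map_comp, Category.assoc, h1, ← Category.assoc, ← Spec.map_comp, Iso.inv_hom_id, Spec.map_id,
    Category.id_comp]

section Limit

variable (𝒰 : Ultrafilter (Pts X))

/-- The germs having a finite limit. -/
def boundedGerms : ValuationSubring ((𝒰 : Filter (Pts X)).Germ ℂ) where
  carrier := {a | ∃ c, a.Tendsto (𝓝 c)}
  zero_mem' := ⟨0, tendsto_const_nhds⟩
  one_mem' := ⟨1, tendsto_const_nhds⟩
  add_mem' {a b} := by
    induction a using Filter.Germ.inductionOn with | _ f => ?_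
    induction b using Filter.Germ.inductionOn with | _ g => ?_
    rintro ⟨c, hc⟩ ⟨d, hd⟩
    exact ⟨c + d, Tendsto.add hc hd⟩
  mul_mem' {a b} := by
    induction a using Filter.Germ.inductionOn with | _ f => ?_
    induction b using Filter.Germ.inductionOn with | _ g => ?_
    rintro ⟨c, hc⟩ ⟨d, hd⟩
    exact ⟨c * d, Tendsto.mul hc hd⟩
  neg_mem' {a} := by
    induction a using Filter.Germ.inductionOn with | _ f => ?_
    rintro ⟨c, hc⟩
    exact ⟨-c, Tendsto.neg hc⟩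
  mem_or_inv_mem' a := by
    induction a using Filter.Germ.inductionOn with | _ f => ?_
    have key : ∀ g : Pts X → ℂ, (∀ᶠ x in (𝒰 : Filter (Pts X)), ‖g x‖ ≤ 1) → ∃ c, Tendsto g 𝒰 (𝓝 c) := fun g hg => by
      obtain ⟨c, -, hc⟩ := (isCompact_closedBall (0 : ℂ) 1).ultrafilter_le_nhds (𝒰.map g) (le_principal_iff.mpr (by
        show g ⁻¹' Metric.closedBall 0 1 ∈ (𝒰 : Filter (Pts X))
        exact hg.mono fun x hx => mem_closedBall_zero_iff.mpr hx))
      exact ⟨c, hc⟩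
    rcases 𝒰.em (fun x => ‖f x‖ ≤ 1) with h | h
    · exact Or.inl (key f h)
    · refine Or.inr (key (fun x => (f x)⁻¹) (h.mono fun x hx => ?_))
      rw [norm_inv]
      exact inv_le_one_of_one_le₀ (not_le.mp hx).le

theorem exists_tendsto (a : boundedGerms 𝒰) : ∃ c, (a : (𝒰 : Filter (Pts X)).Germ ℂ).Tendsto (𝓝 c) := a.2

theorem unique_tendsto {a : (𝒰 : Filter (Pts X)).Germ ℂ} {c d : ℂ} (hc : a.Tendsto (𝓝 c)) (hd : a.Tendsto (𝓝 d)) :
    c = d := by
  induction a using Filter.Germ.inductionOn with | _ f => ?_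
  exact tendsto_nhds_unique hc hd

/-- The limit of a bounded germ. -/
def standardPart : boundedGerms 𝒰 →+* ℂ where
  toFun a := (exists_tendsto 𝒰 a).choose
  map_one' := unique_tendsto 𝒰 (exists_tendsto 𝒰 1).choose_spec tendsto_const_nhds
  map_zero' := unique_tendsto 𝒰 (exists_tendsto 𝒰 0).choose_spec tendsto_const_nhds
  map_add' a b := by
    refine unique_tendsto 𝒰 (exists_tendsto 𝒰 (a + b)).choose_spec ?_
    have ha := (exists_tendsto 𝒰 a).choose_spec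
    have hb := (exists_tendsto 𝒰 b).choose_spec
    show ((a : (𝒰 : Filter (Pts X)).Germ ℂ) + b).Tendsto _
    revert ha hb
    generalize (exists_tendsto 𝒰 a).choose = c
    generalize (exists_tendsto 𝒰 b).choose = d
    generalize (a : (𝒰 : Filter (Pts X)).Germ ℂ) = a'
    generalize (b : (𝒰 : Filter (Pts X)).Germ ℂ) = b'
    induction a' using Filter.Germ.inductionOn with | _ f => ?_
    induction b' using Filter.Germ.inductionOn with | _ g => ?_
    exact fun hc hd => Tendsto.add hc hd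
  map_mul' a b := by
    refine unique_tendsto 𝒰 (exists_tendsto 𝒰 (a * b)).choose_spec ?_
    have ha := (exists_tendsto 𝒰 a).choose_spec
    have hb := (exists_tendsto 𝒰 b).choose_spec
    show ((a : (𝒰 : Filter (Pts X)).Germ ℂ) * b).Tendsto _
    revert ha hb
    generalize (exists_tendsto 𝒰 a).choose = c
    generalize (exists_tendsto 𝒰 b).choose = d
    generalize (a : (𝒰 : Filter (Pts X)).Germ ℂ) = a'
    generalize (b : (𝒰 : Filter (Pts X)).Germ ℂ) = b'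
    induction a' using Filter.Germ.inductionOn with | _ f => ?_
    induction b' using Filter.Germ.inductionOn with | _ g => ?_
    exact fun hc hd => Tendsto.mul hc hd

theorem standardPart_spec (a : boundedGerms 𝒰) :
    (a : (𝒰 : Filter (Pts X)).Germ ℂ).Tendsto (𝓝 (standardPart 𝒰 a)) := (exists_tendsto 𝒰 a).choose_spec

/-- The germ of a section along an ultrafilter concentrated on its domain. -/
def germHom (U : X.Opens) (hU : ∀ᶠ x in (𝒰 : Filter (Pts X)), x.pt ∈ U) : Γ(X, U) →+* (𝒰 : Filter (Pts X)).Germ ℂ where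
  toFun a := ↑(evZ U a)
  map_one' := Germ.coe_eq.mpr (hU.mono fun x hx => by rw [evZ_of_mem _ hx]; exact map_one (evHom x U hx))
  map_zero' := Germ.coe_eq.mpr (hU.mono fun x hx => by rw [evZ_of_mem _ hx]; exact map_zero (evHom x U hx))
  map_add' a b := Germ.coe_eq.mpr (hU.mono fun x hx => by
    simp only [Pi.add_apply, evZ_of_mem _ hx]; exact map_add (evHom x U hx) a b)
  map_mul' a b := Germ.coe_eq.mpr (hU.mono fun x hx => by
    simp only [Pi.mul_apply, evZ_of_mem _ hx]; exact map_mul (evHom x U hx) a b)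

theorem eventually_mem_and_germ_eq {U : X.Opens} (hU : IsAffineOpen U) (hUmem : ∀ᶠ x in (𝒰 : Filter (Pts X)), x.pt ∈ U)
    (W : X.Opens) (hW : ⊤ ≤ (Spec.map (CommRingCat.ofHom (germHom 𝒰 U hUmem)) ≫ hU.fromSpec) ⁻¹ᵁ W) (a : Γ(X, W)) :
    (∀ᶠ x in (𝒰 : Filter (Pts X)), x.pt ∈ W) ∧
      (↑(evZ W a) : (𝒰 : Filter (Pts X)).Germ ℂ) =
        evR (Spec.map (CommRingCat.ofHom (germHom 𝒰 U hUmem)) ≫ hU.fromSpec) W hW a := by
  let j := Spec.map (CommRingCat.ofHom (germHom 𝒰 U hUmem)) ≫ hU.fromSpec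
  have hjU : ⊤ ≤ j ⁻¹ᵁ U := preimage_fromSpec hU _
  let pK := IsLocalRing.closedPoint ((𝒰 : Filter (Pts X)).Germ ℂ)
  obtain ⟨g, hgW, hjg⟩ := hU.exists_basicOpen_le (V := W) ⟨j pK, hW (Opens.mem_top _)⟩
    (hjU (Opens.mem_top _))
  haveI := hU.isLocalization_basicOpen g
  have hjD : ⊤ ≤ j ⁻¹ᵁ X.basicOpen g := top_le_of_closedPoint j _ hjg
  have hres : ∀ b : Γ(X, U), evR j (X.basicOpen g) hjD (algebraMap Γ(X, U) Γ(X, X.basicOpen g) b) = germHom 𝒰 U hUmem b := fun b => by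
    refine (evR_res j (X.basicOpen_le g) hjU hjD b).trans ?_
    rw [evR_fromSpec hU]
    rfl
  have hgne : germHom 𝒰 U hUmem g ≠ 0 := by
    rw [← hres g]
    exact ((IsLocalization.Away.algebraMap_isUnit (S := Γ(X, X.basicOpen g)) g).map _).ne_zero
  have hD : ∀ᶠ x in (𝒰 : Filter (Pts X)), x.pt ∈ X.basicOpen g := by
    rcases 𝒰.em (fun x => evZ U g x = 0) with h | h
    · exact absurd (Germ.coe_eq.mpr h : (↑(evZ U g) : (𝒰 : Filter (Pts X)).Germ ℂ) = ↑(0 : Pts X → ℂ)) hgne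
    · filter_upwards [h, hUmem] with x hx hxU
      rw [evZ_of_mem _ hxU] at hx
      exact (mem_basicOpen_iff x hxU g).mpr hx
  refine ⟨hD.mono fun x hx => hgW hx, ?_⟩
  obtain ⟨n, b, hb⟩ := IsLocalization.Away.surj g (X.presheaf.map (homOfLE hgW).op a)
  have h1 := congrArg (evR j (X.basicOpen g) hjD) hb
  rw [map_mul, map_pow, hres, hres, evR_res j hgW hW hjD a] at h1
  refine mul_right_cancel₀ (pow_ne_zero n hgne) ?_
  rw [h1]
  show (↑(evZ W a) : (𝒰 : Filter (Pts X)).Germ ℂ) * (↑(evZ U g) : (𝒰 : Filter (Pts X)).Germ ℂ) ^ n = ↑(evZ U b)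
  rw [← Germ.coe_pow, ← Germ.coe_mul]
  refine Germ.coe_eq.mpr ?_
  filter_upwards [hD, hUmem] with x hxD hxU
  simp only [Pi.mul_apply, Pi.pow_apply, evZ_of_mem _ hxU, evZ_of_mem _ (hgW hxD)]
  have h2 := congrArg (evHom x (X.basicOpen g) hxD) hb
  have h3 : ∀ c : Γ(X, U), evHom x (X.basicOpen g) hxD (algebraMap Γ(X, U) Γ(X, X.basicOpen g) c) = x.ev U hxU c :=
    fun c => ev_res x (X.basicOpen_le g) hxD c
  rw [map_mul, map_pow, h3, h3, show evHom x (X.basicOpen g) hxD (X.presheaf.map (homOfLE hgW).op a) = x.ev W (hgW hxD) a from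
    ev_res x hgW hxD a] at h2
  exact h2

end Limit

theorem tendsto_evZ {ι : Type*} {l : Filter ι} {m : ι → Pts Y} {y : Pts Y} (hm : Tendsto m l (𝓝 y)) {V : Y.Opens}
    (hy : y.pt ∈ V) (b : Γ(Y, V)) : Tendsto (fun i => evZ V b (m i)) l (𝓝 (y.ev V hy b)) := by
  intro s hs
  obtain ⟨O, hOs, hO, hyO⟩ := mem_nhds_iff.mp hs
  refine mem_map.mpr ?_
  filter_upwards [mem_map.mp (hm ((Pts.isOpen_basicSet V b hO).mem_nhds ⟨hy, hyO⟩))] with i hi
  obtain ⟨h1, h2⟩ := hi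
  show evZ V b (m i) ∈ s
  rw [evZ_of_mem _ h1]
  exact hOs h2

theorem isProperMap_map (f : X ⟶ Y) [f.IsOver SC] [IsProper f] : IsProperMap (Pts.map f) := by
  refine isProperMap_iff_ultrafilter.mpr ⟨Pts.continuous_map f, fun 𝒰 y hy => ?_⟩
  obtain ⟨V, hV, hyV, -⟩ := exists_isAffineOpen_mem_and_subset (x := y.pt) (U := (⊤ : Y.Opens)) trivial
  have hVmem : ∀ᶠ x in (𝒰 : Filter (Pts X)), (Pts.map f x).pt ∈ V :=
    hy ((Pts.isOpen_preimage_pt V).mem_nhds hyV)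
  obtain ⟨s, hs, heq⟩ := (isCompact_and_isOpen_iff_finite_and_eq_biUnion_affineOpens (U := ((f ⁻¹ᵁ V : X.Opens) : Set X))).mp
    ⟨f.isCompact_preimage hV.isCompact, (f ⁻¹ᵁ V).2⟩
  obtain ⟨U, hUs, hUmem⟩ : ∃ U ∈ s, ∀ᶠ x in (𝒰 : Filter (Pts X)), x.pt ∈ U.1 := by
    refine (Ultrafilter.finite_biUnion_mem_iff hs).mp ?_
    refine mem_of_superset hVmem fun x hx => ?_
    have hx' : f x.pt ∈ V := by rw [← Pts.pt_map]; exact hx
    have : x.pt ∈ ⋃ U ∈ s, ((U : X.Opens) : Set X) := heq ▸ (show x.pt ∈ ((f ⁻¹ᵁ V : X.Opens) : Set X) from hx')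
    simpa using this
  have hUV : U.1 ≤ f ⁻¹ᵁ V := fun p hp => by
    show p ∈ ((f ⁻¹ᵁ V : X.Opens) : Set X)
    rw [heq]
    exact Set.mem_biUnion hUs hp
  let O := boundedGerms 𝒰
  let φV : Γ(Y, V) →+* O :=
    ((germHom 𝒰 U.1 hUmem).comp (f.appLE V U.1 hUV).hom).codRestrict O fun b => ⟨y.ev V hyV b, by
      show Tendsto (evZ U.1 (f.appLE V U.1 hUV b)) 𝒰 _
      refine (tendsto_evZ hy hyV b).congr' ?_
      filter_upwards [hUmem, hVmem] with x hxU hxV
      rw [evZ_of_mem _ hxU, evZ_of_mem _ hxV, Pts.ev_map]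
      exact (ev_res x hUV hxU (f.app V b)).symm⟩
  have hφV : ∀ b, standardPart 𝒰 (φV b) = y.ev V hyV b := fun b => by
    refine unique_tendsto 𝒰 (standardPart_spec 𝒰 (φV b)) ?_
    show Tendsto (evZ U.1 (f.appLE V U.1 hUV b)) 𝒰 _
    refine (tendsto_evZ hy hyV b).congr' ?_
    filter_upwards [hUmem, hVmem] with x hxU hxV
    rw [evZ_of_mem _ hxU, evZ_of_mem _ hxV, Pts.ev_map]
    exact (ev_res x hUV hxU (f.app V b)).symm
  let j := Spec.map (CommRingCat.ofHom (germHom 𝒰 U.1 hUmem)) ≫ U.2.fromSpec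
  let i₂ := Spec.map (CommRingCat.ofHom φV) ≫ hV.fromSpec
  have hcomm : CommSq j (Spec.map (CommRingCat.ofHom (algebraMap O ((𝒰 : Filter (Pts X)).Germ ℂ)))) f i₂ := ⟨by
    show (Spec.map _ ≫ U.2.fromSpec) ≫ f = Spec.map _ ≫ (Spec.map _ ≫ hV.fromSpec)
    rw [Category.assoc, ← IsAffineOpen.SpecMap_appLE_fromSpec f hV U.2 hUV, ← Category.assoc, ← Category.assoc,
      ← Spec.map_comp, ← Spec.map_comp]
    rfl⟩
  have hex : ValuativeCriterion.Existence f := by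
    have : UniversallyClosed f := inferInstance
    rw [UniversallyClosed.eq_valuativeCriterion] at this
    exact this.1
  obtain ⟨l, hl₁, hl₂⟩ := (hex ⟨O, (𝒰 : Filter (Pts X)).Germ ℂ, j, i₂, hcomm⟩).exists_lift
  let st : CommRingCat.of O ⟶ CommRingCat.of ℂ := CommRingCat.ofHom (standardPart 𝒰)
  let x₀ : SC ⟶ X := Spec.map st ≫ l
  have hx₀f : x₀ ≫ f = y.1 := by
    rw [Category.assoc, hl₂, eq_fromSpec hV y hyV]
    show Spec.map st ≫ Spec.map (CommRingCat.ofHom φV) ≫ hV.fromSpec = _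
    rw [← Category.assoc, ← Spec.map_comp]
    congr 2
    ext b
    exact hφV b
  have hx₀ : x₀ ≫ (X ↘ SC) = 𝟙 SC := by
    rw [← comp_over f, ← Category.assoc, hx₀f]
    exact y.2
  refine ⟨⟨x₀, hx₀⟩, Subtype.ext hx₀f, ?_⟩
  refine tendsto_id'.mp (tendsto_nhds_generateFrom_iff.mpr ?_)
  rintro _ ⟨W, a, T, hT, rfl⟩ ⟨hxW, hxT⟩
  have hcl : IsLocalRing.closedPoint O = Spec.map st cpt := by
    refine (IsLocalRing.closedPoint O).ext ?_
    haveI : (RingHom.ker (standardPart 𝒰)).IsMaximal := RingHom.ker_isMaximal_of_surjective _ fun c =>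
      ⟨⟨(↑(fun _ : Pts X => c) : (𝒰 : Filter (Pts X)).Germ ℂ), c, tendsto_const_nhds⟩,
        unique_tendsto 𝒰 (standardPart_spec 𝒰 _) tendsto_const_nhds⟩
    have h0 : (cpt : PrimeSpectrum ℂ).asIdeal = ⊥ := (Ideal.eq_bot_or_top _).resolve_right (PrimeSpectrum.isPrime _).ne_top
    show _ = (cpt : PrimeSpectrum ℂ).asIdeal.comap (standardPart 𝒰)
    rw [h0]
    exact (IsLocalRing.eq_maximalIdeal ‹_›).symm
  have hlW : ⊤ ≤ l ⁻¹ᵁ W := top_le_of_closedPoint l W (by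
    rw [hcl]
    exact hxW)
  have hjW : ⊤ ≤ (Spec.map (CommRingCat.ofHom (algebraMap O ((𝒰 : Filter (Pts X)).Germ ℂ))) ≫ l) ⁻¹ᵁ W :=
    fun p _ => hlW (show _ ∈ (⊤ : (Spec (CommRingCat.of O)).Opens) from trivial)
  have hl₁' : Spec.map (CommRingCat.ofHom (algebraMap O ((𝒰 : Filter (Pts X)).Germ ℂ))) ≫ l = j := hl₁
  obtain ⟨hev, hgerm⟩ := eventually_mem_and_germ_eq 𝒰 U.2 hUmem W (show ⊤ ≤ j ⁻¹ᵁ W from hl₁' ▸ hjW) a
  rw [evR_congr hl₁'.symm W _ hjW, evR_comp _ l W hlW] at hgerm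
  have hlim : Tendsto (evZ W a) 𝒰 (𝓝 (Pts.ev (X := X) ⟨x₀, hx₀⟩ W hxW a)) := by
    rw [show Pts.ev (X := X) ⟨x₀, hx₀⟩ W hxW a = standardPart 𝒰 (evR l W hlW a) from
      RingHom.congr_fun (evR_comp st l W hlW (Pts.top_le_preimage (X := X) ⟨x₀, hx₀⟩ hxW)) a]
    show (↑(evZ W a) : (𝒰 : Filter (Pts X)).Germ ℂ).Tendsto _
    rw [hgerm]
    exact standardPart_spec 𝒰 _
  filter_upwards [hev, hlim (hT.mem_nhds hxT)] with x hx hxa
  refine ⟨hx, ?_⟩
  show x.ev W hx a ∈ T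
  rw [← evZ_of_mem a hx]
  exact hxa

section Converse

theorem isProperMap_snd {A B C : Type*} [TopologicalSpace A] [TopologicalSpace B] [TopologicalSpace C]
    {p : A → C} {q : B → C} (hp : IsProperMap p) (hq : Continuous q) :
    IsProperMap (fun z : {z : A × B // p z.1 = q z.2} => z.1.2) := by
  refine isProperMap_iff_ultrafilter.mpr ⟨continuous_snd.comp continuous_subtype_val, fun 𝒰 b hb => ?_⟩
  have h1 : Tendsto p (↑(𝒰.map fun z : {z : A × B // p z.1 = q z.2} => z.1.1) : Filter A) (𝓝 (q b)) := by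
    rw [Ultrafilter.coe_map]
    rw [tendsto_map'_iff]
    exact ((hq.tendsto b).comp hb).congr fun z => z.2.symm
  obtain ⟨a, ha, hle⟩ := (isProperMap_iff_ultrafilter.mp hp).2 h1
  refine ⟨⟨(a, b), ha⟩, rfl, ?_⟩
  rw [nhds_subtype]
  refine tendsto_iff_comap.mp ?_
  rw [nhds_prod_eq]
  exact Tendsto.prodMk hle hb

theorem isLocallyConstructible_of_isClosed {P : Scheme.{0}} [IsLocallyNoetherian P] {Z : Set P} (hZ : IsClosed Z) :
    IsLocallyConstructible Z := by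
  intro p
  obtain ⟨U, hU, hpU, -⟩ := exists_isAffineOpen_mem_and_subset (x := p) (U := (⊤ : P.Opens)) trivial
  haveI : IsAffine U.toScheme := hU
  haveI : IsLocallyNoetherian U.toScheme := inferInstance
  haveI : IsNoetherian U.toScheme := { }
  refine ⟨U, U.2.mem_nhds hpU, U.2, ?_⟩
  have hO : IsOpen (Subtype.val ⁻¹' Zᶜ : Set U.toScheme) := hZ.isOpen_compl.preimage continuous_subtype_val
  exact compl_compl (Subtype.val ⁻¹' Z : Set U.toScheme) ▸ ((NoetherianSpace.isCompact _).isConstructible hO).compl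

theorem isProper_of_isProperMap (f : X ⟶ Y) [f.IsOver SC] [QuasiCompact f] (hp : IsProperMap (Pts.map f))
    (hs : IsSeparatedMap (Pts.map f)) : IsProper f := by
  haveI := (isSeparated_iff f).mpr hs
  haveI := locallyOfFiniteType_hom f
  haveI : UniversallyClosed f := by
    refine Groth.Agent.H11Val.universallyClosed_of_affineSpace f fun n => ?_
    letI : (𝔸(ULift.{0} (Fin n); Y)).Over SC := ⟨(𝔸(ULift.{0} (Fin n); Y) ↘ Y) ≫ Y ↘ SC⟩
    haveI : (𝔸(ULift.{0} (Fin n); Y) ↘ Y).IsOver SC := ⟨rfl⟩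
    haveI : LocallyOfFiniteType (𝔸(ULift.{0} (Fin n); Y) ↘ SC) :=
      inferInstanceAs (LocallyOfFiniteType ((𝔸(ULift.{0} (Fin n); Y) ↘ Y) ≫ Y ↘ SC))
    haveI := locallyOfFiniteType_pullback f (𝔸(ULift.{0} (Fin n); Y) ↘ Y)
    intro Z hZ
    let h := Limits.pullback.snd f (𝔸(ULift.{0} (Fin n); Y) ↘ Y)
    haveI : QuasiCompact h := MorphismProperty.pullback_snd _ _ inferInstance
    haveI : IsLocallyNoetherian 𝔸(ULift.{0} (Fin n); Y) :=
      LocallyOfFiniteType.isLocallyNoetherian (𝔸(ULift.{0} (Fin n); Y) ↘ SC)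
    haveI : LocallyOfFiniteType h := locallyOfFiniteType_hom h
    haveI : LocallyOfFinitePresentation h := inferInstance
    haveI : IsLocallyNoetherian (Limits.pullback f (𝔸(ULift.{0} (Fin n); Y) ↘ Y)) :=
      LocallyOfFiniteType.isLocallyNoetherian h
    show IsClosed (h '' Z)
    have hZc : IsLocallyConstructible Z := isLocallyConstructible_of_isClosed hZ
    refine (isClosed_iff_pts (h.isLocallyConstructible_image hZc)).mpr ?_
    have himage : (Pts.pt ⁻¹' (h '' Z) : Set (Pts 𝔸(ULift.{0} (Fin n); Y))) = Pts.map h '' (Pts.pt ⁻¹' Z) := by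
      refine Set.Subset.antisymm (fun y hy => ?_) ?_
      · obtain ⟨p, hpZ, hpy⟩ := hy
        obtain ⟨x, hx1, hx2⟩ := exists_pts_mem ((hZ.inter ((isClosed_pt y).preimage h.continuous))).isLocallyClosed
          ⟨p, hpZ, hpy⟩
        exact ⟨x, hx1, pt_injective (by rw [Pts.pt_map]; exact hx2)⟩
      · rintro _ ⟨x, hx, rfl⟩
        exact ⟨x.pt, hx, (Pts.pt_map h x).symm⟩
    rw [himage]
    exact ((isProperMap_snd hp (Pts.continuous_map _)).comp
      (isHomeomorph_pair f (𝔸(ULift.{0} (Fin n); Y) ↘ Y)).homeomorph.isProperMap).isClosedMap _ (hZ.preimage Pts.continuous_pt)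
  exact ⟨⟩

end Converse

end Groth.Agent.H05EGA4.AnPts
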