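import Groth.Prelude.Def_AnCl
import Mathlib

/-!
The opens of a space form a dense subsite of its site of local homeomorphisms.
-/

set_option autoImplicit false
universe u

open CategoryTheory TopologicalSpace Topology Opposite An

noncomputable section

namespace Groth.Agent.H05EGA4.AnSites

variable (T : Type u) [TopologicalSpace T]

instance full_opensToCl : (opensToCl T).Full where
  map_surjective {U V} g := by
    have h : U ≤ V := fun x hx => by
      have h' := (g.toFun ⟨x, hx⟩).2
      exact Eq.subst (motive := fun y => y ∈ V) (g.over ⟨x, hx⟩) h'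
    exact ⟨homOfLE h, Cl.hom_ext (funext fun a => Subtype.ext (g.over a).symm)⟩

instance faithful_opensToCl : (opensToCl T).Faithful where
  map_injective _ := Subsingleton.elim _ _

instance isCoverDense_opensToCl : (opensToCl T).IsCoverDense (Cl.topology T) where
  is_cover A := by
    intro a
    obtain ⟨e, hae, he⟩ := A.lh a
    let V : Opens T := ⟨e.target, e.open_target⟩
    let g : (opensToCl T).obj V ⟶ A :=
      ⟨fun t => e.symm t.1, e.continuousOn_symm.domRestrict, fun t => by
        show A.p (e.symm t.1) = t.1
        rw [he]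
        exact e.right_inv t.2⟩
    refine ⟨_, g, ⟨⟨V, 𝟙 _, g, Category.id_comp _⟩⟩, ?_, ⟨⟨e a, e.map_source hae⟩, e.left_inv hae⟩⟩
    exact e.symm.isOpenEmbedding_restrict

instance isDenseSubsite_opensToCl :
    (opensToCl T).IsDenseSubsite (Opens.grothendieckTopology T) (Cl.topology T) where
  functorPushforward_mem_iff {U S} := by
    constructor
    · intro h x hx
      obtain ⟨B, g, ⟨V, f, k, hf, hg⟩, -, b, hb⟩ := h ⟨x, hx⟩
      refine ⟨V, f, hf, ?_⟩
      have h1 : (((opensToCl T).map f).toFun (k.toFun b) : U).1 = x := by
        rw [show ((opensToCl T).map f).toFun (k.toFun b) = g.toFun b by rw [hg]; rfl, hb]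
      have h2 := (k.toFun b).2
      exact Eq.subst (motive := fun y => y ∈ V) h1 h2
    · intro h a
      obtain ⟨V, f, hf, hV⟩ := h a.1 a.2
      refine ⟨_, (opensToCl T).map f, Sieve.image_mem_functorPushforward _ _ hf, ?_, ⟨⟨a.1, hV⟩, rfl⟩⟩
      exact IsOpenEmbedding.of_comp _ (U.2.isOpenEmbedding_subtypeVal) (V.2.isOpenEmbedding_subtypeVal)

theorem opCont : OpCont T :=
  inferInstanceAs ((opensToCl T).IsContinuous (Opens.grothendieckTopology T) (Cl.topology T))

theorem resOpens_isEquivalence [An.OpCont T] : (An.resOpens T).IsEquivalence := by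
  haveI : ∀ X, Limits.HasLimitsOfShape (StructuredArrow X (opensToCl T).op) AddCommGrpCat.{u + 1} := fun X => inferInstance
  exact inferInstanceAs (((opensToCl T).sheafPushforwardContinuous AddCommGrpCat.{u + 1}
    (Opens.grothendieckTopology T) (Cl.topology T)).IsEquivalence)

end Groth.Agent.H05EGA4.AnSites
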