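import Groth.Agent.H05EGA4.An.StalkNoetherian
import Groth.Agent.H05EGA4.An.EtaleStalk
import Groth.Agent.H02CA.CompletionFlat
import Groth.Agent.H9Hens.PtLocalProps
import Groth.Agent.H19Grp.FlatClosedPoints
import Mathlib

/-!
Comparison of the algebraic and analytic local rings at a point.
-/

set_option autoImplicit false
set_option linter.style.haveILetI false
set_option linter.unusedSectionVars false

open AlgebraicGeometry CategoryTheory TopologicalSpace Topology Opposite An

noncomputable section

namespace Groth.Agent.H05EGA4.AnStalkCompare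

open AnGerm AnPts AnStalk AnStalkNoetherian

variable {X : Scheme.{0}} [X.Over SC] [LocallyOfFiniteType (X ↘ SC)] (x : Pts X)

/-- The algebra structure of the analytic stalk over the algebraic one. -/
abbrev alg : Algebra (X.presheaf.stalk x.pt) ((anSpace X).presheaf.stalk x) := (φ x).toAlgebra

theorem isLocalHom_alg [IsLocalRing ((anSpace X).presheaf.stalk x)] :
    letI := alg x
    IsLocalHom (algebraMap (X.presheaf.stalk x.pt) ((anSpace X).presheaf.stalk x)) :=
  ((IsLocalRing.local_hom_TFAE (φ x)).out 0 2).mpr (map_maximalIdeal_φ x).le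

theorem isNoetherian_stalk_alg : IsNoetherianRing (X.presheaf.stalk x.pt) := by
  haveI : IsLocallyNoetherian X := LocallyOfFiniteType.isLocallyNoetherian (X ↘ SC)
  infer_instance

variable [IsReduced X]

theorem dim_eq : ringKrullDim (X.presheaf.stalk x.pt) = ringKrullDim ((anSpace X).presheaf.stalk x) := by
  haveI := isNoetherian_stalk_alg x
  haveI := isNoetherianRing_stalk x
  haveI := isLocalRing_stalk x
  letI := alg x
  haveI := isLocalHom_alg x
  haveI : Module.Flat (X.presheaf.stalk x.pt) ((anSpace X).presheaf.stalk x) := flat_φ x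
  rw [H02CA.ringKrullDim_eq_add_of_flat (X.presheaf.stalk x.pt) ((anSpace X).presheaf.stalk x),
    ringKrullDim_eq_zero_of_isField (H9Hens.isField_fibre _ _ (map_maximalIdeal_φ x)), add_zero]

theorem isRegular_iff :
    IsRegularLocalRing (X.presheaf.stalk x.pt) ↔ IsRegularLocalRing ((anSpace X).presheaf.stalk x) := by
  haveI := isNoetherian_stalk_alg x
  haveI := isNoetherianRing_stalk x
  haveI := isLocalRing_stalk x
  letI := alg x
  haveI := isLocalHom_alg x
  haveI : Module.Flat (X.presheaf.stalk x.pt) ((anSpace X).presheaf.stalk x) := flat_φ x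
  exact H9Hens.isRegularLocalRing_iff_of_map_maximalIdeal _ _ (map_maximalIdeal_φ x)

theorem isCohenMacaulay_iff :
    LocCoh.IsCohenMacaulayLocalRing (X.presheaf.stalk x.pt) ↔
      LocCoh.IsCohenMacaulayLocalRing ((anSpace X).presheaf.stalk x) := by
  haveI := isNoetherian_stalk_alg x
  haveI := isNoetherianRing_stalk x
  haveI := isLocalRing_stalk x
  letI := alg x
  haveI := isLocalHom_alg x
  haveI : Module.Flat (X.presheaf.stalk x.pt) ((anSpace X).presheaf.stalk x) := flat_φ x
  exact (H9Hens.isCohenMacaulayLocalRing_iff_of_map_maximalIdeal _ _ (map_maximalIdeal_φ x)).symm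

variable {Y : Scheme.{0}} [Y.Over SC] [LocallyOfFiniteType (Y ↘ SC)] [IsReduced Y] (f : X ⟶ Y) [f.IsOver SC]

theorem flat_anStalk_iff : (anStalk f x).Flat ↔ (f.stalkMap x.pt).hom.Flat := by
  haveI := isNoetherian_stalk_alg x
  haveI : IsNoetherianRing (Y.presheaf.stalk (f x.pt)) := isNoetherian_stalk_alg (Pts.map f x)
  haveI := isNoetherianRing_stalk x
  haveI := isNoetherianRing_stalk (Pts.map f x)
  haveI := isLocalRing_stalk x
  haveI := isLocalRing_stalk (Pts.map f x)
  letI := alg x
  haveI := isLocalHom_alg x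
  haveI : Module.Flat (X.presheaf.stalk x.pt) ((anSpace X).presheaf.stalk x) := flat_φ x
  letI : Algebra (Y.presheaf.stalk (f x.pt)) ((anSpace Y).presheaf.stalk (Pts.map f x)) := (φ (Pts.map f x)).toAlgebra
  haveI : Module.Flat (Y.presheaf.stalk (f x.pt)) ((anSpace Y).presheaf.stalk (Pts.map f x)) := flat_φ (Pts.map f x)
  have hmY : (IsLocalRing.maximalIdeal (Y.presheaf.stalk (f x.pt))).map
      (algebraMap (Y.presheaf.stalk (f x.pt)) ((anSpace Y).presheaf.stalk (Pts.map f x))) =
        IsLocalRing.maximalIdeal ((anSpace Y).presheaf.stalk (Pts.map f x)) := map_maximalIdeal_φ (Pts.map f x)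
  letI : Algebra (Y.presheaf.stalk (f x.pt)) (X.presheaf.stalk x.pt) := (f.stalkMap x.pt).hom.toAlgebra
  letI : Algebra ((anSpace Y).presheaf.stalk (Pts.map f x)) ((anSpace X).presheaf.stalk x) := (anStalk f x).toAlgebra
  letI : Algebra (Y.presheaf.stalk (f x.pt)) ((anSpace X).presheaf.stalk x) :=
    ((φ x).comp (f.stalkMap x.pt).hom).toAlgebra
  haveI : IsScalarTower (Y.presheaf.stalk (f x.pt)) (X.presheaf.stalk x.pt) ((anSpace X).presheaf.stalk x) :=
    .of_algebraMap_eq fun _ => rfl
  haveI : IsScalarTower (Y.presheaf.stalk (f x.pt)) ((anSpace Y).presheaf.stalk (Pts.map f x))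
      ((anSpace X).presheaf.stalk x) := .of_algebraMap_eq fun a => (anStalk_φ f x a).symm
  constructor
  · intro h
    haveI : Module.Flat ((anSpace Y).presheaf.stalk (Pts.map f x)) ((anSpace X).presheaf.stalk x) := h
    haveI : Module.Flat (Y.presheaf.stalk (f x.pt)) ((anSpace X).presheaf.stalk x) :=
      Module.Flat.trans _ ((anSpace Y).presheaf.stalk (Pts.map f x)) _
    haveI : Module.FaithfullyFlat (X.presheaf.stalk x.pt) ((anSpace X).presheaf.stalk x) :=
      Module.FaithfullyFlat.of_flat_of_isLocalHom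
    exact H7Flat.flat_of_faithfullyFlat (M := (anSpace X).presheaf.stalk x)
  · intro h
    haveI : Module.Flat (Y.presheaf.stalk (f x.pt)) (X.presheaf.stalk x.pt) := h
    haveI : Module.Flat (Y.presheaf.stalk (f x.pt)) ((anSpace X).presheaf.stalk x) :=
      Module.Flat.trans _ (X.presheaf.stalk x.pt) _
    haveI : IsLocalHom (algebraMap ((anSpace Y).presheaf.stalk (Pts.map f x)) ((anSpace X).presheaf.stalk x)) := by
      refine ((IsLocalRing.local_hom_TFAE (anStalk f x)).out 0 2).mpr ?_
      obtain ⟨κ⟩ := exists_chart (Pts.map f x)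
      obtain ⟨κ'⟩ := exists_chart x
      rw [← IsLocalRing.eq_maximalIdeal κ.ker_evalO_isMaximal, ← IsLocalRing.eq_maximalIdeal κ'.ker_evalO_isMaximal,
        map_ker_evalO, ← κ'.map_maximalIdeal_eq]
      exact Ideal.map_mono (((IsLocalRing.local_hom_TFAE (f.stalkMap x.pt).hom).out 0 2 rfl rfl).mp (inferInstanceAs <| IsLocalHom (f.stalkMap x.pt).hom))
    exact H02CA.flat_of_map_maximalIdeal (Y.presheaf.stalk (f x.pt)) ((anSpace Y).presheaf.stalk (Pts.map f x))
      ((anSpace X).presheaf.stalk x) hmY

omit x in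
theorem flat_iff : Flat f ↔ ∀ x : Pts X, (anStalk f x).Flat := by
  refine ⟨fun _ x => (flat_anStalk_iff x f).mpr (Flat.stalkMap f x.pt), fun h => ?_⟩
  haveI : JacobsonSpace X := LocallyOfFiniteType.jacobsonSpace (X ↘ SC)
  refine H19Grp.flat_of_forall_closedPoint f fun p hp => ?_
  obtain ⟨x, rfl⟩ := exists_pts hp
  exact (flat_anStalk_iff x f).mp (h x)

end Groth.Agent.H05EGA4.AnStalkCompare
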