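import Groth.Agent.H05EGA4.An.AnStalk
import Groth.Agent.H05EGA4.An.EtaleStalk
import Groth.Agent.H05EGA4.An.Noetherian
import Mathlib

/-!
The local rings of the analytification are Noetherian, and flat over the algebraic ones.
-/

set_option autoImplicit false
set_option linter.style.haveILetI false
set_option linter.unusedSectionVars false

open AlgebraicGeometry CategoryTheory TopologicalSpace Topology Opposite An Filter

noncomputable section

namespace Groth.Agent.H05EGA4.AnStalkNoetherian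

open AnGerm AnPts AnNoetherian

variable {X : Scheme.{0}} [X.Over SC] [LocallyOfFiniteType (X ↘ SC)] {x : Pts X} (κ : Chart x)

theorem exists_gm (G : (Fin κ.n → ℂ) → ℂ) (hG : ∀ᶠ z in 𝓝 0, DifferentiableAt ℂ G z) :
    ∃ (D : Set (Fin κ.n → ℂ)) (hD : IsOpen D) (hd : DifferentiableOn ℂ (fun z => G (z - κ.e x)) D), κ.e x ∈ D := by
  obtain ⟨r, hr, hrd⟩ := Metric.eventually_nhds_iff_ball.mp hG
  refine ⟨Metric.ball (κ.e x) r, Metric.isOpen_ball, fun z hz => ?_, Metric.mem_ball_self hr⟩
  exact ((hrd (z - κ.e x) (by simpa [dist_eq_norm] using hz)).comp z (f := fun z => z - κ.e x)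
    (differentiableAt_id.sub_const _)).differentiableWithinAt

/-- The germ at the point attached to a germ at the origin. -/
def Ψfun (a : hol (Fin κ.n → ℂ)) : (anSpace X).presheaf.stalk x :=
  κ.gm _ (exists_gm κ (exists_mk a).choose (exists_mk a).choose_spec.choose).choose_spec.choose _
    (exists_gm κ (exists_mk a).choose (exists_mk a).choose_spec.choose).choose_spec.choose_spec.choose
    (exists_gm κ (exists_mk a).choose (exists_mk a).choose_spec.choose).choose_spec.choose_spec.choose_spec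

theorem Ψfun_mk (G : (Fin κ.n → ℂ) → ℂ) (hG : ∀ᶠ z in 𝓝 0, DifferentiableAt ℂ G z)
    {D : Set (Fin κ.n → ℂ)} (hD : IsOpen D) (hd : DifferentiableOn ℂ (fun z => G (z - κ.e x)) D) (hp : κ.e x ∈ D) :
    Ψfun κ (AnNoetherian.mk G hG) = κ.gm D hD _ hd hp := by
  refine Chart.gm_congr κ ?_
  have h := mk_eq.mp (exists_mk (AnNoetherian.mk G hG)).choose_spec.choose_spec.symm
  exact ((continuous_id.sub continuous_const).tendsto' (κ.e x) 0 (sub_self _)).eventually h

/-- The ring of germs at the origin maps onto the analytic stalk. -/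
def Ψ : hol (Fin κ.n → ℂ) →+* (anSpace X).presheaf.stalk x where
  toFun := Ψfun κ
  map_one' := by
    show Ψfun κ (AnNoetherian.mk (fun _ => 1) (Eventually.of_forall fun z => differentiableAt_const 1)) = 1
    rw [Ψfun_mk κ _ _ isOpen_univ (differentiableOn_const 1) trivial]
    exact map_one _
  map_mul' a b := by
    obtain ⟨G, hG, rfl⟩ := exists_mk a
    obtain ⟨H, hH, rfl⟩ := exists_mk b
    obtain ⟨D, hD, hd, hp⟩ := exists_gm κ G hG
    obtain ⟨D', hD', hd', hp'⟩ := exists_gm κ H hH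
    rw [Ψfun_mk κ G hG hD hd hp, Ψfun_mk κ H hH hD' hd' hp', Chart.gm_mul]
    exact Ψfun_mk κ (G * H) (hG.mp (hH.mono fun z h2 h1 => h1.mul h2)) _ _ _
  map_zero' := by
    show Ψfun κ (AnNoetherian.mk (fun _ => 0) (Eventually.of_forall fun z => differentiableAt_const 0)) = 0
    rw [Ψfun_mk κ _ _ isOpen_univ (differentiableOn_const 0) trivial]
    exact map_zero _
  map_add' a b := by
    obtain ⟨G, hG, rfl⟩ := exists_mk a
    obtain ⟨H, hH, rfl⟩ := exists_mk b
    obtain ⟨D, hD, hd, hp⟩ := exists_gm κ G hG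
    obtain ⟨D', hD', hd', hp'⟩ := exists_gm κ H hH
    rw [Ψfun_mk κ G hG hD hd hp, Ψfun_mk κ H hH hD' hd' hp', Chart.gm_add]
    exact Ψfun_mk κ (G + H) (hG.mp (hH.mono fun z h2 h1 => h1.add h2)) _ _ _

theorem Ψ_surjective : Function.Surjective (Ψ κ) := by
  intro b
  obtain ⟨D, hD, G, hG, hp, rfl⟩ := κ.exists_rep b
  have hcont : Tendsto (fun w => κ.e x + w) (𝓝 0) (𝓝 (κ.e x)) :=
    (continuous_const.add continuous_id).tendsto' 0 _ (add_zero _)
  have hG0 : ∀ᶠ w in 𝓝 0, DifferentiableAt ℂ (fun w => G (κ.e x + w)) w := by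
    filter_upwards [hcont.eventually (hD.mem_nhds hp)] with w hw
    exact (hG.differentiableAt (hD.mem_nhds hw)).comp w (f := fun w => κ.e x + w) (differentiableAt_id.const_add _)
  refine ⟨AnNoetherian.mk _ hG0, ?_⟩
  have hd : DifferentiableOn ℂ (fun z => (fun w => G (κ.e x + w)) (z - κ.e x)) D :=
    hG.congr fun z _ => by simp
  show Ψfun κ (AnNoetherian.mk (fun w => G (κ.e x + w)) hG0) = _
  rw [Ψfun_mk κ _ hG0 hD hd hp]
  exact Chart.gm_congr κ (Eventually.of_forall fun z => by simp)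

theorem isNoetherianRing_stalk (x : Pts X) : IsNoetherianRing ((anSpace X).presheaf.stalk x) := by
  obtain ⟨κ⟩ := exists_chart x
  haveI := isNoetherianRing_hol κ.n
  exact isNoetherianRing_of_surjective _ _ (Ψ κ) (Ψ_surjective κ)

theorem isLocalRing_stalk (x : Pts X) : IsLocalRing ((anSpace X).presheaf.stalk x) := by
  obtain ⟨κ⟩ := exists_chart x
  exact IsLocalRing.of_unique_max_ideal ⟨_, κ.ker_evalO_isMaximal, fun I hI => κ.eq_ker_of_isMaximal hI⟩

theorem map_maximalIdeal_φ (x : Pts X) [IsLocalRing ((anSpace X).presheaf.stalk x)] :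
    (IsLocalRing.maximalIdeal (X.presheaf.stalk x.pt)).map (φ x) =
      IsLocalRing.maximalIdeal ((anSpace X).presheaf.stalk x) := by
  obtain ⟨κ⟩ := exists_chart x
  rw [κ.map_maximalIdeal_eq]
  exact IsLocalRing.eq_maximalIdeal κ.ker_evalO_isMaximal

theorem flat_φ [IsReduced X] (x : Pts X) : (φ x).Flat := by
  haveI : IsLocallyNoetherian X := LocallyOfFiniteType.isLocallyNoetherian (X ↘ SC)
  haveI := isNoetherianRing_stalk x
  haveI := isLocalRing_stalk x
  obtain ⟨κ⟩ := exists_chart x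
  letI : Algebra (X.presheaf.stalk x.pt) ((anSpace X).presheaf.stalk x) := (φ x).toAlgebra
  haveI : IsLocalHom (algebraMap (X.presheaf.stalk x.pt) ((anSpace X).presheaf.stalk x)) :=
    ((IsLocalRing.local_hom_TFAE (φ x)).out 0 2).mpr (map_maximalIdeal_φ x).le
  show Module.Flat (X.presheaf.stalk x.pt) ((anSpace X).presheaf.stalk x)
  refine AnEtaleStalk.flat_of_quotients _ _ (fun n b => ?_) fun n a ha => ?_
  · obtain ⟨a, -, ha⟩ := κ.exists_approx 0 n b (by simp)
    refine ⟨a, ?_⟩
    rw [Ideal.map_pow, ← neg_mem_iff, neg_sub]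
    exact ha
  · rw [Ideal.map_pow] at ha
    exact AnStalk.reflect κ n a ha

end Groth.Agent.H05EGA4.AnStalkNoetherian
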