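import Groth.Agent.H05EGA4.An.StalkCompare
import Groth.Agent.H05EGA4.FormalFibres
import Groth.Agent.H05EGA4.GRingPoly
import Groth.Agent.H05EGA4.GRing
import Groth.Agent.H9Hens.GRingLocal
import Groth.Agent.H06Desc.Normal
import Mathlib

/-!
Serre's conditions for the algebraic and the analytic local rings.
-/

set_option autoImplicit false
set_option linter.style.haveILetI false
set_option linter.unusedSectionVars false

open AlgebraicGeometry CategoryTheory TopologicalSpace Topology Opposite An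

noncomputable section

namespace Groth.Agent.H05EGA4.AnStalkSerre

open AnGerm AnPts AnStalkNoetherian AnStalkCompare

variable {X : Scheme.{0}} [X.Over SC] [LocallyOfFiniteType (X ↘ SC)] (x : Pts X)

theorem isGRing_stalk : CAlg.IsGRing (X.presheaf.stalk x.pt) := by
  obtain ⟨κ⟩ := exists_chart x
  letI : Algebra ℂ Γ(X, κ.U) := (cst κ.U).toAlgebra
  haveI : Algebra.FiniteType ℂ Γ(X, κ.U) := Algebra.FiniteType.of_surjective
    (MvPolynomial.aeval (R := ℂ) κ.s) (fun f => by obtain ⟨P, hP⟩ := κ.surj f; exact ⟨P, hP⟩)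
  have hC : CAlg.IsGRing ℂ := by
    haveI : IsAdicComplete (IsLocalRing.maximalIdeal ℂ) ℂ := by
      rw [IsLocalRing.maximalIdeal_eq_bot]; infer_instance
    exact isGRing_of_isAdicComplete ℂ
  letI := TopCat.Presheaf.algebra_section_stalk X.presheaf ⟨x.pt, κ.mem⟩
  haveI : IsLocalization.AtPrime (X.presheaf.stalk x.pt) (κ.affine.primeIdealOf ⟨x.pt, κ.mem⟩).asIdeal :=
    κ.affine.isLocalization_stalk ⟨x.pt, κ.mem⟩
  exact isGRing_of_isLocalization (R := Γ(X, κ.U)) (κ.affine.primeIdealOf ⟨x.pt, κ.mem⟩).asIdeal.primeCompl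
    (isGRing_of_finiteType hC)

variable [IsReduced X]

theorem mem_map_pow_iff_evalₐ {R : Type} [CommRing R] (I : Ideal R) (hI : I.FG) (n : ℕ) (c : AdicCompletion I R) :
    c ∈ (I ^ n).map (algebraMap R (AdicCompletion I R)) ↔ AdicCompletion.evalₐ I n c = 0 := by
  have hle : (I ^ n • ⊤ : Ideal R) ≤ I ^ n := by rw [smul_eq_mul, Ideal.mul_top]
  have h1 : c ∈ (I ^ n).map (algebraMap R (AdicCompletion I R)) ↔
      c ∈ (I ^ n • ⊤ : Submodule R (AdicCompletion I R)) := by
    rw [Ideal.smul_top_eq_map, Submodule.restrictScalars_mem]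
  rw [h1, AdicCompletion.pow_smul_top_eq_ker_eval hI, LinearMap.mem_ker, ← AdicCompletion.factor_eval_eq_evalₐ I c hle]
  refine ⟨fun h => by rw [h]; simp, fun h => ?_⟩
  obtain ⟨a, ha⟩ := Ideal.Quotient.mk_surjective (AdicCompletion.eval I R n c)
  rw [← ha] at h ⊢
  exact Ideal.Quotient.eq_zero_iff_mem.mpr (by
    rw [smul_eq_mul, Ideal.mul_top]
    exact Ideal.Quotient.eq_zero_iff_mem.mp h)

theorem exists_faithfullyFlat_to_completion :
    ∃ _ : Algebra ((anSpace X).presheaf.stalk x) (EGA4.Cpl (X.presheaf.stalk x.pt)),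
      Module.FaithfullyFlat ((anSpace X).presheaf.stalk x) (EGA4.Cpl (X.presheaf.stalk x.pt)) := by
  haveI := isNoetherian_stalk_alg x
  haveI := isNoetherianRing_stalk x
  haveI := isLocalRing_stalk x
  haveI := isNoetherianRing_cpl (X.presheaf.stalk x.pt)
  obtain ⟨κ⟩ := exists_chart x
  set 𝔪 := IsLocalRing.maximalIdeal (X.presheaf.stalk x.pt)
  have hbij : ∀ n, Function.Bijective (Ideal.quotientMap ((𝔪.map (φ x)) ^ n) (φ x)
      (show 𝔪 ^ n ≤ ((𝔪.map (φ x)) ^ n).comap (φ x) from Ideal.map_le_iff_le_comap.mp (Ideal.map_pow (φ x) 𝔪 n).le)) := fun n => by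
    refine ⟨(injective_iff_map_eq_zero _).mpr fun a ha => ?_, fun b => ?_⟩
    · obtain ⟨a, rfl⟩ := Ideal.Quotient.mk_surjective a
      rw [Ideal.quotientMap_mk, Ideal.Quotient.eq_zero_iff_mem] at ha
      exact Ideal.Quotient.eq_zero_iff_mem.mpr (AnStalk.reflect κ n a ha)
    · obtain ⟨b, rfl⟩ := Ideal.Quotient.mk_surjective b
      obtain ⟨a, -, ha⟩ := κ.exists_approx 0 n b (by simp)
      exact ⟨Ideal.Quotient.mk _ a, by rw [Ideal.quotientMap_mk]; exact Ideal.Quotient.eq.mpr ha⟩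
  let e := fun n => RingEquiv.ofBijective _ (hbij n)
  let g : ∀ n, (anSpace X).presheaf.stalk x →+* X.presheaf.stalk x.pt ⧸ 𝔪 ^ n :=
    fun n => (e n).symm.toRingHom.comp (Ideal.Quotient.mk _)
  let θ : (anSpace X).presheaf.stalk x →+* EGA4.Cpl (X.presheaf.stalk x.pt) :=
    AdicCompletion.liftRingHom 𝔪 g fun {m n} hle => RingHom.ext fun b => by
      obtain ⟨a, ha⟩ := (hbij n).2 (Ideal.Quotient.mk _ b)
      obtain ⟨a, rfl⟩ := Ideal.Quotient.mk_surjective a
      have hn : g n b = Ideal.Quotient.mk _ a := (RingEquiv.symm_apply_eq (e n)).mpr ha.symm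
      rw [RingHom.comp_apply, hn]
      refine ((RingEquiv.symm_apply_eq (e m)).mpr ?_).symm
      rw [Ideal.quotientMap_mk, Ideal.Quotient.eq] at ha
      exact (Ideal.Quotient.eq.mpr (Ideal.pow_le_pow_right hle ha)).symm
  have hθ : ∀ n b, AdicCompletion.evalₐ 𝔪 n (θ b) = g n b := fun n b => AdicCompletion.evalₐ_liftRingHom _ _ _ n b
  letI : Algebra ((anSpace X).presheaf.stalk x) (EGA4.Cpl (X.presheaf.stalk x.pt)) := θ.toAlgebra
  refine ⟨θ.toAlgebra, ?_⟩
  have hφθ : θ.comp (φ x) = algebraMap (X.presheaf.stalk x.pt) (EGA4.Cpl (X.presheaf.stalk x.pt)) :=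
    RingHom.ext fun a => AdicCompletion.ext_evalₐ fun n => by
      rw [RingHom.comp_apply, hθ, AlgHom.commutes, Ideal.Quotient.algebraMap_eq]
      exact (RingEquiv.symm_apply_eq (e n)).mpr rfl
  have hmax : (IsLocalRing.maximalIdeal ((anSpace X).presheaf.stalk x)).map θ =
      IsLocalRing.maximalIdeal (EGA4.Cpl (X.presheaf.stalk x.pt)) := by
    rw [← map_maximalIdeal_φ x, Ideal.map_map, hφθ, AdicCompletion.maximalIdeal_eq_map]
  haveI : IsLocalHom (algebraMap ((anSpace X).presheaf.stalk x) (EGA4.Cpl (X.presheaf.stalk x.pt))) :=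
    ((IsLocalRing.local_hom_TFAE θ).out 0 2).mpr hmax.le
  haveI : Module.Flat ((anSpace X).presheaf.stalk x) (EGA4.Cpl (X.presheaf.stalk x.pt)) := by
    refine AnEtaleStalk.flat_of_quotients _ _ (fun n c => ?_) fun n b hb => ?_
    · obtain ⟨a, ha⟩ := Ideal.Quotient.mk_surjective (AdicCompletion.evalₐ 𝔪 n c)
      refine ⟨φ x a, ?_⟩
      show c - θ (φ x a) ∈ _
      rw [show θ (φ x a) = algebraMap _ _ a from RingHom.congr_fun hφθ a, Ideal.map_pow,
        show (algebraMap ((anSpace X).presheaf.stalk x) (EGA4.Cpl (X.presheaf.stalk x.pt))) = θ from rfl]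
      erw [hmax]
      rw [AdicCompletion.maximalIdeal_eq_map, ← Ideal.map_pow, mem_map_pow_iff_evalₐ 𝔪 (IsNoetherian.noetherian _)]
      rw [map_sub, sub_eq_zero, ← ha, AlgHom.commutes, Ideal.Quotient.algebraMap_eq]
    · have hb' : θ b ∈ (IsLocalRing.maximalIdeal (EGA4.Cpl (X.presheaf.stalk x.pt))) ^ n := by
        rw [Ideal.map_pow] at hb
        exact hmax ▸ hb
      rw [AdicCompletion.maximalIdeal_eq_map, ← Ideal.map_pow,
        mem_map_pow_iff_evalₐ 𝔪 (IsNoetherian.noetherian _), hθ] at hb'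
      have h0 : Ideal.Quotient.mk ((𝔪.map (φ x)) ^ n) b = 0 := (e n).symm.injective (hb'.trans (map_zero _).symm)
      rw [← map_maximalIdeal_φ x]
      exact Ideal.Quotient.eq_zero_iff_mem.mp h0
  exact Module.FaithfullyFlat.of_flat_of_isLocalHom

theorem rs_iff (r n : WithBot ℕ∞) :
    RS r n (X.presheaf.stalk x.pt) ↔ RS r n ((anSpace X).presheaf.stalk x) := by
  haveI := isNoetherian_stalk_alg x
  haveI := isNoetherianRing_stalk x
  haveI := isLocalRing_stalk x
  haveI := isNoetherianRing_cpl (X.presheaf.stalk x.pt)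
  obtain ⟨_, _⟩ := exists_faithfullyFlat_to_completion x
  letI := alg x
  haveI := isLocalHom_alg x
  haveI : Module.Flat (X.presheaf.stalk x.pt) ((anSpace X).presheaf.stalk x) := flat_φ x
  haveI : Module.FaithfullyFlat (X.presheaf.stalk x.pt) ((anSpace X).presheaf.stalk x) :=
    Module.FaithfullyFlat.of_flat_of_isLocalHom
  have h := (H9Hens.grsHom_cpl_of_isGRing _ (isGRing_stalk x)).mono (r' := r) (n' := n) le_top le_top
  exact ⟨fun hR => RS.of_faithfullyFlat (B := EGA4.Cpl (X.presheaf.stalk x.pt)) (h.rs_cpl_iff.mp hR),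
    RS.of_faithfullyFlat⟩

theorem hasSk_iff (k : ℕ) : LocCoh.HasSk k (X.presheaf.stalk x.pt) (X.presheaf.stalk x.pt) ↔
    LocCoh.HasSk k ((anSpace X).presheaf.stalk x) ((anSpace X).presheaf.stalk x) := by
  haveI := isNoetherian_stalk_alg x
  haveI := isNoetherianRing_stalk x
  exact hasSk_self_iff_rs.trans ((rs_iff x _ _).trans hasSk_self_iff_rs.symm)

theorem hasRk_iff (k : ℕ) : LocCoh.HasRk k (X.presheaf.stalk x.pt) ↔
    LocCoh.HasRk k ((anSpace X).presheaf.stalk x) := by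
  haveI := isNoetherian_stalk_alg x
  haveI := isNoetherianRing_stalk x
  have h0 : ∀ (R : Type) [CommRing R], LocCoh.HasSk 0 R R := fun R _ p _ =>
    (min_le_left _ _).trans (by rw [Nat.cast_zero]; exact WithBot.coe_le_coe.mpr bot_le)
  exact ⟨fun h => (hasRk_and_hasSk_iff_rs.mpr ((rs_iff x _ _).mp (hasRk_and_hasSk_iff_rs.mp ⟨h, h0 _⟩))).1,
    fun h => (hasRk_and_hasSk_iff_rs.mpr ((rs_iff x _ _).mpr (hasRk_and_hasSk_iff_rs.mp ⟨h, h0 _⟩))).1⟩

theorem normalDomain_iff_rs {R : Type} [CommRing R] [IsLocalRing R] [IsNoetherianRing R] :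
    (IsDomain R ∧ IsIntegrallyClosed R) ↔ RS 1 2 R := by
  rw [← isNormalRing_iff_rs]
  constructor
  · rintro ⟨_, _⟩ p _
    exact ⟨inferInstance, isIntegrallyClosed_of_isLocalization _ p.primeCompl p.primeCompl_le_nonZeroDivisors⟩
  · intro h
    obtain ⟨_, _⟩ := h (IsLocalRing.maximalIdeal R)
    let e := (IsLocalization.atUnits R (IsLocalRing.maximalIdeal R).primeCompl
      (S := Localization.AtPrime (IsLocalRing.maximalIdeal R))
      (fun a ha => IsLocalRing.notMem_maximalIdeal.mp ha)).toRingEquiv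
    exact ⟨e.toMulEquiv.isDomain _, IsIntegrallyClosed.of_equiv e.symm⟩

theorem normal_iff : (IsDomain (X.presheaf.stalk x.pt) ∧ IsIntegrallyClosed (X.presheaf.stalk x.pt)) ↔
    (IsDomain ((anSpace X).presheaf.stalk x) ∧ IsIntegrallyClosed ((anSpace X).presheaf.stalk x)) := by
  haveI := isNoetherian_stalk_alg x
  haveI := isNoetherianRing_stalk x
  haveI := isLocalRing_stalk x
  exact normalDomain_iff_rs.trans ((rs_iff x 1 2).trans normalDomain_iff_rs.symm)

end Groth.Agent.H05EGA4.AnStalkSerre
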