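import Groth.Prelude.Def_AnEps
import Groth.Agent.H05EGA4.An.EpsFlat
import Groth.Agent.H05EGA4.An.Connected
import Groth.Agent.H05EGA4.An.ClPoint
import Mathlib

/-!
Stalks of the inverse image along the comparison morphism, and the unit for finite locally constant sheaves.
-/

set_option autoImplicit false
set_option linter.style.haveILetI false
set_option linter.unusedSectionVars false

open AlgebraicGeometry CategoryTheory CategoryTheory.Limits TopologicalSpace Topology Opposite An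

noncomputable section

namespace Groth.Agent.H05EGA4.AnUnit

set_option backward.isDefEq.respectTransparency false
set_option backward.isDefEq.respectTransparency.types false

open Groth.Agent.H05EGA4.AnClPoint

variable {X : Scheme.{0}} [X.Over SC] [LocallyOfFiniteType (X ↘ SC)] [Fact EtaleLH] [EpsCont X]

instance flat_eps : RepresentablyFlat (eps X) := by
  haveI := AnEpsFlat.hasFiniteLimits_etale X
  haveI := AnEpsFlat.preservesFiniteLimits_eps X
  exact flat_of_preservesFiniteLimits _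

/-- The point of the etale site induced by a complex point. -/
def etPoint (z : Pts X) : X.smallEtaleTopology.Point :=
  haveI : InitiallySmall.{1} ((eps X) ⋙ (point z).fiber).Elements :=
    haveI : EssentiallySmall.{1} ((eps X) ⋙ (point z).fiber).Elements := essentiallySmall_of_small_of_locallySmall _
    initiallySmall_of_essentiallySmall _
  (point z).comap (eps X) (AnEpsCont.coverPreserving X)

variable (F : EtCoh.Ab X)

/-- The inverse image of `F`. -/
abbrev anSheaf : Cl.Ab (Pts X) := (epsPull X).obj F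

/-- The unit on sections. -/
def η {V : X.Etale} (t : F.obj.obj (op V)) : (anSheaf F).obj.obj (op ((eps X).obj V)) :=
  ((epsAdj X).unit.app F).hom.app (op V) t

theorem η_map {V W : X.Etale} (g : W ⟶ V) (t : F.obj.obj (op V)) :
    η F (F.obj.map g.op t) = (anSheaf F).obj.map ((eps X).map g).op (η F t) :=
  congrArg (fun u => u t) (((epsAdj X).unit.app F).hom.naturality g.op)

theorem exists_fiber_iso (z : Pts X) : ∃ e : (etPoint z).presheafFiber.obj F.obj ≅ stalk (anSheaf F).obj z,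
    ∀ (V : X.Etale) (v : (etPoint z).fiber.obj V) (t : F.obj.obj (op V)),
      e.hom ((etPoint z).toPresheafFiber V v F.obj t) =
        (point z).toPresheafFiber ((eps X).obj V) v (anSheaf F).obj (η F t) := by
  let adj₁ := (etPoint z).skyscraperSheafAdjunction (A := AddCommGrpCat.{1})
  let adj₂ : epsPull X ⋙ (point z).sheafFiber ⊣ (etPoint z).skyscraperSheafFunctor (A := AddCommGrpCat.{1}) :=
    (epsAdj X).comp (point z).skyscraperSheafAdjunction
  refine ⟨(Adjunction.leftAdjointUniq adj₁ adj₂).app F, fun V v t => ?_⟩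
  have h := congrArg (fun k => k.hom.app (op V)) (Adjunction.homEquiv_leftAdjointUniq_hom_app adj₁ adj₂ F)
  have h1 := congrArg (fun k => k ≫ Pi.π (fun _ : (etPoint z).fiber.obj V => _) v) h
  have h2 : (adj₁.homEquiv F _ ((Adjunction.leftAdjointUniq adj₁ adj₂).hom.app F)).hom.app (op V) ≫
      Pi.π (fun _ : (etPoint z).fiber.obj V => ((epsPull X ⋙ (point z).sheafFiber).obj F)) v =
      (etPoint z).toPresheafFiber V v F.obj ≫ (Adjunction.leftAdjointUniq adj₁ adj₂).hom.app F :=
    (congrArg (fun k => k.app (op V) ≫ Pi.π (fun _ : (etPoint z).fiber.obj V => ((epsPull X ⋙ (point z).sheafFiber).obj F)) v)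
      ((etPoint z).skyscraperSheafAdjunction_homEquiv_apply_hom ((Adjunction.leftAdjointUniq adj₁ adj₂).hom.app F))).trans
      ((etPoint z).skyscraperPresheafHomEquiv_app_π (P := F.obj) ((Adjunction.leftAdjointUniq adj₁ adj₂).hom.app F) V v)
  have h3 : (adj₂.unit.app F).hom.app (op V) ≫
      Pi.π (fun _ : (etPoint z).fiber.obj V => ((epsPull X ⋙ (point z).sheafFiber).obj F)) v =
      ((epsAdj X).unit.app F).hom.app (op V) ≫ (point z).toPresheafFiber ((eps X).obj V) v (anSheaf F).obj := by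
    have h4 : adj₂.unit.app F = (epsAdj X).unit.app F ≫
        (epsPush X).map ((point z).skyscraperSheafAdjunction.unit.app (anSheaf F)) := by
      simp [adj₂, Adjunction.comp_unit_app]
    rw [h4]
    show (((epsAdj X).unit.app F).hom.app (op V) ≫
      ((point z).skyscraperSheafAdjunction.unit.app (anSheaf F)).hom.app (op ((eps X).obj V))) ≫ _ = _
    rw [Category.assoc]
    congr 1
    have h5 := (point z).skyscraperPresheafHomEquiv_app_π (P := (anSheaf F).obj) (𝟙 (stalk (anSheaf F).obj z)) ((eps X).obj V) v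
    rw [Category.comp_id] at h5
    exact h5
  exact congrArg (fun k => k t) (h2.symm.trans (h1.trans h3))

theorem germ_η_eq_iff {V : X.Etale} (v : Pts V.left) (s t : F.obj.obj (op V)) :
    germ (anSheaf F).obj (A := (eps X).obj V) v (η F s) = germ (anSheaf F).obj (A := (eps X).obj V) v (η F t) ↔
      ∃ (W : X.Etale) (g : W ⟶ V) (w : Pts W.left), ((eps X).map g).toFun w = v ∧ F.obj.map g.op s = F.obj.map g.op t := by
  obtain ⟨e, he⟩ := exists_fiber_iso F (((eps X).obj V).p v)
  let v' : (etPoint (((eps X).obj V).p v)).fiber.obj V := ⟨⟨v, rfl⟩⟩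
  refine (Iff.of_eq (congrArg₂ Eq (he V v' s).symm (he V v' t).symm)).trans ?_
  rw [((ConcreteCategory.bijective_of_isIso e.hom).1).eq_iff]
  refine ((etPoint _).toPresheafFiber_eq_iff' V v' s t).trans ⟨?_, ?_⟩
  · rintro ⟨W, g, w, hw, h⟩
    exact ⟨W, g, w.down.1, congrArg (fun u => u.down.1) hw, h⟩
  · rintro ⟨W, g, w, hw, h⟩
    refine ⟨W, g, ⟨⟨w, ?_⟩⟩, ULift.ext _ _ (Subtype.ext hw), h⟩
    rw [← ((eps X).map g).over w, hw]

/-- An etale covering criterion by complex points. -/
theorem mem_topology_of_pts {V : X.Etale} (S : Sieve V)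
    (h : ∀ v : Pts V.left, ∃ (W : X.Etale) (g : W ⟶ V) (w : Pts W.left), S g ∧ ((eps X).map g).toFun w = v) :
    S ∈ X.smallEtaleTopology V := by
  haveI := AnEpsCont.lft_left X V
  rw [show X.smallEtaleTopology = (X.smallPretopology (P := EtCoh.etaleMP) (Q := EtCoh.etaleMP)).toGrothendieck from
    Scheme.smallGrothendieckTopology_eq_toGrothendieck_smallPretopology X le_rfl]
  refine (Scheme.mem_toGrothendieck_smallPretopology V S).2 fun x => ?_
  let O : Set V.left := ⋃ (W : X.Etale) (g : W ⟶ V) (_ : S g), Set.range g.left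
  have hO : IsOpen O := isOpen_iUnion fun W => isOpen_iUnion fun g => isOpen_iUnion fun _ => by
    haveI := AnEpsCont.etale_left X g
    exact g.left.isOpenMap.isOpen_range
  have hall : O = Set.univ := by
    by_contra hne
    obtain ⟨v, hv⟩ := AnPts.exists_pts_mem hO.isClosed_compl.isLocallyClosed (Set.nonempty_compl.mpr hne)
    obtain ⟨W, g, w, hg, rfl⟩ := h v
    exact hv (Set.mem_iUnion.mpr ⟨W, Set.mem_iUnion.mpr ⟨g, Set.mem_iUnion.mpr ⟨hg, w.pt, (Pts.pt_map g.left w).symm⟩⟩⟩)
  have hx : x ∈ O := hall ▸ Set.mem_univ x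
  simp only [O, Set.mem_iUnion] at hx
  obtain ⟨W, g, hg, y, hy⟩ := hx
  exact ⟨W, g, y, hg, AnEpsCont.etale_left X g, hy⟩

theorem η_injective {V : X.Etale} (s t : F.obj.obj (op V)) (h : η F s = η F t) : s = t := by
  refine ((isSheaf_iff_isSheaf_of_type _ _).mp
    ((Presheaf.isSheaf_iff_isSheaf_forget _ F.obj (forget _)).mp F.property) _
    (mem_topology_of_pts (Presheaf.equalizerSieve (X := op V) s t) fun v => ?_)).isSeparatedFor.ext fun _ _ hf => hf
  obtain ⟨W, g, w, hw, hst⟩ := (germ_η_eq_iff F v s t).mp (by rw [h])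
  exact ⟨W, g, w, hst, hw⟩

theorem exists_η_of_germ {A : Cl (Pts X)} (a : A.E) (s : (anSheaf F).obj.obj (op A)) :
    ∃ (W : X.Etale) (w : Pts W.left) (hw : ((eps X).obj W).p w = A.p a) (t : F.obj.obj (op W)),
      (point (A.p a)).toPresheafFiber ((eps X).obj W) ⟨⟨w, hw⟩⟩ (anSheaf F).obj (η F t) =
        germ (anSheaf F).obj a s := by
  obtain ⟨e, he⟩ := exists_fiber_iso F (A.p a)
  obtain ⟨q, hq⟩ := (ConcreteCategory.bijective_of_isIso e.hom).2 (germ (anSheaf F).obj a s)
  obtain ⟨W, w, t, rfl⟩ := (etPoint (A.p a)).toPresheafFiber_jointly_surjective q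
  exact ⟨W, w.down.1, w.down.2, t, (he W w t).symm.trans hq⟩

section LocallyConstant

variable {U : X.Etale} {A : AddCommGrpCat.{1}}
  (ι : (Functor.const (Over U)ᵒᵖ).obj A ⟶ (EtCoh.restr F U).obj)
  [Presheaf.IsLocallyInjective (X.smallEtaleTopology.over U) ι]
  [Presheaf.IsLocallySurjective (X.smallEtaleTopology.over U) ι]

/-- The global section attached to a value. -/
def sec (m : A) : F.obj.obj (op U) := ι.app (op (Over.mk (𝟙 U))) m

theorem sec_map (W : Over U) (m : A) : F.obj.map W.hom.op (sec F ι m) = ι.app (op W) m :=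
  (congrArg (fun k => k m) (ι.naturality (Over.homMk W.hom (by simp) : W ⟶ Over.mk (𝟙 U)).op)).symm

theorem exists_sec (W : X.Etale) (a : W ⟶ U) (w : Pts W.left) (s : F.obj.obj (op W)) :
    ∃ (m : A) (W' : X.Etale) (h : W' ⟶ W) (w' : Pts W'.left), ((eps X).map h).toFun w' = w ∧
      F.obj.map h.op s = F.obj.map (h ≫ a).op (sec F ι m) := by
  have hmem : Presheaf.imageSieve ι (U := Over.mk a) s ∈ X.smallEtaleTopology.over U (Over.mk a) :=
    Presheaf.imageSieve_mem (X.smallEtaleTopology.over U) ι (U := op (Over.mk a)) s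
  rw [GrothendieckTopology.mem_over_iff] at hmem
  let w₀ : (etPoint (((eps X).obj W).p w)).fiber.obj W := ⟨⟨w, rfl⟩⟩
  obtain ⟨W', h, hh, w', hw'⟩ := (etPoint (((eps X).obj W).p w)).jointly_surjective _ hmem w₀
  obtain ⟨m, hm⟩ := (Sieve.overEquiv_iff _ h).mp hh
  refine ⟨m, W', h, w'.down.1, congrArg (fun u => u.down.1) hw', ?_⟩
  exact hm.symm.trans (sec_map F ι (Over.mk (h ≫ a)) m).symm

theorem sec_eq (W : X.Etale) (a : W ⟶ U) (w : Pts W.left) (m n : A)
    (h : F.obj.map a.op (sec F ι m) = F.obj.map a.op (sec F ι n)) : m = n := by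
  rw [show F.obj.map a.op (sec F ι m) = ι.app (op (Over.mk a)) m from sec_map F ι (Over.mk a) m,
    show F.obj.map a.op (sec F ι n) = ι.app (op (Over.mk a)) n from sec_map F ι (Over.mk a) n] at h
  have hmem := Presheaf.equalizerSieve_mem (X.smallEtaleTopology.over U) ι (X := op (Over.mk a)) m n h
  rw [GrothendieckTopology.mem_over_iff] at hmem
  let w₀ : (etPoint (((eps X).obj W).p w)).fiber.obj W := ⟨⟨w, rfl⟩⟩
  obtain ⟨W', h', hh, -, -⟩ := (etPoint (((eps X).obj W).p w)).jointly_surjective _ hmem w₀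
  exact (Sieve.overEquiv_iff _ h').mp hh

theorem exists_germ_eq {B : Cl (Pts X)} (h : B ⟶ (eps X).obj U) (b : B.E) (s : (anSheaf F).obj.obj (op B)) :
    ∃ m : A, germ (anSheaf F).obj b s = germ (anSheaf F).obj b ((anSheaf F).obj.map h.op (η F (sec F ι m))) := by
  obtain ⟨W, w, hw, t, ht⟩ := exists_η_of_germ F b s
  let Φ := etPoint (B.p b)
  let u₀ : Φ.fiber.obj U := ⟨⟨h.toFun b, h.over b⟩⟩
  let w₀ : Φ.fiber.obj W := ⟨⟨w, hw⟩⟩
  obtain ⟨⟨P, p⟩, ⟨q₁, hq₁⟩, ⟨q₂, hq₂⟩, -⟩ := IsCofilteredOrEmpty.cone_objs (C := Φ.fiber.Elements) ⟨W, w₀⟩ ⟨U, u₀⟩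
  obtain ⟨m, P', k, p', hp', hk⟩ := exists_sec F ι P q₂ p.down.1 (F.obj.map q₁.op t)
  refine ⟨m, ?_⟩
  let pp : (point (B.p b)).fiber.obj ((eps X).obj P') := ⟨⟨p', by rw [← ((eps X).map k).over p', hp']; exact p.down.2⟩⟩
  have e1 : ∀ {V : X.Etale} (f : P' ⟶ V) (v : (point (B.p b)).fiber.obj ((eps X).obj V)) (r : F.obj.obj (op V)),
      ((eps X).map f).toFun p' = v.down.1 →
      (point (B.p b)).toPresheafFiber ((eps X).obj V) v (anSheaf F).obj (η F r) =
        (point (B.p b)).toPresheafFiber ((eps X).obj P') pp (anSheaf F).obj (η F (F.obj.map f.op r)) := by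
    intro V f v r hv
    rw [η_map, (point (B.p b)).toPresheafFiber_w_apply]
    exact congrArg (fun x => (point (B.p b)).toPresheafFiber ((eps X).obj V) x (anSheaf F).obj (η F r))
      (ULift.ext _ _ (Subtype.ext hv.symm))
  have hw' : ((eps X).map (k ≫ q₁)).toFun p' = w := by
    rw [Functor.map_comp, Cl.comp_toFun, Function.comp_apply, hp']
    exact congrArg (fun u => u.down.1) hq₁
  have hu' : ((eps X).map (k ≫ q₂)).toFun p' = h.toFun b := by
    rw [Functor.map_comp, Cl.comp_toFun, Function.comp_apply, hp']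
    exact congrArg (fun u => u.down.1) hq₂
  rw [← ht, e1 (k ≫ q₁) ⟨⟨w, hw⟩⟩ t hw', op_comp, Functor.map_comp]
  show (point (B.p b)).toPresheafFiber ((eps X).obj P') pp (anSheaf F).obj (η F (F.obj.map k.op (F.obj.map q₁.op t))) = _
  rw [hk, ← e1 (k ≫ q₂) ⟨⟨h.toFun b, h.over b⟩⟩ (sec F ι m) hu']
  exact ((point (B.p b)).toPresheafFiber_w_apply h ⟨⟨b, rfl⟩⟩ (anSheaf F).obj (η F (sec F ι m))).symm

theorem germ_sec_eq {B : Cl (Pts X)} (h : B ⟶ (eps X).obj U) (b : B.E) (m n : A)
    (he : germ (anSheaf F).obj b ((anSheaf F).obj.map h.op (η F (sec F ι m))) =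
      germ (anSheaf F).obj b ((anSheaf F).obj.map h.op (η F (sec F ι n)))) : m = n := by
  obtain ⟨B', f, b', hb', he'⟩ := (germ_eq_iff _ b _ _).mp he
  have he2 : germ (anSheaf F).obj (A := (eps X).obj U) (h.toFun b) (η F (sec F ι m)) =
      germ (anSheaf F).obj (A := (eps X).obj U) (h.toFun b) (η F (sec F ι n)) := by
    refine (germ_eq_iff _ _ _ _).mpr ⟨B', f ≫ h, b', congrArg h.toFun hb', ?_⟩
    rw [op_comp, Functor.map_comp]
    exact he'
  obtain ⟨W, g, w, -, hg⟩ := (germ_η_eq_iff F (V := U) (h.toFun b) _ _).mp he2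
  exact sec_eq F ι W g w m n hg

include ι in
/-- Sections of the inverse image over an etale scheme over `U` are locally algebraic. -/
theorem exists_cover_η {V : X.Etale} (a : V ⟶ U) (s : (anSheaf F).obj.obj (op ((eps X).obj V))) (v : Pts V.left) :
    ∃ (W : X.Etale) (g : W ⟶ V) (w : Pts W.left), ((eps X).map g).toFun w = v ∧
      ∃ t : F.obj.obj (op W), η F t = (anSheaf F).obj.map ((eps X).map g).op s := by
  haveI := AnEpsCont.lft_left X V
  let T : A → (anSheaf F).obj.obj (op ((eps X).obj V)) := fun m =>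
    (anSheaf F).obj.map ((eps X).map a).op (η F (sec F ι m))
  let C : A → Set (Pts V.left) := fun m =>
    {v | germ (anSheaf F).obj (A := (eps X).obj V) v s = germ (anSheaf F).obj (A := (eps X).obj V) v (T m)}
  have hdisj : ∀ m n v, v ∈ C m → v ∈ C n → m = n := fun m n v hm hn =>
    germ_sec_eq F ι ((eps X).map a) v m n (hm.symm.trans hn)
  obtain ⟨m, hm⟩ := exists_germ_eq F ι ((eps X).map a) v s
  have hclopen : IsClopen (C m) := by
    refine ⟨⟨?_⟩, isOpen_germ_eq (anSheaf F).obj (A := (eps X).obj V) s (T m)⟩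
    have heq : (C m)ᶜ = ⋃ (n : A) (_ : n ≠ m), C n := by
      ext x
      simp only [Set.mem_compl_iff, Set.mem_iUnion]
      constructor
      · intro hx
        obtain ⟨n, hn⟩ := exists_germ_eq F ι ((eps X).map a) x s
        exact ⟨n, fun hnm => hx (hnm ▸ hn), hn⟩
      · rintro ⟨n, hne, hn⟩ hx
        exact hne (hdisj n m x hn hx)
    rw [heq]
    exact isOpen_iUnion fun n => isOpen_iUnion fun _ => isOpen_germ_eq (anSheaf F).obj (A := (eps X).obj V) s (T n)
  let O : V.left.Opens := ⟨_, AnConnected.isOpen_algPart V.left hclopen⟩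
  haveI : Etale V.hom := V.prop
  let W : X.Etale := Scheme.Etale.mk (O.ι ≫ V.hom)
  let g : W ⟶ V := MorphismProperty.Over.homMk O.ι rfl trivial
  haveI := AnEpsCont.lft_left X W
  have hrange : Set.range ((eps X).map g).toFun = C m := by
    haveI : IsOpenImmersion g.left := inferInstanceAs (IsOpenImmersion O.ι)
    show Set.range (Pts.map (X := W.left) (Y := V.left) g.left) = C m
    rw [AnPts.range_map']
    ext x
    show x.pt ∈ Set.range O.ι ↔ _
    rw [Scheme.Opens.range_ι]
    exact AnConnected.mem_algPart_pt V.left x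
  obtain ⟨w, hw⟩ : v ∈ Set.range ((eps X).map g).toFun := hrange ▸ hm
  refine ⟨W, g, w, hw, F.obj.map (g ≫ a).op (sec F ι m), eq_of_germ (anSheaf F) _ _ fun x => ?_⟩
  rw [η_map, Functor.map_comp, op_comp, Functor.map_comp]
  have hx : ((eps X).map g).toFun x ∈ C m := hrange ▸ ⟨x, rfl⟩
  obtain ⟨B, f, b, hb, he⟩ := (germ_eq_iff _ _ _ _).mp hx
  refine (germ_eq_iff _ _ _ _).mpr ?_
  obtain ⟨B', f₁, f₂, b', hb', hcomm⟩ := AnClPoint.exists_lift ((eps X).map g) f x b hb.symm
  refine ⟨B', f₁, b', hb', ?_⟩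
  show (anSheaf F).obj.map f₁.op ((anSheaf F).obj.map ((eps X).map g).op (T m)) =
    (anSheaf F).obj.map f₁.op ((anSheaf F).obj.map ((eps X).map g).op s)
  have hcomp : ∀ r, (anSheaf F).obj.map f₁.op ((anSheaf F).obj.map ((eps X).map g).op r) =
      (anSheaf F).obj.map f₂.op ((anSheaf F).obj.map f.op r) := fun r => by
    rw [← Functor.map_comp_apply, ← Functor.map_comp_apply, ← op_comp, ← op_comp, hcomm]
  rw [hcomp, hcomp, he]

include ι in
theorem imageSieve_η_mem {V : X.Etale} (a : V ⟶ U) (s : (anSheaf F).obj.obj (op ((eps X).obj V))) :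
    Presheaf.imageSieve ((epsAdj X).unit.app F).hom (U := V) s ∈ X.smallEtaleTopology V :=
  mem_topology_of_pts _ fun v => by
    obtain ⟨W, g, w, hw, t, ht⟩ := exists_cover_η F ι a s v
    exact ⟨W, g, w, ⟨t, ht⟩, hw⟩

end LocallyConstant

/-- Some value of a locally constant sheaf. -/
theorem exists_ι {U : X.Etale} {M : Type} [AddCommGroup M]
    (e : EtCoh.restr F U ≅ (constantSheaf (X.smallEtaleTopology.over U) AddCommGrpCat.{1}).obj (AddCommGrpCat.of (ULift.{1} M))) :
    ∃ ι : (Functor.const (Over U)ᵒᵖ).obj (AddCommGrpCat.of (ULift.{1} M)) ⟶ (EtCoh.restr F U).obj,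
      Presheaf.IsLocallyInjective (X.smallEtaleTopology.over U) ι ∧
      Presheaf.IsLocallySurjective (X.smallEtaleTopology.over U) ι := by
  haveI : IsIso e.inv.hom := inferInstanceAs (IsIso ((sheafToPresheaf _ _).map e.inv))
  exact ⟨toSheafify (X.smallEtaleTopology.over U) _ ≫ e.inv.hom, inferInstance, inferInstance⟩

theorem isIso_unit (hF : EtCoh.IsFiniteLocallyConstant F) : IsIso ((epsAdj X).unit.app F) := by
  haveI : Presheaf.IsLocallyInjective X.smallEtaleTopology ((epsAdj X).unit.app F).hom :=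
    Presheaf.isLocallyInjective_of_injective _ _ fun V => fun s t h => η_injective F s t h
  haveI : Presheaf.IsLocallySurjective X.smallEtaleTopology ((epsAdj X).unit.app F).hom := by
    refine ⟨fun {V} s => ?_⟩
    obtain ⟨I, U, hU, hconst⟩ := hF
    let S : Sieve V :=
      { arrows := fun W g => ∃ i, Nonempty (W ⟶ U i)
        downward_closed := fun ⟨i, ⟨a⟩⟩ k => ⟨i, ⟨k ≫ a⟩⟩ }
    have hS : S ∈ X.smallEtaleTopology V := mem_topology_of_pts S fun v => by
      haveI := AnEpsCont.lft_left X V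
      obtain ⟨i, y, hy⟩ := hU (Pts.map (X := V.left) (Y := X) (V.left ↘ X) v).pt
      haveI := AnEpsCont.lft_left X (U i)
      obtain ⟨u, hu⟩ : Pts.map (X := V.left) (Y := X) (V.left ↘ X) v ∈
          Set.range (Pts.map (X := (U i).left) (Y := X) ((U i).left ↘ X)) := by
        rw [AnPts.range_map']
        exact ⟨y, hy⟩
      let Φ := etPoint (((eps X).obj V).p v)
      obtain ⟨⟨P, p⟩, ⟨q₁, hq₁⟩, ⟨q₂, -⟩, -⟩ := IsCofilteredOrEmpty.cone_objs (C := Φ.fiber.Elements)
        ⟨V, (⟨⟨v, rfl⟩⟩ : Φ.fiber.obj V)⟩ ⟨U i, (⟨⟨u, hu⟩⟩ : Φ.fiber.obj (U i))⟩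
      exact ⟨P, q₁, p.down.1, ⟨i, ⟨q₂⟩⟩, congrArg (fun u => u.down.1) hq₁⟩
    refine X.smallEtaleTopology.transitive hS _ ?_
    rintro W g ⟨i, ⟨a⟩⟩
    obtain ⟨M, _, _, ⟨e⟩⟩ := hconst i
    obtain ⟨ι, _, _⟩ := exists_ι F e
    refine X.smallEtaleTopology.superset_covering (fun W' k hk => ?_)
      (imageSieve_η_mem F ι a ((anSheaf F).obj.map ((eps X).map g).op s))
    obtain ⟨t, ht⟩ := hk
    refine ⟨t, ht.trans ?_⟩
    show (anSheaf F).obj.map ((eps X).map k).op ((anSheaf F).obj.map ((eps X).map g).op s) = _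
    rw [← Functor.map_comp_apply, ← op_comp, ← Functor.map_comp]
    rfl
  exact (Sheaf.isLocallyBijective_iff_isIso _).mp ⟨‹_›, ‹_›⟩

theorem over_iso_of_ι {U : X.Etale} {M : Type} [AddCommGroup M]
    (ι : (Functor.const (Over U)ᵒᵖ).obj (AddCommGrpCat.of (ULift.{1} M)) ⟶ (EtCoh.restr F U).obj)
    [Presheaf.IsLocallyInjective (X.smallEtaleTopology.over U) ι]
    [Presheaf.IsLocallySurjective (X.smallEtaleTopology.over U) ι] :
    Nonempty ((anSheaf F).over ((eps X).obj U) ≅ (Cl.const (Pts X) M).over ((eps X).obj U)) := by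
  set J := (Cl.topology (Pts X)).over ((eps X).obj U)
  let P : (Over ((eps X).obj U))ᵒᵖ ⥤ AddCommGrpCat.{1} := (Functor.const _).obj (AddCommGrpCat.of (ULift.{1} M))
  let φ : P ⟶ ((anSheaf F).over ((eps X).obj U)).obj :=
    { app := fun B => (ι.app (op (Over.mk (𝟙 U))) ≫ ((epsAdj X).unit.app F).hom.app (op U)) ≫
        (anSheaf F).obj.map B.unop.hom.op
      naturality := fun {B B'} k => by
        dsimp [P]
        rw [Category.id_comp, Category.assoc, Category.assoc, Category.assoc]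
        congr 2
        change _ = (anSheaf F).obj.map B.unop.hom.op ≫ (anSheaf F).obj.map k.unop.left.op
        rw [← Functor.map_comp, ← op_comp, Over.w] }
  haveI hφi : Presheaf.IsLocallyInjective J φ := by
    refine ⟨fun {B} m n hmn => ?_⟩
    rw [GrothendieckTopology.mem_over_iff]
    refine mem_topology_of_forall _ fun b => ?_
    refine ⟨_, 𝟙 _, b, (Sieve.overEquiv_iff _ _).mpr ?_, rfl⟩
    exact germ_sec_eq F ι B.unop.hom b m n (congrArg (germ (anSheaf F).obj b) hmn)
  haveI hφs : Presheaf.IsLocallySurjective J φ := by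
    refine ⟨fun {B} s => ?_⟩
    rw [GrothendieckTopology.mem_over_iff]
    refine mem_topology_of_forall _ fun b => ?_
    obtain ⟨m, hm⟩ := exists_germ_eq F ι B.hom b s
    obtain ⟨B', f, b', hb', he⟩ := (germ_eq_iff _ _ _ _).mp hm
    refine ⟨B', f, b', (Sieve.overEquiv_iff _ _).mpr ⟨m, ?_⟩, hb'⟩
    show (anSheaf F).obj.map (f ≫ B.hom).op (η F (sec F ι m)) = (anSheaf F).obj.map f.op s
    rw [op_comp, Functor.map_comp_apply]
    exact he.symm
  let P₀ : (Cl (Pts X))ᵒᵖ ⥤ AddCommGrpCat.{1} := (Functor.const _).obj (AddCommGrpCat.of (ULift.{1} M))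
  let ψ : P ⟶ ((Cl.const (Pts X) M).over ((eps X).obj U)).obj :=
    { app := fun B => (toSheafify (Cl.topology (Pts X)) P₀).app (op B.unop.left)
      naturality := fun {B B'} k => (toSheafify (Cl.topology (Pts X)) P₀).naturality k.unop.left.op }
  haveI hψi : Presheaf.IsLocallyInjective J ψ := by
    refine ⟨fun {B} m n hmn => ?_⟩
    rw [GrothendieckTopology.mem_over_iff]
    exact (Cl.topology (Pts X)).superset_covering (fun W g hg => (Sieve.overEquiv_iff _ _).mpr hg)
      (Presheaf.equalizerSieve_mem (Cl.topology (Pts X)) (toSheafify (Cl.topology (Pts X)) P₀)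
        (X := op B.unop.left) m n hmn)
  haveI hψs : Presheaf.IsLocallySurjective J ψ := by
    refine ⟨fun {B} s => ?_⟩
    rw [GrothendieckTopology.mem_over_iff]
    exact (Cl.topology (Pts X)).superset_covering (fun W g hg => (Sieve.overEquiv_iff _ _).mpr hg)
      (Presheaf.imageSieve_mem (Cl.topology (Pts X)) (toSheafify (Cl.topology (Pts X)) P₀) (U := op B.left) s)
  haveI : IsIso ((presheafToSheaf J AddCommGrpCat.{1}).map φ) := (J.W_iff φ).mp (J.W_of_isLocallyBijective φ)
  haveI : IsIso ((presheafToSheaf J AddCommGrpCat.{1}).map ψ) := (J.W_iff ψ).mp (J.W_of_isLocallyBijective ψ)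
  exact ⟨(sheafificationIso ((anSheaf F).over ((eps X).obj U))) ≪≫
    (asIso ((presheafToSheaf J AddCommGrpCat.{1}).map φ)).symm ≪≫ asIso ((presheafToSheaf J AddCommGrpCat.{1}).map ψ) ≪≫
    (sheafificationIso ((Cl.const (Pts X) M).over ((eps X).obj U))).symm⟩

theorem isFiniteLocallyConstant_epsPull (hF : EtCoh.IsFiniteLocallyConstant F) :
    Cl.IsFiniteLocallyConstant (anSheaf F) := by
  obtain ⟨I, U, hU, hconst⟩ := hF
  refine ⟨I, fun i => (eps X).obj (U i), fun z => ?_, fun i => ?_⟩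
  · obtain ⟨i, y, hy⟩ := hU z.pt
    haveI := AnEpsCont.lft_left X (U i)
    obtain ⟨u, hu⟩ : z ∈ Set.range (Pts.map (X := (U i).left) (Y := X) ((U i).left ↘ X)) := by
      rw [AnPts.range_map']
      exact ⟨y, hy⟩
    exact ⟨i, u, hu⟩
  · obtain ⟨M, hM, hfin, ⟨e⟩⟩ := hconst i
    obtain ⟨ι, _, _⟩ := exists_ι F e
    exact ⟨M, hM, hfin, over_iso_of_ι F ι⟩

end Groth.Agent.H05EGA4.AnUnit
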