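import Groth.Agent.H05EGA4.An.Lifts
import Mathlib

/-!
A null-homotopic invertible regular function on a connected complex variety is constant.
-/

set_option autoImplicit false
set_option linter.style.haveILetI false
set_option linter.unusedSectionVars false

open AlgebraicGeometry CategoryTheory TopologicalSpace Topology Polynomial An
open scoped nonZeroDivisors

noncomputable section

namespace Groth.Agent.H05EGA4.AnUnits

open Groth.Agent.H05EGA4.AnPts Groth.Agent.H05EGA4.AnGrowth

/-- A polynomial some power of which has smaller growth than the exponent is constant. -/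
theorem eq_C_of_pow_growth {m : ℕ} (P : MvPolynomial (Fin m) ℂ) {n k : ℕ} (hkn : k < n) {C : ℝ} (hC : 0 ≤ C)
    (h : ∀ z, ‖MvPolynomial.eval z P‖ ^ n ≤ C * (1 + ‖z‖) ^ k) : P = MvPolynomial.C (MvPolynomial.eval 0 P) := by
  refine MvPolynomial.funext fun w => ?_
  rw [MvPolynomial.eval_C]
  let p : ℂ[X] := MvPolynomial.aeval (fun i => Polynomial.C (w i) * X) P
  have hp : ∀ s, p.eval s = MvPolynomial.eval (fun i => w i * s) P := fun s => by
    show Polynomial.aeval s (MvPolynomial.aeval _ P) = _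
    rw [← AlgHom.comp_apply, MvPolynomial.comp_aeval, MvPolynomial.aeval_eq_eval]
    simp
  obtain ⟨q, hq, hqe⟩ := exists_polynomial_of_entire (f := fun s => (p ^ n).eval s) (p ^ n).differentiable k
    (C := C * (1 + ‖w‖) ^ k) fun s => by
      simp only [eval_pow, norm_pow, hp]
      refine (h _).trans ?_
      rw [mul_assoc, ← mul_pow]
      refine mul_le_mul_of_nonneg_left (pow_le_pow_left₀ (add_nonneg zero_le_one (norm_nonneg _)) ?_ k) hC
      have h1 : ‖(fun i => w i * s)‖ ≤ ‖w‖ * ‖s‖ := (pi_norm_le_iff_of_nonneg (mul_nonneg (norm_nonneg _) (norm_nonneg _))).mpr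
        fun i => (norm_mul _ _).le.trans (mul_le_mul_of_nonneg_right (norm_le_pi_norm w i) (norm_nonneg _))
      nlinarith [norm_nonneg w, norm_nonneg s]
  have hpq : p ^ n = q := Polynomial.funext hqe
  have hdeg : p.natDegree = 0 := by
    by_contra hne
    have h2 := congrArg Polynomial.natDegree hpq
    rw [natDegree_pow] at h2
    have : n * 1 ≤ n * p.natDegree := Nat.mul_le_mul_left n (Nat.one_le_iff_ne_zero.mpr hne)
    omega
  obtain ⟨c, hc⟩ := natDegree_eq_zero.mp hdeg
  have h0 := hp 0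
  have h1 := hp 1
  rw [← hc, eval_C] at h0 h1
  simp only [mul_one] at h1
  simp only [mul_zero] at h0
  exact h1.symm.trans h0

/-- An element with suitable roots in an integral finitely generated `ℂ`-algebra is a scalar. -/
theorem mem_range_of_roots {A : Type} [CommRing A] [IsDomain A] [Algebra ℂ A] [Algebra.FiniteType ℂ A] (u : A)
    (h : ∀ n, 0 < n → ∃ v : A, v ^ n = u) : ∃ c : ℂ, algebraMap ℂ A c = u := by
  obtain ⟨m, g, hginj, hgfin⟩ := exists_finite_inj_algHom_of_fg ℂ A
  set R := MvPolynomial (Fin m) ℂ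
  letI : Algebra R A := g.toRingHom.toAlgebra
  haveI : IsScalarTower ℂ R A := IsScalarTower.of_algebraMap_eq fun c => (g.commutes c).symm
  haveI : Module.Finite R A := hgfin
  haveI : FaithfulSMul R A := (faithfulSMul_iff_algebraMap_injective _ _).mpr hginj
  letI := FractionRing.liftAlgebra R (FractionRing A)
  set K := FractionRing R
  set L := FractionRing A
  haveI : Algebra.IsIntegral R A := inferInstance
  haveI : Algebra.IsAlgebraic R A := inferInstance
  haveI : IsLocalization (Algebra.algebraMapSubmonoid A R⁰) L := inferInstance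
  haveI : FiniteDimensional K L := .of_isLocalization R A R⁰
  set d := Module.finrank K L
  have hu : IsIntegral R u := Algebra.IsIntegral.isIntegral u
  set q := minpoly R u
  obtain ⟨C₀, N₀, hC₀, hbd⟩ : ∃ (C₀ : ℝ) (N₀ : ℕ), 1 ≤ C₀ ∧ ∀ z t, (q.map (MvPolynomial.eval z)).IsRoot t →
      ‖t‖ ≤ C₀ * (1 + ‖z‖) ^ N₀ := by
    choose C N hC hN using fun j => exists_bound_eval (q.coeff j)
    refine ⟨1 + ∑ j ∈ Finset.range q.natDegree, C j, ∑ j ∈ Finset.range q.natDegree, N j,
      le_add_of_nonneg_right (Finset.sum_nonneg fun j _ => hC j), fun z t ht => ?_⟩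
    have h1 : (1 : ℝ) ≤ 1 + ‖z‖ := le_add_of_nonneg_right (norm_nonneg _)
    refine (AlgDensity.norm_le_of_isRoot ((minpoly.monic hu).map _) ht).trans ?_
    rw [(minpoly.monic hu).natDegree_map, add_mul, one_mul, Finset.sum_mul]
    refine add_le_add (one_le_pow₀ h1) (Finset.sum_le_sum fun j hj => ?_)
    rw [coeff_map]
    exact (hN j z).trans (mul_le_mul_of_nonneg_left (pow_le_pow_right₀ h1 (Finset.single_le_sum (fun i _ => Nat.zero_le (N i)) hj)) (hC j))
  let n := N₀ * d + 1
  obtain ⟨v, hv⟩ := h n (Nat.succ_pos _)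
  have hvi : IsIntegral R v := Algebra.IsIntegral.isIntegral v
  set hpol := minpoly R v
  have hdeg : hpol.natDegree ≤ d := by
    have h1 := minpoly.natDegree_le (A := K) (algebraMap A L v)
    rwa [minpoly.isIntegrallyClosed_eq_field_fractions K L hvi, (minpoly.monic hvi).natDegree_map] at h1
  obtain ⟨w, hw⟩ : hpol ∣ q.comp (X ^ n) := minpoly.isIntegrallyClosed_dvd hvi (by
    rw [aeval_comp, map_pow, aeval_X, hv, minpoly.aeval])
  have hcoeff : ∀ k, hpol.coeff k = MvPolynomial.C (MvPolynomial.eval 0 (hpol.coeff k)) := fun k => by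
    refine eq_C_of_pow_growth (n := n) (k := N₀ * hpol.natDegree) _ (lt_of_le_of_lt (Nat.mul_le_mul_left _ hdeg) (Nat.lt_succ_self _))
      (C := (2 ^ n * C₀) ^ hpol.natDegree) (pow_nonneg (mul_nonneg (pow_nonneg zero_le_two n) (zero_le_one.trans hC₀)) _) fun z => ?_
    set H := hpol.map (MvPolynomial.eval z) with hH
    have hroot : ∀ t ∈ H.roots, ‖t‖ ^ n ≤ C₀ * (1 + ‖z‖) ^ N₀ := fun t ht => by
      rw [← norm_pow]
      refine hbd z _ ?_
      have h2 := congrArg (fun p => (p.map (MvPolynomial.eval z)).eval t) hw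
      simp only [map_comp, eval_comp, Polynomial.map_pow, map_X, eval_pow, eval_X, Polynomial.map_mul, eval_mul,
        show H.eval t = 0 from isRoot_of_mem_roots ht, ← hH, zero_mul] at h2
      exact h2
    set B := C₀ * (1 + ‖z‖) ^ N₀ with hB
    have hB1 : 1 ≤ B := one_le_mul_of_one_le_of_one_le hC₀ (one_le_pow₀ (le_add_of_nonneg_right (norm_nonneg _)))
    obtain ⟨T, hT0, hT, hTn⟩ : ∃ T : ℝ, 0 ≤ T ∧ (∀ t ∈ H.roots, ‖t‖ ≤ T) ∧ T ^ n ≤ B := by
      refine ⟨B ^ ((n : ℝ)⁻¹), Real.rpow_nonneg (zero_le_one.trans hB1) _, fun t ht => ?_, ?_⟩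
      · refine le_of_pow_le_pow_left₀ (n := n) (Nat.succ_ne_zero _) (Real.rpow_nonneg (zero_le_one.trans hB1) _) ?_
        rw [Real.rpow_inv_natCast_pow (zero_le_one.trans hB1) (Nat.succ_ne_zero _)]
        exact hroot t ht
      · rw [Real.rpow_inv_natCast_pow (zero_le_one.trans hB1) (Nat.succ_ne_zero _)]
    have hcoef : ‖H.coeff k‖ ≤ (1 + T) ^ hpol.natDegree := by
      have hm : H.Monic := (minpoly.monic hvi).map _
      have hsplit : H = (H.roots.map fun t => X - Polynomial.C t).prod := (IsAlgClosed.splits H).eq_prod_roots_of_monic hm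
      have hcard : Multiset.card H.roots = hpol.natDegree := by
        rw [IsAlgClosed.card_roots_eq_natDegree, (minpoly.monic hvi).natDegree_map]
      rw [hsplit, ← hcard]
      revert hT
      generalize H.roots = M
      intro hT
      induction M using Multiset.induction generalizing k with
      | empty => rw [Multiset.map_zero, Multiset.prod_zero, Multiset.card_zero, pow_zero, coeff_one]; split_ifs <;> simp
      | cons a M ih =>
        have ih' := fun j => ih j (fun t ht => hT t (Multiset.mem_cons_of_mem ht))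
        rw [Multiset.map_cons, Multiset.prod_cons, sub_mul, coeff_sub, coeff_C_mul, Multiset.card_cons, pow_succ,
          mul_comm ((1 + T) ^ Multiset.card M), add_mul, one_mul]
        refine (norm_sub_le _ _).trans (add_le_add ?_ ?_)
        · rcases k with _ | j
          · rw [coeff_X_mul_zero, norm_zero]; exact pow_nonneg (add_nonneg zero_le_one hT0) _
          · rw [coeff_X_mul]; exact ih' j
        · rw [norm_mul]; exact mul_le_mul (hT a (Multiset.mem_cons_self a M)) (ih' k) (norm_nonneg _) hT0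
    have h1T : (1 + T) ^ n ≤ 2 ^ n * B := by
      rcases le_total T 1 with hT1 | hT1
      · exact (pow_le_pow_left₀ (add_nonneg zero_le_one hT0) (by linarith : 1 + T ≤ 2) n).trans
          (le_mul_of_one_le_right (pow_nonneg zero_le_two n) hB1)
      · refine (pow_le_pow_left₀ (add_nonneg zero_le_one hT0) (by linarith : 1 + T ≤ 2 * T) n).trans ?_
        rw [mul_pow]
        exact mul_le_mul_of_nonneg_left hTn (pow_nonneg zero_le_two n)
    rw [← coeff_map]
    refine (pow_le_pow_left₀ (norm_nonneg _) hcoef n).trans ?_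
    rw [← pow_mul, mul_comm, pow_mul, pow_mul, ← mul_pow]
    refine (pow_le_pow_left₀ (pow_nonneg (add_nonneg zero_le_one hT0) n) h1T _).trans ?_
    rw [hB, mul_assoc]
  let h₀ : ℂ[X] := hpol.map (MvPolynomial.eval 0)
  have hh : hpol = h₀.map (algebraMap ℂ R) := Polynomial.ext fun k => by
    rw [coeff_map, coeff_map]
    exact hcoeff k
  have hv0 : aeval v h₀ = 0 := by
    rw [← minpoly.aeval R v, show minpoly R v = h₀.map (algebraMap ℂ R) from hh, aeval_map_algebraMap]
  have hsplit : h₀ = (h₀.roots.map fun t => X - Polynomial.C t).prod :=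
    (IsAlgClosed.splits h₀).eq_prod_roots_of_monic ((minpoly.monic hvi).map _)
  rw [hsplit, map_multiset_prod, Multiset.map_map, Multiset.prod_eq_zero_iff, Multiset.mem_map] at hv0
  obtain ⟨c, -, hc⟩ := hv0
  simp only [Function.comp_apply, map_sub, aeval_X, aeval_C, sub_eq_zero] at hc
  exact ⟨c ^ n, by rw [map_pow, ← hc, hv]⟩

variable {X : Scheme.{0}} [X.Over SC] [LocallyOfFiniteType (X ↘ SC)]

/-- A continuous root of an invertible function is regular. -/
theorem exists_evTop_eq [IsAffine X] {u : Γ(X, ⊤)} (hu : IsUnit u) {n : ℕ} (hn : 0 < n) (r : Pts X → ℂ)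
    (hr : Continuous r) (hru : ∀ x, r x ^ n = x.evTop u) : ∃ v : Γ(X, ⊤), ∀ x, x.evTop v = r x := by
  letI : Algebra ℂ Γ(X, ⊤) := (strHom X).toAlgebra
  obtain ⟨u', hu'⟩ := hu.exists_right_inv
  let P : StandardEtalePair Γ(X, ⊤) :=
    ⟨Polynomial.X ^ n - Polynomial.C u, monic_X_pow_sub_C u hn.ne', 1,
      Polynomial.C (algebraMap ℂ Γ(X, ⊤) (n : ℂ)⁻¹ * u') * Polynomial.X, -Polynomial.C u', 1, by
      have hn' : (Polynomial.C (n : Γ(X, ⊤))) * Polynomial.C (algebraMap ℂ Γ(X, ⊤) (n : ℂ)⁻¹) = 1 := by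
        rw [← Polynomial.C_mul, ← map_natCast (algebraMap ℂ Γ(X, ⊤)) n, ← map_mul,
          mul_inv_cancel₀ (Nat.cast_ne_zero.mpr hn.ne'), map_one, Polynomial.C_1]
      have hu'' : Polynomial.C u * Polynomial.C u' = (1 : Γ(X, ⊤)[X]) := by rw [← Polynomial.C_mul, hu', Polynomial.C_1]
      obtain ⟨k, rfl⟩ : ∃ k, n = k + 1 := ⟨n - 1, by omega⟩
      rw [derivative_sub, derivative_X_pow, derivative_C, sub_zero, pow_one, Polynomial.C_mul, Nat.add_sub_cancel]
      linear_combination (Polynomial.X ^ (k + 1) * Polynomial.C u') * hn' + hu''⟩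
  let g : Spec (CommRingCat.of P.Ring) ⟶ X :=
    Spec.map (CommRingCat.ofHom (algebraMap Γ(X, ⊤) P.Ring)) ≫ X.isoSpec.inv
  letI : (Spec (CommRingCat.of P.Ring)).Over SC := ⟨g ≫ X ↘ SC⟩
  haveI : g.IsOver SC := ⟨rfl⟩
  haveI : Etale (Spec.map (CommRingCat.ofHom (algebraMap Γ(X, ⊤) P.Ring))) :=
    (HasRingHomProperty.Spec_iff (P := @Etale)).mpr (RingHom.etale_algebraMap.mpr inferInstance)
  haveI : Etale g := inferInstance
  haveI : IsSeparated g := inferInstance
  haveI : LocallyOfFiniteType ((Spec (CommRingCat.of P.Ring)) ↘ SC) := by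
    change LocallyOfFiniteType (g ≫ X ↘ SC); infer_instance
  haveI : (Scheme.Hom.IsOver (𝟙 X) SC) := ⟨Category.id_comp _⟩
  set e := Scheme.ΓSpecIso (CommRingCat.of P.Ring)
  have happ : ∀ a : Γ(X, ⊤), e.hom (g.appTop a) = algebraMap Γ(X, ⊤) P.Ring a := fun a => by
    have h1 : X.isoSpec.inv.appTop = (Scheme.ΓSpecIso Γ(X, ⊤)).inv := by
      rw [← cancel_mono (Scheme.ΓSpecIso Γ(X, ⊤)).hom, Iso.inv_hom_id, ← Scheme.toSpecΓ_appTop, ← Scheme.Hom.comp_appTop,
        Scheme.toSpecΓ_isoSpec_inv, Scheme.Hom.id_appTop]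
    have h2 : g.appTop ≫ e.hom = CommRingCat.ofHom (algebraMap Γ(X, ⊤) P.Ring) := by
      rw [Scheme.Hom.comp_appTop, h1, Category.assoc, Scheme.ΓSpecIso_naturality]
      exact Iso.inv_hom_id_assoc (Scheme.ΓSpecIso Γ(X, ⊤)) _
    exact congrArg (fun f : Γ(X, ⊤) ⟶ CommRingCat.of P.Ring => f a) h2
  have hex : ∀ x : Pts X, ∃ φ : P.Ring →+* ℂ, (∀ a, φ (algebraMap Γ(X, ⊤) P.Ring a) = x.evTop a) ∧ φ P.X = r x := by
    intro x
    letI : Algebra Γ(X, ⊤) ℂ := (evHom x ⊤ (Opens.mem_top _)).toAlgebra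
    have hm : P.HasMap (r x) := ⟨by
      show Polynomial.aeval (r x) (Polynomial.X ^ n - Polynomial.C u) = 0
      rw [map_sub, map_pow, aeval_X, aeval_C, hru]
      exact sub_self _, by show IsUnit (Polynomial.aeval (r x) (1 : Γ(X, ⊤)[X])); rw [map_one]; exact isUnit_one⟩
    exact ⟨(P.lift (r x) hm).toRingHom, (P.lift (r x) hm).commutes, P.lift_X _ hm⟩
  choose φ hφa hφX using hex
  have hpt : ∀ x : Pts X, ∃ y : Pts (Spec (CommRingCat.of P.Ring)), ∀ f, y.evTop f = φ x (e.hom f) := fun x =>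
    exists_pts_of_hom ((φ x).comp e.hom.hom) fun c => by
      show φ x (e.hom ((g ≫ X ↘ SC).appTop _)) = c
      rw [Scheme.Hom.comp_appTop]
      show φ x (e.hom (g.appTop (strHom X c))) = c
      rw [happ, hφa, evTop_strHom]
  choose σ hσ using hpt
  have hσc : Continuous σ := by
    obtain ⟨m, s, hs⟩ := exists_generators (X := Spec (CommRingCat.of P.Ring))
    rw [(isClosedEmbedding_evTop s hs).isInducing.continuous_iff, continuous_pi_iff]
    intro i
    suffices ∀ b : P.Ring, Continuous fun x => φ x b by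
      simp only [Function.comp_def, hσ]
      exact this _
    intro b
    let π : Γ(X, ⊤)[X][X] →+* P.Ring := Ideal.Quotient.mk _
    obtain ⟨b, rfl⟩ : ∃ b', π b' = b := Ideal.Quotient.mk_surjective b
    have h4 : ∀ x a, φ x (π (Polynomial.C (Polynomial.C a))) = x.evTop a := fun x a => hφa x a
    have h5 : ∀ x, φ x (π (Polynomial.C Polynomial.X)) = r x := fun x => hφX x
    have hY : π Polynomial.X = 1 := by
      have h3 : Polynomial.aeval P.X (1 : Γ(X, ⊤)[X]) * π Polynomial.X = 1 := P.aeval_X_g_mul_mk_X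
      rw [map_one, one_mul] at h3
      exact h3
    induction b using Polynomial.induction_on' with
    | add p q hp hq => simp only [map_add]; exact hp.add hq
    | monomial j p =>
      simp only [← Polynomial.C_mul_X_pow_eq_monomial, map_mul, map_pow, hY, one_pow, map_one, mul_one]
      induction p using Polynomial.induction_on' with
      | add p q hp hq => simp only [map_add]; exact hp.add hq
      | monomial k a =>
        simp only [← Polynomial.C_mul_X_pow_eq_monomial, map_mul, map_pow, h4, h5]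
        exact (continuous_evTop a).mul (hr.pow k)
  have hσg : ∀ x, Pts.map g (σ x) = Pts.map (𝟙 X) x := fun x => pts_ext fun a => by
    rw [show (Pts.map g (σ x)).evTop a = (σ x).evTop (g.appTop a) from Pts.ev_map g (σ x) ⊤ trivial a, hσ, happ, hφa,
      show Pts.map (𝟙 X) x = x from Subtype.ext (Category.comp_id _)]
  obtain ⟨h, hh, hsec⟩ := AnLifts.exists_lift (𝟙 X) g σ hσc hσg
  refine ⟨h.appTop (e.inv P.X), fun x => ?_⟩
  haveI : h.IsOver SC := ⟨by
    show h ≫ g ≫ X ↘ SC = X ↘ SC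
    rw [← Category.assoc, hh, Category.id_comp]⟩
  rw [show x.evTop (h.appTop (e.inv P.X)) = (Pts.map h x).evTop (e.inv P.X) from (Pts.ev_map h x ⊤ trivial _).symm,
    show Pts.map h x = σ x from Subtype.ext (hsec x).symm, hσ]
  show φ x ((e.inv ≫ e.hom) P.X) = r x
  rw [e.inv_hom_id]
  exact hφX x

theorem eq_zero_of_evTop [IsReduced X] {a : Γ(X, ⊤)} (h : ∀ x : Pts X, x.evTop a = 0) : a = 0 := by
  refine eq_zero_of_basicOpen_eq_bot a (le_bot_iff.mp fun p hp => ?_)
  obtain ⟨x, hx⟩ := exists_pts_mem (X.basicOpen a).2.isLocallyClosed ⟨p, hp⟩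
  exact absurd (h x) ((mem_basicOpen_iff x (Opens.mem_top _) a).mp hx)

theorem exists_log {T : Type} [TopologicalSpace T] (φ : C(T, {z : ℂ // z ≠ 0})) (z₀ : {z : ℂ // z ≠ 0})
    (hnull : φ.Homotopic (ContinuousMap.const T z₀)) : ∃ ψ : C(T, ℂ), ∀ x, Complex.exp (ψ x) = (φ x).1 := by
  obtain ⟨H⟩ := hnull.symm
  have h0 : ∀ a, H.toContinuousMap (0, a) = (fun z : ℂ ↦ (⟨_, z.exp_ne_zero⟩ : {z : ℂ // z ≠ 0}))
      ((ContinuousMap.const T (Complex.log z₀.1)) a) := fun a =>
    (H.apply_zero a).trans (Subtype.ext (Complex.exp_log z₀.2).symm)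
  let L := Complex.isCoveringMap_exp.liftHomotopy H.toContinuousMap (ContinuousMap.const T (Complex.log z₀.1)) h0
  refine ⟨L.comp ⟨fun a => (1, a), continuous_const.prodMk continuous_id⟩, fun x => ?_⟩
  have h1 := congrFun (Complex.isCoveringMap_exp.liftHomotopy_lifts H.toContinuousMap
    (ContinuousMap.const T (Complex.log z₀.1)) h0) (1, x)
  exact (congrArg Subtype.val h1).trans (congrArg Subtype.val (H.apply_one x))

theorem evTop_eq_of_log_affine [IsAffine X] [AlgebraicGeometry.IsIntegral X] (u : Γ(X, ⊤)) (ψ : C(Pts X, ℂ))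
    (hψ : ∀ x, Complex.exp (ψ x) = x.evTop u) (x y : Pts X) : x.evTop u = y.evTop u := by
  letI : Algebra ℂ Γ(X, ⊤) := (strHom X).toAlgebra
  haveI : Nonempty (Scheme.Opens.toScheme (⊤ : X.Opens)) := (inferInstance : Nonempty X).map fun x => ⟨x, trivial⟩
  haveI : IsDomain Γ(X, ⊤) := inferInstance
  obtain ⟨m, s, hs⟩ := exists_generators (X := X)
  haveI : Algebra.FiniteType ℂ Γ(X, ⊤) :=
    Algebra.FiniteType.of_surjective (MvPolynomial.aeval s)
      (fun a => by obtain ⟨P, hP⟩ := hs a; exact ⟨P, (MvPolynomial.aeval_def s P).trans hP⟩)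
  have hu : IsUnit u := by
    have h1 := AnLifts.eq_univ_of_pts (X.basicOpen u).2 fun z =>
      (mem_basicOpen_iff z (Opens.mem_top _) u).mpr (show z.evTop u ≠ 0 from hψ z ▸ Complex.exp_ne_zero _)
    refine RingedSpace.isUnit_of_isUnit_germ (X := X.toLocallyRingedSpace.toRingedSpace) ⊤ u fun p _ => ?_
    have h2 : p ∈ X.basicOpen u := h1.ge (Set.mem_univ p)
    exact (Scheme.mem_basicOpen X u p trivial).mp h2
  obtain ⟨c, hc⟩ := mem_range_of_roots u fun n hn => by
    obtain ⟨v, hv⟩ := exists_evTop_eq hu hn (fun z => Complex.exp (ψ z / n)) (by fun_prop) fun z => by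
      rw [← Complex.exp_nat_mul, mul_div_cancel₀ _ (Nat.cast_ne_zero.mpr hn.ne'), hψ]
    refine ⟨v, sub_eq_zero.mp (eq_zero_of_evTop fun z => ?_)⟩
    show evHom z ⊤ (Opens.mem_top _) (v ^ n - u) = 0
    rw [map_sub, map_pow, ← ev_eq, ← ev_eq]
    show z.evTop v ^ n - z.evTop u = 0
    rw [hv, ← Complex.exp_nat_mul, mul_div_cancel₀ _ (Nat.cast_ne_zero.mpr hn.ne'), hψ, sub_self]
  rw [← hc]
  exact (evTop_strHom x c).trans (evTop_strHom y c).symm

theorem evTop_eq_of_log [ConnectedSpace X] (u : Γ(X, ⊤)) (ψ : C(Pts X, ℂ))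
    (hψ : ∀ x, Complex.exp (ψ x) = x.evTop u) (x y : Pts X) : x.evTop u = y.evTop u := by
  set C := {z : Pts X | z.evTop u = y.evTop u} with hC
  have hCc : IsClosed C := isClosed_eq (continuous_evTop u) continuous_const
  -- constant on each irreducible closed subset
  have hirr : ∀ (η : X) (a b : Pts X), a.pt ∈ closure {η} → b.pt ∈ closure {η} → a.evTop u = b.evTop u := by
    intro η
    obtain ⟨U, hU, hηU, -⟩ := exists_isAffineOpen_mem_and_subset (x := η) (U := (⊤ : X.Opens)) trivial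
    obtain ⟨p, hp⟩ : η ∈ Set.range hU.fromSpec := by rw [hU.range_fromSpec]; exact hηU
    haveI : p.asIdeal.IsPrime := p.2
    let q : Γ(X, U) ⟶ CommRingCat.of (Γ(X, U) ⧸ p.asIdeal) := CommRingCat.ofHom (Ideal.Quotient.mk p.asIdeal)
    haveI : IsClosedImmersion (Spec.map q) := IsClosedImmersion.spec_of_surjective q Ideal.Quotient.mk_surjective
    let ι : Spec (CommRingCat.of (Γ(X, U) ⧸ p.asIdeal)) ⟶ X := Spec.map q ≫ hU.fromSpec
    letI : (Spec (CommRingCat.of (Γ(X, U) ⧸ p.asIdeal))).Over SC := ⟨ι ≫ X ↘ SC⟩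
    haveI : ι.IsOver SC := ⟨rfl⟩
    haveI : LocallyOfFiniteType ((Spec (CommRingCat.of (Γ(X, U) ⧸ p.asIdeal))) ↘ SC) := by
      change LocallyOfFiniteType (ι ≫ X ↘ SC); infer_instance
    have hη : η ∈ Set.range ι := by
      rw [Scheme.Hom.comp_base, TopCat.coe_comp, Set.range_comp]
      refine ⟨p, ?_, hp⟩
      rw [show Set.range (Spec.map q) = PrimeSpectrum.zeroLocus (p.asIdeal : Set Γ(X, U)) from
        (range_comap_of_surjective _ _ Ideal.Quotient.mk_surjective).trans (by rw [Ideal.mk_ker])]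
      exact fun _ h => h
    obtain ⟨z₀, hz₀⟩ : ∃ z₀ : Pts (Spec (CommRingCat.of (Γ(X, U) ⧸ p.asIdeal))), True :=
      (exists_pts_mem isOpen_univ.isLocallyClosed Set.univ_nonempty).imp fun _ _ => trivial
    have hconst : ∀ a : Pts X, a.pt ∈ Set.range ι → a.evTop u = (Pts.map ι z₀).evTop u := by
      intro a ha
      obtain ⟨z, rfl⟩ : a ∈ Set.range (Pts.map ι) := by rw [range_map' ι]; exact ha
      have hev : ∀ w, (Pts.map ι w).evTop u = w.evTop (ι.appTop u) := fun w => Pts.ev_map ι w ⊤ trivial u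
      rw [hev, hev]
      exact evTop_eq_of_log_affine _ (ψ.comp ⟨Pts.map ι, Pts.continuous_map ι⟩) (fun w => (hψ _).trans (hev w)) z z₀
    intro a b ha hb
    have hcl : (Pts.pt ⁻¹' closure {η} : Set (Pts X)) ⊆ {a | a.evTop u = (Pts.map ι z₀).evTop u} := by
      have hlc : IsLocallyClosed (Set.range ι) := ι.isLocallyClosed_range
      refine fun w hw => closure_minimal (s := Pts.pt ⁻¹' Set.range ι) (fun a ha => hconst a ha)
        (isClosed_eq (continuous_evTop u) continuous_const) (mem_closure_pts hlc ?_)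
      exact closure_mono (s := {η}) (Set.singleton_subset_iff.mpr hη) hw
    exact (hcl ha).trans (hcl hb).symm
  let T : Set X := {p | (Pts.pt ⁻¹' closure {p} : Set (Pts X)) ⊆ C}
  have hT : ∀ {p q : X}, p ⤳ q → (p ∈ T ↔ q ∈ T) := by
    intro p q h
    have hsub : (Pts.pt ⁻¹' closure {q} : Set (Pts X)) ⊆ Pts.pt ⁻¹' closure {p} :=
      Set.preimage_mono (closure_minimal (Set.singleton_subset_iff.mpr h.mem_closure) isClosed_closure)
    refine ⟨fun hp => hsub.trans hp, fun hq a ha => ?_⟩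
    obtain ⟨b, hb⟩ := exists_pts_mem (isClosed_closure (s := ({q} : Set X))).isLocallyClosed ⟨q, subset_closure rfl⟩
    exact (hirr p a b ha (hsub hb)).trans (hq hb)
  have hTo := AnConnected.isOpen_of_specializes X hT
  have hTc : IsClosed T := ⟨AnConnected.isOpen_of_specializes X fun h => not_congr (hT h)⟩
  have huniv : T = Set.univ := IsClopen.eq_univ ⟨hTc, hTo⟩ ⟨y.pt, fun a ha => hirr y.pt a y ha (subset_closure rfl)⟩
  exact (huniv ▸ Set.mem_univ x.pt : x.pt ∈ T) (subset_closure rfl)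

end Groth.Agent.H05EGA4.AnUnits
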