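import Mathlib

/-!
Weierstrass division for holomorphic functions of several variables.
-/

set_option autoImplicit false
set_option linter.style.haveILetI false
set_option linter.unusedSectionVars false

open Filter Topology Metric Set MeasureTheory Complex

noncomputable section

namespace Groth.Agent.H05EGA4.AnWeierstrass

variable {E F : Type*} [NormedAddCommGroup E] [NormedSpace ℂ E] [FiniteDimensional ℂ E]
  [NormedAddCommGroup F] [NormedSpace ℂ F]

/-- The Cauchy estimate. -/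
theorem norm_fderiv_le {G : E → F} {z : E} {ρ M : ℝ} (hρ : 0 < ρ) (hM : 0 ≤ M)
    (hG : ∀ w ∈ closedBall z ρ, DifferentiableAt ℂ G w) (hb : ∀ w ∈ closedBall z ρ, ‖G w‖ ≤ M) :
    ‖fderiv ℂ G z‖ ≤ M / ρ := by
  refine ContinuousLinearMap.opNorm_le_of_unit_norm (div_nonneg hM hρ.le) fun v hv => ?_
  let L : ℂ → E := fun s => z + s • v
  have hL : ∀ s ∈ closedBall (0 : ℂ) ρ, L s ∈ closedBall z ρ := fun s hs => by
    rw [mem_closedBall_zero_iff] at hs
    simpa [L, mem_closedBall, dist_eq_norm, norm_smul, hv] using hs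
  have hd : HasDerivAt L v 0 := by
    simpa [L] using ((hasDerivAt_id (0 : ℂ)).smul_const v).const_add z
  have hz : L 0 = z := by simp [L]
  have hcomp : deriv (G ∘ L) 0 = fderiv ℂ G z v := by
    have h := (hz ▸ (hG z (mem_closedBall_self hρ.le)).hasFDerivAt : HasFDerivAt G (fderiv ℂ G z) (L 0))
    exact (h.comp_hasDerivAt 0 hd).deriv
  rw [← hcomp]
  refine norm_deriv_le_of_forall_mem_sphere_norm_le hρ ?_ fun s hs => hb _ (hL s (sphere_subset_closedBall hs))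
  refine DifferentiableOn.diffContOnCl ?_
  rw [closure_ball (0 : ℂ) hρ.ne']
  exact fun s hs => ((hG _ (hL s hs)).comp s (by fun_prop)).differentiableWithinAt

theorem norm_fderiv_sub_le {G H : E → F} {z : E} {ρ M : ℝ} (hρ : 0 < ρ) (hM : 0 ≤ M)
    (hG : ∀ w ∈ closedBall z ρ, DifferentiableAt ℂ G w) (hH : ∀ w ∈ closedBall z ρ, DifferentiableAt ℂ H w)
    (hb : ∀ w ∈ closedBall z ρ, ‖G w - H w‖ ≤ M) : ‖fderiv ℂ G z - fderiv ℂ H z‖ ≤ M / ρ := by
  rw [← fderiv_sub (hG z (mem_closedBall_self hρ.le)) (hH z (mem_closedBall_self hρ.le))]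
  exact norm_fderiv_le hρ hM (fun w hw => (hG w hw).sub (hH w hw)) hb

/-- Holomorphic functions are continuously differentiable. -/
theorem continuousAt_fderiv {G : E → F} {U : Set E} (hU : IsOpen U) (hG : DifferentiableOn ℂ G U) {x : E}
    (hx : x ∈ U) : ContinuousAt (fderiv ℂ G) x := by
  haveI : ProperSpace E := FiniteDimensional.proper ℂ E
  obtain ⟨r, hr, hrU⟩ := Metric.isOpen_iff.mp hU x hx
  have hρ : 0 < r / 3 := by linarith
  have hd : ∀ w ∈ closedBall x (2 * (r / 3)), DifferentiableAt ℂ G w := fun w hw =>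
    hG.differentiableAt (hU.mem_nhds (hrU (by rw [mem_ball]; rw [mem_closedBall] at hw; linarith)))
  have hu := (isCompact_closedBall x (2 * (r / 3))).uniformContinuousOn_of_continuous
    fun w hw => (hd w hw).continuousAt.continuousWithinAt
  rw [Metric.uniformContinuousOn_iff] at hu
  rw [Metric.continuousAt_iff]
  intro ε hε
  obtain ⟨δ, hδ, hδu⟩ := hu (ε / 2 * (r / 3)) (by positivity)
  refine ⟨min δ (r / 3), lt_min hδ hρ, fun y hy => ?_⟩
  rw [dist_eq_norm]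
  have hy1 : ‖y - x‖ < δ := by rw [← dist_eq_norm]; exact hy.trans_le (min_le_left _ _)
  have hy2 : ‖y - x‖ < r / 3 := by rw [← dist_eq_norm]; exact hy.trans_le (min_le_right _ _)
  have hin : ∀ w ∈ closedBall x (r / 3), w + (y - x) ∈ closedBall x (2 * (r / 3)) ∧ w ∈ closedBall x (2 * (r / 3)) := by
    intro w hw
    rw [mem_closedBall, dist_eq_norm] at hw ⊢
    refine ⟨?_, by rw [mem_closedBall, dist_eq_norm]; linarith⟩
    calc ‖w + (y - x) - x‖ = ‖(w - x) + (y - x)‖ := by abel_nf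
      _ ≤ ‖w - x‖ + ‖y - x‖ := norm_add_le _ _
      _ ≤ _ := by linarith
  have h := norm_fderiv_sub_le (G := fun w => G (w + (y - x))) (H := G) (z := x) hρ
    (M := ε / 2 * (r / 3)) (by positivity)
    (fun w hw => (hd _ (hin w hw).1).comp w (differentiableAt_id.add_const _)) (fun w hw => hd _ (hin w hw).2)
    (fun w hw => by
      rw [← dist_eq_norm]
      exact (hδu _ (hin w hw).1 _ (hin w hw).2 (by rw [dist_eq_norm, add_sub_cancel_left]; exact hy1)).le)
  rw [fderiv_comp_add_right, show x + (y - x) = y by abel, mul_div_assoc, div_self hρ.ne', mul_one] at h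
  linarith

/-- A circle integral of holomorphic functions is holomorphic. -/
theorem differentiableOn_circleIntegral {U : Set E} (hU : IsOpen U) {R : ℝ} (hR : 0 < R) {f : E → ℂ → ℂ}
    (hd : ∀ ζ ∈ sphere (0 : ℂ) R, DifferentiableOn ℂ (fun z => f z ζ) U)
    (hc : ContinuousOn (fun p : E × ℂ => f p.1 p.2) (U ×ˢ sphere (0 : ℂ) R)) :
    DifferentiableOn ℂ (fun z => ∮ ζ in C(0, R), f z ζ) U := by
  haveI : ProperSpace E := FiniteDimensional.proper ℂ E
  intro z₀ hz₀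
  refine DifferentiableAt.differentiableWithinAt ?_
  obtain ⟨r, hr, hrU⟩ := Metric.isOpen_iff.mp hU z₀ hz₀
  set ρ := r / 3 with hρdef
  have hρ : 0 < ρ := by rw [hρdef]; linarith
  have hBU : closedBall z₀ (2 * ρ) ⊆ U := (closedBall_subset_ball (by rw [hρdef]; linarith)).trans hrU
  have hK : IsCompact (closedBall z₀ (2 * ρ) ×ˢ sphere (0 : ℂ) R) := (isCompact_closedBall _ _).prod (isCompact_sphere _ _)
  have hcK := hc.mono (Set.prod_mono hBU subset_rfl)
  obtain ⟨M, hM⟩ := hK.exists_bound_of_continuousOn hcK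
  have hξ : ∀ t, circleMap 0 R t ∈ sphere (0 : ℂ) R := fun t => circleMap_mem_sphere 0 hR.le t
  have hdat : ∀ t, ∀ w ∈ closedBall z₀ (2 * ρ), DifferentiableAt ℂ (fun z => f z (circleMap 0 R t)) w := fun t w hw =>
    (hd _ (hξ t)).differentiableAt (hU.mem_nhds (hBU hw))
  have hsub : ∀ z ∈ closedBall z₀ ρ, closedBall z ρ ⊆ closedBall z₀ (2 * ρ) := fun z hz =>
    closedBall_subset_closedBall' (by rw [mem_closedBall] at hz; linarith)
  have hfc : ∀ z ∈ U, Continuous fun t => deriv (circleMap 0 R) t • f z (circleMap 0 R t) := fun z hz => by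
    have h1 : Continuous (deriv (circleMap 0 R)) := by
      rw [show deriv (circleMap 0 R) = fun t => circleMap 0 R t * I from funext fun t => deriv_circleMap 0 R t]
      exact (continuous_circleMap 0 R).mul continuous_const
    exact h1.smul (hc.comp_continuous (continuous_const.prodMk (continuous_circleMap 0 R)) fun t => ⟨hz, hξ t⟩)
  have hderc : Continuous fun t => fderiv ℂ (fun z => f z (circleMap 0 R t)) z₀ := by
    rw [continuous_iff_continuousAt]
    intro t₀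
    rw [Metric.continuousAt_iff]
    intro ε hε
    have hu := hK.uniformContinuousOn_of_continuous hcK
    rw [Metric.uniformContinuousOn_iff] at hu
    obtain ⟨δ, hδ, hδu⟩ := hu (ε / 2 * ρ) (by positivity)
    obtain ⟨η, hη, hηc⟩ := Metric.continuousAt_iff.mp (continuous_circleMap 0 R).continuousAt δ hδ
    refine ⟨η, hη, fun {t} ht => ?_⟩
    have h := norm_fderiv_sub_le (G := fun z => f z (circleMap 0 R t)) (H := fun z => f z (circleMap 0 R t₀)) (z := z₀)
      hρ (M := ε / 2 * ρ) (by positivity) (fun w hw => hdat t w (hsub z₀ (mem_closedBall_self hρ.le) hw))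
      (fun w hw => hdat t₀ w (hsub z₀ (mem_closedBall_self hρ.le) hw)) fun w hw => by
        rw [← dist_eq_norm]
        exact (hδu (w, _) ⟨hsub z₀ (mem_closedBall_self hρ.le) hw, hξ t⟩ (w, _)
          ⟨hsub z₀ (mem_closedBall_self hρ.le) hw, hξ t₀⟩ (by
            rw [Prod.dist_eq, dist_self]; exact max_lt hδ (hηc ht))).le
    rw [mul_div_assoc, div_self hρ.ne', mul_one] at h
    rw [dist_eq_norm]
    linarith
  have hdξ : ∀ t, ‖deriv (circleMap 0 R) t‖ = R := fun t => by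
    rw [deriv_circleMap, norm_mul, norm_I, mul_one]
    simpa using hξ t
  have key := intervalIntegral.hasFDerivAt_integral_of_dominated_of_fderiv_le (𝕜 := ℂ) (μ := volume) (a := 0) (b := 2 * Real.pi)
    (F := fun z t => deriv (circleMap 0 R) t • f z (circleMap 0 R t))
    (F' := fun z t => deriv (circleMap 0 R) t • fderiv ℂ (fun z => f z (circleMap 0 R t)) z)
    (bound := fun _ => R * (|M| / ρ)) (s := ball z₀ ρ) (x₀ := z₀) (ball_mem_nhds z₀ hρ)
    (by filter_upwards [hU.mem_nhds hz₀] with z hz using (hfc z hz).aestronglyMeasurable)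
    ((hfc z₀ hz₀).intervalIntegrable _ _)
    (by
      have h1 : Continuous (deriv (circleMap 0 R)) := by
        rw [show deriv (circleMap 0 R) = fun t => circleMap 0 R t * I from funext fun t => deriv_circleMap 0 R t]
        exact (continuous_circleMap 0 R).mul continuous_const
      exact (h1.smul hderc).aestronglyMeasurable)
    (Eventually.of_forall fun t _ z hz => by
      rw [norm_smul, hdξ]
      have hz' : z ∈ closedBall z₀ ρ := ball_subset_closedBall hz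
      exact mul_le_mul_of_nonneg_left (norm_fderiv_le hρ (abs_nonneg M) (fun w hw => hdat t w (hsub z hz' hw))
        fun w hw => (hM (w, _) ⟨hsub z hz' hw, hξ t⟩).trans (le_abs_self M)) hR.le)
    intervalIntegrable_const
    (Eventually.of_forall fun t _ z hz => by
      exact ((hdat t z (closedBall_subset_closedBall (by linarith) (ball_subset_closedBall hz))).hasFDerivAt).const_smul (deriv (circleMap 0 R) t))
  exact key.differentiableAt

section Division

variable {m d : ℕ}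

/-- The monic polynomial with given lower coefficients. -/
def P (c : Fin d → ℂ) (t : ℂ) : ℂ := t ^ d + ∑ i : Fin d, c i * t ^ (i : ℕ)

/-- The coefficients of the divided difference of `P`. -/
def K (c : Fin d → ℂ) (ζ : ℂ) (i : ℕ) : ℂ :=
  ζ ^ (d - 1 - i) + ∑ j : Fin d, if i < (j : ℕ) then c j * ζ ^ ((j : ℕ) - 1 - i) else 0

theorem sub_mul_sum_K (c : Fin d → ℂ) (ζ t : ℂ) :
    (ζ - t) * ∑ i ∈ Finset.range d, K c ζ i * t ^ i = P c ζ - P c t := by
  have hg : ∀ n : ℕ, (ζ - t) * ∑ i ∈ Finset.range n, ζ ^ (n - 1 - i) * t ^ i = ζ ^ n - t ^ n := fun n => by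
    have h := geom_sum₂_mul t ζ n
    rw [show (∑ i ∈ Finset.range n, ζ ^ (n - 1 - i) * t ^ i) = ∑ i ∈ Finset.range n, t ^ i * ζ ^ (n - 1 - i) from
      Finset.sum_congr rfl fun i _ => mul_comm _ _]
    linear_combination -h
  have hj : ∀ j : Fin d, ∑ i ∈ Finset.range d, (if i < (j : ℕ) then c j * ζ ^ ((j : ℕ) - 1 - i) else 0) * t ^ i =
      c j * ∑ i ∈ Finset.range (j : ℕ), ζ ^ ((j : ℕ) - 1 - i) * t ^ i := fun j => by
    rw [Finset.mul_sum]
    rw [← Finset.sum_subset (Finset.range_subset_range.mpr j.2.le) (fun i _ hi => by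
      rw [if_neg (by simpa using hi), zero_mul])]
    refine Finset.sum_congr rfl fun i hi => ?_
    rw [if_pos (Finset.mem_range.mp hi), mul_assoc]
  simp only [K, add_mul, Finset.sum_add_distrib, Finset.sum_mul, P]
  rw [Finset.sum_comm, mul_add, hg, Finset.sum_congr rfl fun j _ => hj j, Finset.mul_sum]
  simp only [mul_left_comm (ζ - t), hg]
  simp only [mul_sub, Finset.sum_sub_distrib]
  ring

/-- The bound on the coefficients that keeps `P` free of zeros on the circle. -/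
def bnd (R : ℝ) (d : ℕ) : ℝ := R ^ d / (1 + ∑ i : Fin d, R ^ (i : ℕ))

theorem bnd_pos {R : ℝ} (hR : 0 < R) : 0 < bnd R d := by
  rw [bnd]; positivity

theorem P_ne_zero {R : ℝ} (hR : 0 < R) {c : Fin d → ℂ} (hc : ‖c‖ < bnd R d) {ζ : ℂ} (hζ : ‖ζ‖ = R) : P c ζ ≠ 0 := by
  intro h
  have h1 : R ^ d ≤ ‖c‖ * ∑ i : Fin d, R ^ (i : ℕ) := by
    rw [Finset.mul_sum, ← hζ, ← norm_pow, show ζ ^ d = -∑ i : Fin d, c i * ζ ^ (i : ℕ) from eq_neg_of_add_eq_zero_left h,
      norm_neg]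
    refine (norm_sum_le _ _).trans (Finset.sum_le_sum fun i _ => ?_)
    rw [norm_mul, norm_pow]
    exact mul_le_mul_of_nonneg_right (norm_le_pi_norm c i) (pow_nonneg (norm_nonneg _) _)
  have hs : 0 ≤ ∑ i : Fin d, R ^ (i : ℕ) := Finset.sum_nonneg fun i _ => pow_nonneg hR.le _
  rw [bnd, lt_div_iff₀ (by positivity)] at hc
  nlinarith [norm_nonneg c]

/-- The quotient. -/
def Q (R : ℝ) (φ : (Fin m → ℂ) × ℂ → ℂ) (w : (Fin m → ℂ) × ℂ × (Fin d → ℂ)) : ℂ :=
  (2 * (Real.pi : ℂ) * I)⁻¹ * ∮ ζ in C(0, R), φ (w.1, ζ) / (P w.2.2 ζ * (ζ - w.2.1))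

/-- The coefficients of the remainder. -/
def Rem (R : ℝ) (φ : (Fin m → ℂ) × ℂ → ℂ) (w : (Fin m → ℂ) × (Fin d → ℂ)) (i : Fin d) : ℂ :=
  (2 * (Real.pi : ℂ) * I)⁻¹ * ∮ ζ in C(0, R), φ (w.1, ζ) / P w.2 ζ * K w.2 ζ i

variable {r R R' : ℝ} (hR : 0 < R) (hRR : R < R') {φ : (Fin m → ℂ) × ℂ → ℂ}
  (hφ : DifferentiableOn ℂ φ (ball 0 r ×ˢ ball 0 R'))

include hR hRR hφ

theorem differentiableOn_Q :
    DifferentiableOn ℂ (Q (d := d) R φ) (ball 0 r ×ˢ (ball 0 R ×ˢ ball 0 (bnd R d))) := by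
  have hne : ∀ w ∈ ball (0 : Fin m → ℂ) r ×ˢ (ball (0 : ℂ) R ×ˢ ball (0 : Fin d → ℂ) (bnd R d)), ∀ ζ ∈ sphere (0 : ℂ) R,
      P w.2.2 ζ * (ζ - w.2.1) ≠ 0 := fun w hw ζ hζ => by
    rw [mem_sphere_zero_iff_norm] at hζ
    refine mul_ne_zero (P_ne_zero hR (mem_ball_zero_iff.mp hw.2.2) hζ) (sub_ne_zero.mpr fun h => ?_)
    have := mem_ball_zero_iff.mp hw.2.1
    rw [← h, hζ] at this
    exact lt_irrefl _ this
  have hmem : ∀ w ∈ ball (0 : Fin m → ℂ) r ×ˢ (ball (0 : ℂ) R ×ˢ ball (0 : Fin d → ℂ) (bnd R d)), ∀ ζ ∈ sphere (0 : ℂ) R,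
      (w.1, ζ) ∈ ball (0 : Fin m → ℂ) r ×ˢ ball (0 : ℂ) R' := fun w hw ζ hζ =>
    ⟨hw.1, by rw [mem_sphere_zero_iff_norm] at hζ; rw [mem_ball_zero_iff, hζ]; exact hRR⟩
  have hU : IsOpen (ball (0 : Fin m → ℂ) r ×ˢ (ball (0 : ℂ) R ×ˢ ball (0 : Fin d → ℂ) (bnd R d))) :=
    isOpen_ball.prod (isOpen_ball.prod isOpen_ball)
  let f : ((Fin m → ℂ) × ℂ × (Fin d → ℂ)) → ℂ → ℂ := fun w ζ => φ (w.1, ζ) / (P w.2.2 ζ * (ζ - w.2.1))
  refine (differentiableOn_circleIntegral (f := f) hU hR (fun ζ hζ => ?_) ?_).const_mul _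
  · have hl : Differentiable ℂ fun w : (Fin m → ℂ) × ℂ × (Fin d → ℂ) => (w.1, ζ) :=
      differentiable_fst.prodMk (differentiable_const ζ)
    have h1 : DifferentiableOn ℂ (fun w : (Fin m → ℂ) × ℂ × (Fin d → ℂ) => φ (w.1, ζ))
        (ball 0 r ×ˢ (ball 0 R ×ˢ ball 0 (bnd R d))) := hφ.comp hl.differentiableOn fun w hw => hmem w hw ζ hζ
    have h2 : Differentiable ℂ fun w : (Fin m → ℂ) × ℂ × (Fin d → ℂ) => P w.2.2 ζ * (ζ - w.2.1) := by
      unfold P; fun_prop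
    exact h1.fun_mul (h2.differentiableOn.fun_inv fun w hw => hne w hw ζ hζ)
  · have h1 : Continuous fun p : ((Fin m → ℂ) × ℂ × (Fin d → ℂ)) × ℂ => (p.1.1, p.2) := by fun_prop
    have h2 : Continuous fun p : ((Fin m → ℂ) × ℂ × (Fin d → ℂ)) × ℂ => P p.1.2.2 p.2 * (p.2 - p.1.2.1) := by
      unfold P; fun_prop
    exact (hφ.continuousOn.comp h1.continuousOn fun p hp => hmem p.1 hp.1 p.2 hp.2).div h2.continuousOn
      fun p hp => hne p.1 hp.1 p.2 hp.2

theorem differentiableOn_Rem :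
    DifferentiableOn ℂ (Rem (d := d) R φ) (ball 0 r ×ˢ ball 0 (bnd R d)) := by
  refine differentiableOn_pi.mpr fun i => ?_
  have hne : ∀ w ∈ ball (0 : Fin m → ℂ) r ×ˢ ball (0 : Fin d → ℂ) (bnd R d), ∀ ζ ∈ sphere (0 : ℂ) R,
      P w.2 ζ ≠ 0 := fun w hw ζ hζ => P_ne_zero hR (mem_ball_zero_iff.mp hw.2) (mem_sphere_zero_iff_norm.mp hζ)
  have hmem : ∀ w ∈ ball (0 : Fin m → ℂ) r ×ˢ ball (0 : Fin d → ℂ) (bnd R d), ∀ ζ ∈ sphere (0 : ℂ) R,
      (w.1, ζ) ∈ ball (0 : Fin m → ℂ) r ×ˢ ball (0 : ℂ) R' := fun w hw ζ hζ =>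
    ⟨hw.1, by rw [mem_sphere_zero_iff_norm] at hζ; rw [mem_ball_zero_iff, hζ]; exact hRR⟩
  have hKd : ∀ ζ, Differentiable ℂ fun w : (Fin m → ℂ) × (Fin d → ℂ) => K w.2 ζ i := fun ζ => by
    refine (differentiable_const _).fun_add (Differentiable.fun_sum fun j _ => ?_)
    split_ifs
    · fun_prop
    · exact differentiable_const 0
  have hKc : Continuous fun p : ((Fin m → ℂ) × (Fin d → ℂ)) × ℂ => K p.1.2 p.2 i := by
    refine (continuous_snd.pow _).add (continuous_finsetSum _ fun j _ => ?_)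
    split_ifs
    · fun_prop
    · exact continuous_const
  have hU : IsOpen (ball (0 : Fin m → ℂ) r ×ˢ ball (0 : Fin d → ℂ) (bnd R d)) := isOpen_ball.prod isOpen_ball
  let f : ((Fin m → ℂ) × (Fin d → ℂ)) → ℂ → ℂ := fun w ζ => φ (w.1, ζ) / P w.2 ζ * K w.2 ζ i
  refine (differentiableOn_circleIntegral (f := f) hU hR (fun ζ hζ => ?_) ?_).const_mul _
  · have hl : Differentiable ℂ fun w : (Fin m → ℂ) × (Fin d → ℂ) => (w.1, ζ) :=
      differentiable_fst.prodMk (differentiable_const ζ)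
    have h1 : DifferentiableOn ℂ (fun w : (Fin m → ℂ) × (Fin d → ℂ) => φ (w.1, ζ))
        (ball 0 r ×ˢ ball 0 (bnd R d)) := hφ.comp hl.differentiableOn fun w hw => hmem w hw ζ hζ
    have h2 : Differentiable ℂ fun w : (Fin m → ℂ) × (Fin d → ℂ) => P w.2 ζ := by
      unfold P; fun_prop
    exact (h1.fun_mul (h2.differentiableOn.fun_inv fun w hw => hne w hw ζ hζ)).fun_mul (hKd ζ).differentiableOn
  · have h1 : Continuous fun p : ((Fin m → ℂ) × (Fin d → ℂ)) × ℂ => (p.1.1, p.2) := by fun_prop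
    have h2 : Continuous fun p : ((Fin m → ℂ) × (Fin d → ℂ)) × ℂ => P p.1.2 p.2 := by
      unfold P; fun_prop
    exact ((hφ.continuousOn.comp h1.continuousOn fun p hp => hmem p.1 hp.1 p.2 hp.2).div h2.continuousOn
      fun p hp => hne p.1 hp.1 p.2 hp.2).mul hKc.continuousOn

/-- Division by the generic monic polynomial. -/
theorem division_eq {z : Fin m → ℂ} (hz : z ∈ ball 0 r) {t : ℂ} (ht : t ∈ ball (0 : ℂ) R) {c : Fin d → ℂ}
    (hc : c ∈ ball 0 (bnd R d)) :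
    φ (z, t) = Q R φ (z, t, c) * P c t + ∑ i : Fin d, Rem R φ (z, c) i * t ^ (i : ℕ) := by
  have hsub : ∀ ζ : ℂ, ‖ζ‖ ≤ R → (z, ζ) ∈ ball (0 : Fin m → ℂ) r ×ˢ ball (0 : ℂ) R' := fun ζ hζ =>
    ⟨hz, mem_ball_zero_iff.mpr (hζ.trans_lt hRR)⟩
  have hgd : DifferentiableOn ℂ (fun ζ => φ (z, ζ)) (closedBall (0 : ℂ) R) :=
    hφ.comp ((differentiable_const z).prodMk differentiable_id).differentiableOn fun ζ hζ => hsub ζ (mem_closedBall_zero_iff.mp hζ)
  have c1 := hgd.circleIntegral_sub_inv_smul ht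
  have hne : ∀ ζ ∈ sphere (0 : ℂ) R, P c ζ ≠ 0 ∧ ζ - t ≠ 0 := fun ζ hζ => by
    rw [mem_sphere_zero_iff_norm] at hζ
    refine ⟨P_ne_zero hR (mem_ball_zero_iff.mp hc) hζ, sub_ne_zero.mpr fun h => ?_⟩
    rw [mem_ball_zero_iff, ← h, hζ] at ht
    exact lt_irrefl _ ht
  have hPc : Continuous fun ζ => P c ζ := by unfold P; fun_prop
  have hφc : ContinuousOn (fun ζ => φ (z, ζ)) (sphere (0 : ℂ) R) := hgd.continuousOn.mono sphere_subset_closedBall
  have hi₁ : CircleIntegrable (fun ζ => φ (z, ζ) / (P c ζ * (ζ - t))) 0 R :=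
    ContinuousOn.circleIntegrable hR.le (hφc.div (hPc.mul (continuous_id.sub continuous_const)).continuousOn
      fun ζ hζ => mul_ne_zero (hne ζ hζ).1 (hne ζ hζ).2)
  have hi₂ : ∀ i : Fin d, CircleIntegrable (fun ζ => φ (z, ζ) / P c ζ * K c ζ i) 0 R := fun i => by
    refine ContinuousOn.circleIntegrable hR.le ((hφc.div hPc.continuousOn fun ζ hζ => (hne ζ hζ).1).mul
      (Continuous.continuousOn ?_))
    refine (continuous_id.pow _).add (continuous_finsetSum _ fun j _ => ?_)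
    split_ifs
    · fun_prop
    · exact continuous_const
  have hi₃ : CircleIntegrable (fun ζ => φ (z, ζ) / (P c ζ * (ζ - t)) * P c t) 0 R :=
    ContinuousOn.circleIntegrable hR.le ((hφc.div (hPc.mul (continuous_id.sub continuous_const)).continuousOn
      fun ζ hζ => mul_ne_zero (hne ζ hζ).1 (hne ζ hζ).2).mul continuousOn_const)
  have key : (∮ ζ in C(0, R), (ζ - t)⁻¹ • φ (z, ζ)) =
      ∮ ζ in C(0, R), φ (z, ζ) / (P c ζ * (ζ - t)) * P c t + ∑ i : Fin d, φ (z, ζ) / P c ζ * K c ζ i * t ^ (i : ℕ) := by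
    refine circleIntegral.integral_congr hR.le fun ζ hζ => ?_
    have h := sub_mul_sum_K c ζ t
    rw [Finset.sum_range] at h
    obtain ⟨h1, h2⟩ := hne ζ hζ
    simp only [smul_eq_mul, mul_assoc (φ (z, ζ) / P c ζ), ← Finset.mul_sum]
    field_simp
    linear_combination -φ (z, ζ) * h
  have hi₄ : ∀ i : Fin d, CircleIntegrable (fun ζ => φ (z, ζ) / P c ζ * K c ζ i * t ^ (i : ℕ)) 0 R := fun i =>
    CircleIntegrable.mul_continuousOn (hi₂ i) continuousOn_const
  rw [key, circleIntegral.integral_add hi₃ (CircleIntegrable.fun_sum _ fun i _ => hi₄ i),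
    circleIntegral.integral_fun_sum fun i _ => hi₄ i] at c1
  have e1 : (∮ ζ in C(0, R), φ (z, ζ) / (P c ζ * (ζ - t)) * P c t) =
      (∮ ζ in C(0, R), φ (z, ζ) / (P c ζ * (ζ - t))) * P c t := circleIntegral.integral_smul_const _ _ _ _
  have e2 : ∀ i : Fin d, (∮ ζ in C(0, R), φ (z, ζ) / P c ζ * K c ζ i * t ^ (i : ℕ)) =
      (∮ ζ in C(0, R), φ (z, ζ) / P c ζ * K c ζ i) * t ^ (i : ℕ) := fun i => circleIntegral.integral_smul_const _ _ _ _
  rw [e1, Finset.sum_congr rfl fun i _ => e2 i, smul_eq_mul] at c1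
  have h2π : (2 * (Real.pi : ℂ) * I) ≠ 0 := Complex.two_pi_I_ne_zero
  apply mul_left_cancel₀ h2π
  rw [← c1]
  simp only [Q, Rem, mul_add, Finset.mul_sum, ← mul_assoc, mul_inv_cancel₀ h2π, one_mul]

end Division

section Preparation

variable {m d : ℕ}

theorem coeff_eq_zero_of_eventually {a : ℕ → ℂ} {w : ℂ → ℂ} (hw : ContinuousAt w 0)
    (h : ∀ᶠ t in 𝓝[≠] (0 : ℂ), ∑ i ∈ Finset.range d, a i * t ^ i = t ^ d * w t) : ∀ i < d, a i = 0 := by
  intro i
  induction i using Nat.strong_induction_on with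
  | h i ih =>
    intro hi
    have hS : ∀ t : ℂ, ∑ k ∈ Finset.range d, a k * t ^ k =
        t ^ i * (a i + ∑ k ∈ (Finset.range d).filter (fun k => i < k), a k * t ^ (k - i)) := fun t => by
      rw [mul_add, Finset.mul_sum, ← Finset.add_sum_erase _ _ (Finset.mem_range.mpr hi), mul_comm (t ^ i) (a i)]
      congr 1
      rw [Finset.sum_congr rfl (s₁ := (Finset.range d).filter fun k => i < k) (fun k hk => show t ^ i * (a k * t ^ (k - i)) = a k * t ^ k by
        rw [mul_left_comm, ← pow_add, Nat.add_sub_cancel' (Finset.mem_filter.mp hk).2.le])]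
      refine (Finset.sum_subset (fun k hk => ?_) fun k hk hk' => ?_).symm
      · exact Finset.mem_erase.mpr ⟨(Finset.mem_filter.mp hk).2.ne', (Finset.mem_filter.mp hk).1⟩
      · obtain ⟨hne, hkd⟩ := Finset.mem_erase.mp hk
        have hle : ¬ i < k := fun hlt => hk' (Finset.mem_filter.mpr ⟨hkd, hlt⟩)
        rw [ih k (by omega) (by omega), zero_mul]
    let F : ℂ → ℂ := fun t => a i + (∑ k ∈ (Finset.range d).filter (fun k => i < k), a k * t ^ (k - i)) - t ^ (d - i) * w t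
    have hF : ∀ᶠ t in 𝓝[≠] (0 : ℂ), F t = 0 := by
      filter_upwards [h, self_mem_nhdsWithin] with t ht ht0
      rw [hS, show t ^ d = t ^ i * t ^ (d - i) by rw [← pow_add, Nat.add_sub_cancel' hi.le], mul_assoc] at ht
      have := mul_left_cancel₀ (pow_ne_zero i ht0) ht
      simp only [F, this, sub_self]
    have hc : ContinuousAt F 0 :=
      (continuousAt_const.add (Continuous.continuousAt (by fun_prop))).sub ((continuous_pow _).continuousAt.mul hw)
    have h0 : F 0 = 0 := tendsto_nhds_unique (hc.tendsto.mono_left nhdsWithin_le_nhds)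
      (tendsto_const_nhds.congr' (hF.mono fun t ht => ht.symm))
    have hs : ∑ k ∈ (Finset.range d).filter (fun k => i < k), a k * (0 : ℂ) ^ (k - i) = 0 :=
      Finset.sum_eq_zero fun k hk => by
        rw [zero_pow (Nat.sub_pos_of_lt (Finset.mem_filter.mp hk).2).ne', mul_zero]
    simpa [F, hs, zero_pow (Nat.sub_pos_of_lt hi).ne'] using h0

/-- Weierstrass division. -/
theorem weierstrass_division {r R' : ℝ} (hr : 0 < r) (hR' : 0 < R') {f : (Fin m → ℂ) × ℂ → ℂ}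
    (hf : DifferentiableOn ℂ f (ball 0 r ×ˢ ball 0 R')) {u : ℂ → ℂ} (hu : ContinuousAt u 0) (hu0 : u 0 ≠ 0)
    (hfu : ∀ᶠ t in 𝓝 (0 : ℂ), f (0, t) = t ^ d * u t) {g : (Fin m → ℂ) × ℂ → ℂ}
    (hg : DifferentiableOn ℂ g (ball 0 r ×ˢ ball 0 R')) :
    ∃ ε > 0, ∃ q : (Fin m → ℂ) × ℂ → ℂ, DifferentiableOn ℂ q (ball 0 ε ×ˢ ball 0 ε) ∧
      ∃ b : Fin d → (Fin m → ℂ) → ℂ, (∀ i, DifferentiableOn ℂ (b i) (ball 0 ε)) ∧
        ∀ z ∈ ball (0 : Fin m → ℂ) ε, ∀ t ∈ ball (0 : ℂ) ε, g (z, t) = q (z, t) * f (z, t) + ∑ i, b i z * t ^ (i : ℕ) := by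
  set R := R' / 2 with hRdef
  have hR : 0 < R := by rw [hRdef]; linarith
  have hRR : R < R' := by rw [hRdef]; linarith
  have hB := bnd_pos (d := d) hR
  let Qf : (Fin m → ℂ) × ℂ × (Fin d → ℂ) → ℂ := Q R f
  let Rf : (Fin m → ℂ) × (Fin d → ℂ) → (Fin d → ℂ) := Rem R f
  have hQd := differentiableOn_Q (d := d) hR hRR hf
  have hRd := differentiableOn_Rem (d := d) hR hRR hf
  have hdiv : ∀ z ∈ ball (0 : Fin m → ℂ) r, ∀ t ∈ ball (0 : ℂ) R, ∀ c ∈ ball (0 : Fin d → ℂ) (bnd R d),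
      f (z, t) = Qf (z, t, c) * P c t + ∑ i : Fin d, Rf (z, c) i * t ^ (i : ℕ) :=
    fun z hz t ht c hc => division_eq hR hRR hf hz ht hc
  have hUQ : IsOpen (ball (0 : Fin m → ℂ) r ×ˢ (ball (0 : ℂ) R ×ˢ ball (0 : Fin d → ℂ) (bnd R d))) :=
    isOpen_ball.prod (isOpen_ball.prod isOpen_ball)
  have hUR : IsOpen (ball (0 : Fin m → ℂ) r ×ˢ ball (0 : Fin d → ℂ) (bnd R d)) := isOpen_ball.prod isOpen_ball
  have h0Q : ∀ t ∈ ball (0 : ℂ) R, ((0 : Fin m → ℂ), t, (0 : Fin d → ℂ)) ∈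
      ball (0 : Fin m → ℂ) r ×ˢ (ball (0 : ℂ) R ×ˢ ball (0 : Fin d → ℂ) (bnd R d)) :=
    fun t ht => ⟨mem_ball_self hr, ht, mem_ball_self hB⟩
  have h0R : ((0 : Fin m → ℂ), (0 : Fin d → ℂ)) ∈ ball (0 : Fin m → ℂ) r ×ˢ ball (0 : Fin d → ℂ) (bnd R d) :=
    ⟨mem_ball_self hr, mem_ball_self hB⟩
  have hP0 : ∀ t : ℂ, P (0 : Fin d → ℂ) t = t ^ d := fun t => by simp [P]
  have hQ₀c : ∀ t ∈ ball (0 : ℂ) R, ContinuousAt (fun t => Qf (0, t, 0)) t := fun t ht =>
    (hQd.continuousOn.continuousAt (hUQ.mem_nhds (h0Q t ht))).comp (f := fun t : ℂ => ((0 : Fin m → ℂ), t, (0 : Fin d → ℂ)))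
      (by fun_prop)
  have hnear : ∀ᶠ t in 𝓝[≠] (0 : ℂ), t ∈ ball (0 : ℂ) R ∧ f (0, t) = t ^ d * u t ∧ t ≠ 0 := by
    filter_upwards [mem_nhdsWithin_of_mem_nhds (ball_mem_nhds (0 : ℂ) hR), hfu.filter_mono nhdsWithin_le_nhds,
      self_mem_nhdsWithin] with t h1 h2 h3 using ⟨h1, h2, h3⟩
  have hR0 : Rf (0, 0) = 0 := by
    have h := coeff_eq_zero_of_eventually (d := d) (a := fun i => if hi : i < d then Rf (0, 0) ⟨i, hi⟩ else 0)
      (w := fun t => u t - Qf (0, t, 0)) (hu.sub (hQ₀c 0 (mem_ball_self hR))) (by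
        filter_upwards [hnear] with t ht
        have h1 := hdiv 0 (mem_ball_self hr) t ht.1 0 (mem_ball_self hB)
        rw [ht.2.1, hP0] at h1
        rw [Finset.sum_range]
        simp only [Fin.is_lt, dite_true, Fin.eta]
        linear_combination -h1)
    funext i
    simpa using h i i.2
  have hQu : ∀ᶠ t in 𝓝[≠] (0 : ℂ), Qf (0, t, 0) = u t := by
    filter_upwards [hnear] with t ht
    have h1 := hdiv 0 (mem_ball_self hr) t ht.1 0 (mem_ball_self hB)
    rw [ht.2.1, hP0, hR0] at h1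
    simp only [Pi.zero_apply, zero_mul, Finset.sum_const_zero, add_zero] at h1
    exact mul_right_cancel₀ (pow_ne_zero d ht.2.2) (h1.symm.trans (mul_comm _ _))
  have hQ00 : Qf (0, 0, 0) = u 0 :=
    tendsto_nhds_unique ((hQ₀c 0 (mem_ball_self hR)).tendsto.mono_left nhdsWithin_le_nhds)
      ((hu.tendsto.mono_left nhdsWithin_le_nhds).congr' (hQu.mono fun t ht => ht.symm))
  -- the map whose inverse gives the coefficients
  let G : (Fin m → ℂ) × (Fin d → ℂ) → (Fin m → ℂ) × (Fin d → ℂ) := fun w => (w.1, Rf w)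
  have hGd : DifferentiableOn ℂ G (ball 0 r ×ˢ ball 0 (bnd R d)) := differentiableOn_fst.prodMk hRd
  have hGc : ContinuousAt (fderiv ℂ G) (0, 0) := continuousAt_fderiv hUR hGd h0R
  have hinj : ∀ v, fderiv ℂ G (0, 0) v = 0 → v = 0 := by
    intro v hv
    have hR' : HasFDerivAt Rf (fderiv ℂ Rf (0, 0)) ((0 : Fin m → ℂ), (0 : Fin d → ℂ)) :=
      (hRd.differentiableAt (hUR.mem_nhds h0R)).hasFDerivAt
    have hG' : fderiv ℂ G (0, 0) = (ContinuousLinearMap.fst ℂ (Fin m → ℂ) (Fin d → ℂ)).prod (fderiv ℂ Rf (0, 0)) :=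
      (hasFDerivAt_fst.prodMk hR').fderiv
    rw [hG', ContinuousLinearMap.prod_apply, Prod.mk_eq_zero] at hv
    obtain ⟨hv1, hv2⟩ := hv
    obtain ⟨a, b⟩ := v
    have ha : a = 0 := hv1
    subst ha
    have hline : HasDerivAt (fun s : ℂ => ((0 : Fin m → ℂ), s • b)) ((0 : Fin m → ℂ), b) 0 := by
      have := ((hasDerivAt_const (0 : ℂ) (0 : Fin m → ℂ))).prodMk ((hasDerivAt_id (0 : ℂ)).smul_const b)
      simpa using this
    have hRs : HasDerivAt (fun s : ℂ => Rf (0, s • b)) 0 0 := by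
      have := (show HasFDerivAt Rf (fderiv ℂ Rf (0, 0)) ((0 : Fin m → ℂ), (0 : ℂ) • b) by simpa using hR').comp_hasDerivAt 0 hline
      rwa [hv2] at this
    let D : ℂ → ℂ := fun t => fderiv ℂ Qf (0, t, 0) (0, 0, b)
    have hD : ContinuousAt D 0 := by
      have h1 : ContinuousAt (fun t : ℂ => fderiv ℂ Qf (0, t, 0)) 0 :=
        (continuousAt_fderiv hUQ hQd (h0Q 0 (mem_ball_self hR))).comp
          (f := fun t : ℂ => ((0 : Fin m → ℂ), t, (0 : Fin d → ℂ))) (by fun_prop)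
      exact h1.clm_apply continuousAt_const
    have hkey : ∀ᶠ t in 𝓝[≠] (0 : ℂ), D t * t ^ d + u t * ∑ i : Fin d, b i * t ^ (i : ℕ) = 0 := by
      filter_upwards [hnear, hQu] with t ht htu
      have hl2 : HasDerivAt (fun s : ℂ => ((0 : Fin m → ℂ), t, s • b)) ((0 : Fin m → ℂ), (0 : ℂ), b) 0 := by
        have := ((hasDerivAt_const (0 : ℂ) (0 : Fin m → ℂ))).prodMk
          ((hasDerivAt_const (0 : ℂ) t).prodMk ((hasDerivAt_id (0 : ℂ)).smul_const b))
        simpa using this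
      have hQ' : HasFDerivAt Qf (fderiv ℂ Qf (0, t, 0)) ((0 : Fin m → ℂ), t, (0 : ℂ) • b) := by
        simpa using (hQd.differentiableAt (hUQ.mem_nhds (h0Q t ht.1))).hasFDerivAt
      have h1 : HasDerivAt (fun s : ℂ => Qf (0, t, s • b)) (D t) 0 :=
        HasFDerivAt.comp_hasDerivAt (f := fun s : ℂ => ((0 : Fin m → ℂ), t, s • b)) (0 : ℂ) hQ' hl2
      have h2 : HasDerivAt (fun s : ℂ => P (s • b) t) (∑ i : Fin d, b i * t ^ (i : ℕ)) 0 := by
        have : (fun s : ℂ => P (s • b) t) = fun s => t ^ d + s * ∑ i : Fin d, b i * t ^ (i : ℕ) := by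
          funext s
          simp [P, Finset.mul_sum, mul_assoc]
        rw [this]
        simpa using ((hasDerivAt_id (0 : ℂ)).mul_const (∑ i : Fin d, b i * t ^ (i : ℕ))).const_add (t ^ d)
      have h3 : HasDerivAt (fun s : ℂ => ∑ i : Fin d, Rf (0, s • b) i * t ^ (i : ℕ)) 0 0 := by
        have := HasDerivAt.fun_sum (u := Finset.univ) fun (i : Fin d) _ =>
          ((hasDerivAt_pi.mp hRs) i).mul_const (t ^ (i : ℕ))
        simpa using this
      have h4 := (h1.fun_mul h2).fun_add h3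
      have hev : (fun s : ℂ => Qf (0, t, s • b) * P (s • b) t + ∑ i : Fin d, Rf (0, s • b) i * t ^ (i : ℕ))
          =ᶠ[𝓝 0] fun _ => f (0, t) := by
        have hsm : Tendsto (fun s : ℂ => s • b) (𝓝 0) (𝓝 0) := (continuous_id.smul continuous_const).tendsto' 0 0 (by simp)
        filter_upwards [hsm.eventually (ball_mem_nhds 0 hB)] with s hs
        exact (hdiv 0 (mem_ball_self hr) t ht.1 _ hs).symm
      have h5 := h4.unique ((hasDerivAt_const (0 : ℂ) (f (0, t))).congr_of_eventuallyEq hev)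
      simp only [zero_smul, htu, hP0, add_zero] at h5
      exact h5
    have hb := coeff_eq_zero_of_eventually (d := d) (a := fun i => if hi : i < d then b ⟨i, hi⟩ else 0)
      (w := fun t => -D t / u t) (hD.neg.div hu hu0) (by
        filter_upwards [hkey, (hu.eventually_ne hu0).filter_mono nhdsWithin_le_nhds] with t ht hut
        rw [Finset.sum_range]
        simp only [Fin.is_lt, dite_true, Fin.eta]
        field_simp
        linear_combination ht)
    refine Prod.ext rfl (funext fun i => ?_)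
    simpa using hb i i.2
  let L : ((Fin m → ℂ) × (Fin d → ℂ)) ≃L[ℂ] ((Fin m → ℂ) × (Fin d → ℂ)) :=
    (LinearEquiv.ofInjectiveEndo (fderiv ℂ G (0, 0)).toLinearMap
      ((injective_iff_map_eq_zero _).mpr hinj)).toContinuousLinearEquiv
  have hL : (L : ((Fin m → ℂ) × (Fin d → ℂ)) →L[ℂ] ((Fin m → ℂ) × (Fin d → ℂ))) = fderiv ℂ G (0, 0) :=
    ContinuousLinearMap.ext fun v => rfl
  have hstrict : HasStrictFDerivAt G (L : ((Fin m → ℂ) × (Fin d → ℂ)) →L[ℂ] ((Fin m → ℂ) × (Fin d → ℂ))) (0, 0) := by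
    rw [hL]
    refine hasStrictFDerivAt_of_hasFDerivAt_of_continuousAt ?_ hGc
    filter_upwards [hUR.mem_nhds h0R] with w hw using (hGd.differentiableAt (hUR.mem_nhds hw)).hasFDerivAt
  let H := hstrict.toOpenPartialHomeomorph G
  have hG00 : G (0, 0) = (0, 0) := Prod.ext rfl hR0
  have hsrc : ((0 : Fin m → ℂ), (0 : Fin d → ℂ)) ∈ H.source := hstrict.mem_toOpenPartialHomeomorph_source
  have htgt : ((0 : Fin m → ℂ), (0 : Fin d → ℂ)) ∈ H.target := hG00 ▸ hstrict.image_mem_toOpenPartialHomeomorph_target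
  have hsymm0 : H.symm (0, 0) = (0, 0) := by
    rw [← hG00]
    exact H.left_inv hsrc |>.trans hG00.symm
  let N := range ((↑) : (((Fin m → ℂ) × (Fin d → ℂ)) ≃L[ℂ] ((Fin m → ℂ) × (Fin d → ℂ))) →
    (((Fin m → ℂ) × (Fin d → ℂ)) →L[ℂ] ((Fin m → ℂ) × (Fin d → ℂ))))
  have hgood : ∀ᶠ z in 𝓝 (0 : Fin m → ℂ), (z, (0 : Fin d → ℂ)) ∈ H.target ∧
      H.symm (z, 0) ∈ ball (0 : Fin m → ℂ) r ×ˢ ball (0 : Fin d → ℂ) (bnd R d) ∧ fderiv ℂ G (H.symm (z, 0)) ∈ N := by
    have hz : Tendsto (fun z : Fin m → ℂ => (z, (0 : Fin d → ℂ))) (𝓝 0) (𝓝 (0, 0)) :=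
      (continuous_id.prodMk continuous_const).tendsto 0
    have hs : Tendsto H.symm (𝓝 (0, 0)) (𝓝 (0, 0)) := by
      have := (H.continuousAt_symm htgt).tendsto
      rwa [hsymm0] at this
    refine (hz.eventually (H.open_target.mem_nhds htgt)).and ((hz.eventually (hs.eventually (hUR.mem_nhds h0R))).and ?_)
    exact hz.eventually (hs.eventually (hGc.eventually (ContinuousLinearEquiv.isOpen.mem_nhds ⟨L, hL⟩)))
  obtain ⟨δ, hδ, hδgood⟩ := Metric.eventually_nhds_iff_ball.mp hgood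
  let cz : (Fin m → ℂ) → (Fin d → ℂ) := fun z => (H.symm (z, 0)).2
  have hfst : ∀ z ∈ ball (0 : Fin m → ℂ) δ, H.symm (z, 0) = (z, cz z) ∧ Rf (z, cz z) = 0 := fun z hz => by
    have h1 : G (H.symm (z, 0)) = (z, 0) := H.right_inv (hδgood z hz).1
    have h2 : (H.symm (z, 0)).1 = z := congrArg Prod.fst h1
    have h3 : H.symm (z, 0) = (z, cz z) := Prod.ext h2 rfl
    refine ⟨h3, ?_⟩
    have h4 := congrArg Prod.snd h1
    rw [h3] at h4
    exact h4
  have hcd : DifferentiableOn ℂ cz (ball 0 δ) := fun z hz => by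
    obtain ⟨e, he⟩ := (hδgood z hz).2.2
    have hGe : HasFDerivAt H (e : ((Fin m → ℂ) × (Fin d → ℂ)) →L[ℂ] ((Fin m → ℂ) × (Fin d → ℂ))) (H.symm (z, 0)) := by
      rw [he]
      exact (hGd.differentiableAt (hUR.mem_nhds (hδgood z hz).2.1)).hasFDerivAt
    have h1 := (H.hasFDerivAt_symm (hδgood z hz).1 hGe).differentiableAt
    exact (differentiableAt_snd.comp z (h1.comp z (differentiableAt_id.prodMk (differentiableAt_const _)))).differentiableWithinAt
  have hcmem : ∀ z ∈ ball (0 : Fin m → ℂ) δ, z ∈ ball (0 : Fin m → ℂ) r ∧ cz z ∈ ball (0 : Fin d → ℂ) (bnd R d) := fun z hz => by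
    have := (hδgood z hz).2.1
    rw [(hfst z hz).1] at this
    exact this
  have hc0 : cz 0 = 0 := congrArg Prod.snd hsymm0
  let V : Set ((Fin m → ℂ) × ℂ) := ball 0 δ ×ˢ ball 0 R
  have hVo : IsOpen V := isOpen_ball.prod isOpen_ball
  have hqfd : DifferentiableOn ℂ (fun w : (Fin m → ℂ) × ℂ => Qf (w.1, w.2, cz w.1)) V :=
    hQd.comp (differentiableOn_fst.prodMk (differentiableOn_snd.prodMk (hcd.comp differentiableOn_fst fun w hw => hw.1)))
      fun w hw => ⟨(hcmem w.1 hw.1).1, hw.2, (hcmem w.1 hw.1).2⟩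
  have hqne : ∀ᶠ w in 𝓝 ((0 : Fin m → ℂ), (0 : ℂ)), w ∈ V ∧ Qf (w.1, w.2, cz w.1) ≠ 0 := by
    have hc : ContinuousAt (fun w : (Fin m → ℂ) × ℂ => Qf (w.1, w.2, cz w.1)) (0, 0) :=
      hqfd.continuousOn.continuousAt (hVo.mem_nhds ⟨mem_ball_self hδ, mem_ball_self hR⟩)
    refine (eventually_of_mem (hVo.mem_nhds ⟨mem_ball_self hδ, mem_ball_self hR⟩) fun w hw => hw).and (hc.eventually_ne ?_)
    show Qf (0, 0, cz 0) ≠ 0
    rw [hc0, hQ00]
    exact hu0
  obtain ⟨ε, hε, hεgood⟩ := Metric.eventually_nhds_iff_ball.mp hqne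
  have hball : ∀ z ∈ ball (0 : Fin m → ℂ) ε, ∀ t ∈ ball (0 : ℂ) ε, (z, t) ∈ ball ((0 : Fin m → ℂ), (0 : ℂ)) ε :=
    fun z hz t ht => by rw [← ball_prod_same]; exact ⟨hz, ht⟩
  refine ⟨ε, hε, fun w => Q R g (w.1, w.2, cz w.1) / Qf (w.1, w.2, cz w.1), ?_,
    fun i z => Rem R g (z, cz z) i, fun i => ?_, fun z hz t ht => ?_⟩
  · have hsub : ball (0 : Fin m → ℂ) ε ×ˢ ball (0 : ℂ) ε ⊆ V := fun w hw => (hεgood w (hball w.1 hw.1 w.2 hw.2)).1
    have hgq : DifferentiableOn ℂ (fun w : (Fin m → ℂ) × ℂ => Q R g (w.1, w.2, cz w.1)) V :=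
      (differentiableOn_Q (d := d) hR hRR hg).comp
        (differentiableOn_fst.prodMk (differentiableOn_snd.prodMk (hcd.comp differentiableOn_fst fun w hw => hw.1)))
        fun w hw => ⟨(hcmem w.1 hw.1).1, hw.2, (hcmem w.1 hw.1).2⟩
    exact (hgq.mono hsub).fun_mul ((hqfd.mono hsub).fun_inv fun w hw => (hεgood w (hball w.1 hw.1 w.2 hw.2)).2)
  · have hz0 : ∀ z ∈ ball (0 : Fin m → ℂ) ε, z ∈ ball (0 : Fin m → ℂ) δ := fun z hz =>
      (hεgood _ (hball z hz 0 (mem_ball_self hε))).1.1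
    exact (differentiableOn_pi.mp (differentiableOn_Rem (d := d) hR hRR hg) i).comp
      (differentiableOn_id.prodMk (hcd.mono hz0)) fun z hz => ⟨(hcmem z (hz0 z hz)).1, (hcmem z (hz0 z hz)).2⟩
  · obtain ⟨⟨hzδ, htR⟩, hne⟩ := hεgood _ (hball z hz t ht)
    obtain ⟨hzr, hcB⟩ := hcmem z hzδ
    have h1 := hdiv z hzr t htR _ hcB
    rw [(hfst z hzδ).2] at h1
    simp only [Pi.zero_apply, zero_mul, Finset.sum_const_zero, add_zero] at h1
    rw [h1, ← mul_assoc, div_mul_cancel₀ _ hne]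
    exact division_eq hR hRR hg hzr htR hcB

end Preparation

end Groth.Agent.H05EGA4.AnWeierstrass
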